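import Cfsg.Agent.Lib.JFourRec.FromPre
import Cfsg.Agent.Lib.J4P.Perms

/-!
# The last two relations of the presented group

The first says that three trios on a line have involutions with product one. The second is the commutator of the
involutions of two trios at distance two, moved to the right place.
-/

set_option autoImplicit false
set_option maxRecDepth 100000

namespace CfsgLib.JFourRec

open Cfsg CfsgLib.Golay CfsgLib.J4P CfsgLib.JankoFour
open scoped Pointwise

/-- The word `U` of the first relation, as lists. -/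
def uWord : List (List ℕ) := [listY, listX, listYinv, listX, listY, listX, listYinv, listX]
/-- The word of the inverse of `U`. -/
def uInv : List (List ℕ) := [listX, listY, listX, listYinv, listX, listY, listX, listYinv]
/-- The word `V` of the second relation, as lists. -/
def vWord : List (List ℕ) :=
  (List.replicate 3 [listX, listY]).flatten ++ [listY] ++ (List.replicate 6 [listX, listY]).flatten ++ [listY]
/-- The word of the inverse of `V`. -/
def vInv : List (List ℕ) :=
  [listYinv] ++ (List.replicate 6 [listYinv, listX]).flatten ++ [listYinv] ++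
    (List.replicate 3 [listYinv, listX]).flatten
/-- The word multiplying the commutator in the second relation. -/
def gWord : List (List ℕ) := (List.replicate 3 [listY, listX, listY, listX, listY, listX, listY]).flatten

/-- All the lists used. -/
def usedLists : List (List ℕ) :=
  [listX, listY, listYinv, k11L, k1L, k1pL, k2L, hDL, sigmaL, eAL, invL k11L, invL k1L, invL k1pL, invL hDL,
    invL (pprod gWord), pprod gWord, pprod uInv, pprod vInv, pprod vWord, pprod uWord]

theorem used_checks : usedLists.all m24Test = true ∧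
    eqCheck [invL k11L, k11L] [] = true ∧ eqCheck [invL k1L, k1L] [] = true ∧ eqCheck [invL k1pL, k1pL] [] = true ∧
    eqCheck [invL hDL, hDL] [] = true ∧ eqCheck [invL (pprod gWord), pprod gWord] [] = true ∧
    eqCheck [pprod uWord, pprod uInv] [] = true ∧ eqCheck [pprod vWord, pprod vInv] [] = true ∧
    eqCheck [listY, listY, listY] [] = true ∧ eqCheck [pprod gWord, pprod gWord, pprod gWord, pprod gWord] [] = true ∧
    eqCheck [hDL, eAL, invL hDL] [pprod gWord, pprod gWord] = true ∧
    inTrio (pprod [invL k11L, pprod uInv]) = true ∧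
    inTrio (pprod [invL k1L, invL k11L, listY, pprod uInv]) = true ∧
    inTrio (pprod [invL k1pL, invL k11L, listY, listY, pprod uInv]) = true ∧
    inTrio (pprod [hDL, k1L]) = true ∧ inTrio (pprod [pprod vWord, hDL, k2L]) = true ∧
    inTrio (pprod [pprod vWord, hDL, sigmaL, k1L]) = true ∧
    inTrio (pprod [pprod vWord, invL (pprod gWord), hDL, sigmaL, k1pL]) = true ∧
    inTrio (pprod gWord) = true ∧ inTrio (pprod [pprod vWord, pprod gWord, pprod gWord, pprod vInv]) = true ∧
    inTrio eAL = true ∧ inTrio sigmaL = true := by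
  decide +kernel

theorem pm_of_used {L : List ℕ} (h : L ∈ usedLists) : validL 24 L = true ∧ permOf ptEquiv L ∈ M24 :=
  ⟨valid_of_test (List.all_eq_true.1 used_checks.1 L h), mem_M24_of_test (List.all_eq_true.1 used_checks.1 L h)⟩

variable {G : Type*} [Group G] [Finite G] {z : G} {V : Subgroup G} {P : Finset GolayPt → G}
  {κ : Equiv.Perm GolayPt → G} {a : G}

/-- The permutation of a list. -/
local notation "π" => permOf ptEquiv

theorem tc_congr (S : Sys z V P κ a) {k l : Equiv.Perm GolayPt} (hk : k ∈ M24) (hl : l ∈ M24)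
    (h : l⁻¹ * k ∈ trioStab) : tc κ a k = tc κ a l := by
  have hc := S.comm _ h
  have h2 : κ k = κ l * κ (l⁻¹ * k) := by
    rw [← S.setup.kmul _ hl _ (mul_mem (inv_mem hl) hk), mul_inv_cancel_left]
  rw [tc, tc, h2, mul_inv_rev]
  calc κ l * κ (l⁻¹ * k) * a * ((κ (l⁻¹ * k))⁻¹ * (κ l)⁻¹)
      = κ l * (κ (l⁻¹ * k) * a * (κ (l⁻¹ * k))⁻¹) * (κ l)⁻¹ := by group
    _ = _ := by rw [hc.eq, mul_inv_cancel_right]

theorem tc_one (S : Sys z V P κ a) : tc κ a 1 = a := by simp [tc, S.setup.κ_one]

theorem tc_conj (S : Sys z V P κ a) {g k : Equiv.Perm GolayPt} (hg : g ∈ M24) (hk : k ∈ M24) :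
    κ g * tc κ a k * (κ g)⁻¹ = tc κ a (g * k) := by
  rw [tc, tc, S.setup.kmul _ hg _ hk]
  group

theorem tc_sq (S : Sys z V P κ a) (k : Equiv.Perm GolayPt) : tc κ a k * tc κ a k = 1 := by
  rw [tc]
  calc κ k * a * (κ k)⁻¹ * (κ k * a * (κ k)⁻¹) = κ k * (a * a) * (κ k)⁻¹ := by group
    _ = 1 := by rw [S.sq]; group

theorem conj_mul_pair (g x y : G) : g * x * g⁻¹ * (g * y * g⁻¹) = g * (x * y) * g⁻¹ := by group

/-- A translated line. -/
theorem line_at (S : Sys z V P κ a) {g : Equiv.Perm GolayPt} (hg : g ∈ M24) :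
    tc κ a g * tc κ a (g * k1) = tc κ a (g * k1p) := by
  have h1 : κ g * a * (κ g)⁻¹ = tc κ a g := rfl
  rw [← tc_conj S hg k1_mem, ← tc_conj S hg k1p_mem, ← h1, conj_mul_pair, S.line]

theorem comm_of_prod {x y w : G} (hx : x * x = 1) (hy : y * y = 1) (hw : w * w = 1) (h : x * y = w) :
    x * y = y * x := by
  have e : x * y * (x * y) = 1 := by rw [h, hw]
  calc x * y = x * (x * y * (x * y)) * y := by rw [e, mul_one]
    _ = (x * x) * (y * x) * (y * y) := by group
    _ = y * x := by rw [hx, hy, one_mul, mul_one]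

theorem pi_inv {L L' : List ℕ} (h : eqCheck [L', L] [] = true) : (π L)⁻¹ = π L' := by
  have := prod_eq h
  simp at this
  exact inv_eq_of_mul_eq_one_left this

theorem pi_pprod {Ls : List (List ℕ)} (h : ∀ L ∈ Ls, L ∈ usedLists) :
    π (pprod Ls) = (Ls.map π).prod := (pprod_spec fun L hL => (pm_of_used (h L hL)).1).2

theorem word_eq (S : Sys z V P κ a) {w : List (List ℕ)} (h : ∀ L ∈ w, L ∈ usedLists) :
    κ (π (pprod w)) = ((w.map π).map κ).prod := by
  rw [pi_pprod h]
  refine (kappa_prod S.setup fun k hk => ?_).2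
  obtain ⟨L, hL, rfl⟩ := List.mem_map.1 hk
  exact (pm_of_used (h L hL)).2

theorem kappa_inv_py (S : Sys z V P κ a) : κ (π listYinv) = (κ py)⁻¹ := by
  rw [← S.setup.κ_inv py_mem]
  refine congrArg κ ?_
  have hy := (pm_of_used (L := listY) (by simp [usedLists])).1
  have hy' := (pm_of_used (L := listYinv) (by simp [usedLists])).1
  exact (inv_of_lists hy hy' (by decide +kernel)).symm

theorem kappa_inv_px (S : Sys z V P κ a) : (κ px)⁻¹ = κ px := by
  have h := kappa_eq S.setup (A := [listX, listX]) (B := []) (by decide +kernel) rfl (by decide +kernel)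
  refine inv_eq_of_mul_eq_one_right ?_
  simpa [px] using h

theorem kappa_u (S : Sys z V P κ a) :
    κ (π (pprod uWord)) = κ py * κ px * (κ py)⁻¹ * κ px * κ py * κ px * (κ py)⁻¹ * κ px := by
  rw [word_eq S (by simp [uWord, usedLists])]
  simp [uWord, kappa_inv_py S, px, py, mul_assoc]

theorem kappa_v (S : Sys z V P κ a) :
    κ (π (pprod vWord)) = (κ px * κ py) ^ 3 * κ py * (κ px * κ py) ^ 6 * κ py := by
  rw [word_eq S (by simp [vWord, usedLists])]
  simp [vWord, px, py, pow_succ, mul_assoc]

theorem kappa_g (S : Sys z V P κ a) :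
    κ (π (pprod gWord)) = (κ py * κ px * κ py * κ px * κ py * κ px * κ py) ^ 3 := by
  rw [word_eq S (by simp [gWord, usedLists])]
  simp [gWord, px, py, pow_succ, mul_assoc]

/-- The first of the two relations. -/
theorem rel11 (S : Sys z V P κ a) :
    (κ py * ((κ py * κ px * (κ py)⁻¹ * κ px * κ py * κ px * (κ py)⁻¹ * κ px)⁻¹ * a *
      (κ py * κ px * (κ py)⁻¹ * κ px * κ py * κ px * (κ py)⁻¹ * κ px))) ^ 3 = 1 := by
  obtain ⟨-, i11, i1, i1p, -, -, iu, -, y3, -, -, a1, a2, a3, -⟩ := used_checks
  have hm : ∀ {L}, L ∈ usedLists → π L ∈ M24 := fun h => (pm_of_used h).2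
  have hk11 : k11 ∈ M24 := k11_mem
  set ui := π (pprod uInv) with hui
  have huiM : ui ∈ M24 := hm (by simp [usedLists])
  have hu : (π (pprod uWord))⁻¹ = ui := by
    refine inv_eq_of_mul_eq_one_right ?_
    simpa using prod_eq iu
  rw [← kappa_u S]
  have ht : (κ (π (pprod uWord)))⁻¹ * a * κ (π (pprod uWord)) = tc κ a ui := by
    rw [tc, ← hu, S.setup.κ_inv (hm (by simp [usedLists]) : π (pprod uWord) ∈ M24), inv_inv]
  rw [ht]
  have py3 : κ py * (κ py * κ py) = 1 := by
    have := kappa_eq S.setup (A := [listY, listY, listY]) (B := []) (by decide +kernel) rfl y3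
    simpa [py, mul_assoc] using this
  have hpy : py ∈ M24 := py_mem
  have h0 : tc κ a k11 = tc κ a ui := by
    refine (tc_congr S huiM hk11 ?_).symm
    rw [show k11⁻¹ * ui = π (pprod [invL k11L, pprod uInv]) by
      rw [pi_pprod (by simp [usedLists])]; simp [hui, k11, pi_inv i11]]
    exact mem_trioStab a1
  have h1 : tc κ a (k11 * k1) = κ py * tc κ a ui * (κ py)⁻¹ := by
    rw [tc_conj S hpy huiM]
    refine (tc_congr S (mul_mem hpy huiM) (mul_mem hk11 k1_mem) ?_).symm
    rw [show (k11 * k1)⁻¹ * (py * ui) = π (pprod [invL k1L, invL k11L, listY, pprod uInv]) by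
      rw [pi_pprod (by simp [usedLists])]; simp [hui, k11, k1, py, pi_inv i11, pi_inv i1, mul_assoc]]
    exact mem_trioStab a2
  have h2 : tc κ a (k11 * k1p) = κ py * (κ py * tc κ a ui * (κ py)⁻¹) * (κ py)⁻¹ := by
    rw [tc_conj S hpy huiM, tc_conj S hpy (mul_mem hpy huiM)]
    refine (tc_congr S (mul_mem hpy (mul_mem hpy huiM)) (mul_mem hk11 k1p_mem) ?_).symm
    rw [show (k11 * k1p)⁻¹ * (py * (py * ui)) = π (pprod [invL k1pL, invL k11L, listY, listY, pprod uInv]) by
      rw [pi_pprod (by simp [usedLists])]; simp [hui, k11, k1p, py, pi_inv i11, pi_inv i1p, mul_assoc]]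
    exact mem_trioStab a3
  have hl := line_at S hk11
  rw [h0, h1, h2] at hl
  set t := tc κ a ui
  set t1 := κ py * t * (κ py)⁻¹
  have hsq := tc_sq S ui
  have hsq1 : t1 * t1 = 1 := by
    calc t1 * t1 = κ py * (t * t) * (κ py)⁻¹ := conj_mul_pair _ _ _
      _ = 1 := by rw [hsq]; group
  have hsq2 : κ py * t1 * (κ py)⁻¹ * (κ py * t1 * (κ py)⁻¹) = 1 := by
    rw [conj_mul_pair, hsq1]; group
  calc (κ py * t) ^ 3 = t1 * (κ py * t1 * (κ py)⁻¹) * (κ py * (κ py * κ py)) * t := by
        simp only [t1, pow_succ, pow_zero, one_mul]; group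
    _ = t1 * (t * t1) * t := by rw [py3, mul_one, hl]
    _ = t1 * (t1 * t) * t := by rw [comm_of_prod hsq hsq1 hsq2 hl]
    _ = (t1 * t1) * (t * t) := by group
    _ = 1 := by rw [hsq1, hsq, one_mul]

/-- The second of the two relations, from the commutator. -/
theorem rel12 (S : Sys z V P κ a)
    (hc : (tc κ a k1 * tc κ a k2) * (tc κ a k1 * tc κ a k2) = a * κ eA) :
    ((κ py * κ px * κ py * κ px * κ py * κ px * κ py) ^ 3 * a *
      (((κ px * κ py) ^ 3 * κ py * (κ px * κ py) ^ 6 * κ py)⁻¹ * a *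
        ((κ px * κ py) ^ 3 * κ py * (κ px * κ py) ^ 6 * κ py))) ^ 2 = 1 := by
  obtain ⟨-, -, -, -, ih, ig, -, iv, -, g4, hgg, -, -, -, b1, b2, b4, b5, b6, b7, b8, b9⟩ := used_checks
  have hm : ∀ {L}, L ∈ usedLists → π L ∈ M24 := fun h => (pm_of_used h).2
  rw [← kappa_v S, ← kappa_g S]
  set g := π (pprod gWord) with hg
  set vi := π (pprod vInv) with hvi
  set W := π (pprod vWord) with hW
  have hgM : g ∈ M24 := hm (by simp [usedLists])
  have hviM : vi ∈ M24 := hm (by simp [usedLists])
  have hWM : W ∈ M24 := hm (by simp [usedLists])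
  have hh : hD ∈ M24 := hD_mem
  have hs : sigma ∈ M24 := sigma_mem
  have hWi : W⁻¹ = vi := by
    refine inv_eq_of_mul_eq_one_right ?_
    simpa using prod_eq iv
  have hvii : vi⁻¹ = W := by rw [← hWi, inv_inv]
  have ht : (κ W)⁻¹ * a * κ W = tc κ a vi := by
    rw [tc, ← hWi, S.setup.κ_inv hWM, inv_inv]
  rw [ht]
  set tB := tc κ a vi
  -- the middle trio and its lines
  have e1 : tc κ a (hD * k1) = a := by
    refine (tc_congr S (mul_mem hh k1_mem) (one_mem _) ?_).trans ?_
    · rw [show (1 : Equiv.Perm GolayPt)⁻¹ * (hD * k1) = π (pprod [hDL, k1L]) by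
        rw [pi_pprod (by simp [usedLists])]; simp [hD, k1]]
      exact mem_trioStab b1
    · exact tc_one S
  have e2 : tc κ a (hD * k2) = tB := by
    refine tc_congr S (mul_mem hh k2_mem) hviM ?_
    rw [show vi⁻¹ * (hD * k2) = π (pprod [pprod vWord, hDL, k2L]) by
      rw [pi_pprod (by simp [usedLists])]; simp [hvii, hW, hD, k2]]
    exact mem_trioStab b2
  have e4 : tc κ a (hD * sigma * k1) = tB := by
    refine tc_congr S (mul_mem (mul_mem hh hs) k1_mem) hviM ?_
    rw [show vi⁻¹ * (hD * sigma * k1) = π (pprod [pprod vWord, hDL, sigmaL, k1L]) by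
      rw [pi_pprod (by simp [usedLists])]; simp [hvii, hW, hD, sigma, k1, mul_assoc]]
    exact mem_trioStab b4
  have e5 : tc κ a (hD * sigma * k1p) = κ g * tB * (κ g)⁻¹ := by
    rw [tc_conj S hgM hviM]
    refine tc_congr S (mul_mem (mul_mem hh hs) k1p_mem) (mul_mem hgM hviM) ?_
    rw [show (g * vi)⁻¹ * (hD * sigma * k1p) =
        π (pprod [pprod vWord, invL (pprod gWord), hDL, sigmaL, k1pL]) by
      rw [pi_pprod (by simp [usedLists])]; simp [hvii, hW, hg, hD, sigma, k1p, pi_inv ig, mul_assoc]]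
    exact mem_trioStab b5
  have eD : tc κ a (hD * sigma) = tc κ a hD := by
    refine tc_congr S (mul_mem hh hs) hh ?_
    rw [inv_mul_cancel_left]
    exact mem_trioStab b9
  set D := tc κ a hD
  have hl1 := line_at S hh
  rw [e1] at hl1
  have hl2 := line_at S (mul_mem hh hs)
  rw [e4, e5, eD] at hl2
  have hD2 : D * D = 1 := tc_sq S hD
  have hcommA : D * a = a * D := comm_of_prod hD2 S.sq (tc_sq S _) hl1
  have hgB : κ g * tB * (κ g)⁻¹ * (κ g * tB * (κ g)⁻¹) = 1 := by rw [conj_mul_pair, tc_sq S]; group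
  have hcommB : D * tB = tB * D := comm_of_prod hD2 (tc_sq S _) hgB hl2
  -- the commutator moved
  have hE : (a * tB) * (a * tB) = D * (κ g * κ g) := by
    have h := congrArg (fun x => κ hD * x * (κ hD)⁻¹) hc
    simp only [← conj_mul_pair] at h
    rw [tc_conj S hh k1_mem, tc_conj S hh k2_mem, e1, e2] at h
    rw [h]
    have e : κ hD * κ eA * (κ hD)⁻¹ = κ g * κ g := by
      have := kappa_eq S.setup (A := [hDL, eAL, invL hDL]) (B := [pprod gWord, pprod gWord])
        (by decide +kernel) (by decide +kernel) hgg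
      simp only [List.map_cons, List.map_nil, List.prod_cons, List.prod_nil, mul_one] at this
      rw [show π (invL hDL) = hD⁻¹ from (pi_inv ih).symm, S.setup.κ_inv hh] at this
      simpa [hg, hD, eA, mul_assoc] using this
    rw [e]
    rfl
  have hga : Commute (κ g) a := S.comm g (mem_trioStab b6)
  have hEB : Commute (κ g * κ g) tB := by
    have hmem : W * g * g * vi ∈ trioStab := by
      rw [show W * g * g * vi = π (pprod [pprod vWord, pprod gWord, pprod gWord, pprod vInv]) by
        rw [pi_pprod (by simp [usedLists])]; simp [hW, hg, hvi, mul_assoc]]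
      exact mem_trioStab b7
    have h := tc_congr S (mul_mem (mul_mem hgM hgM) hviM) hviM (by rwa [hvii, ← mul_assoc, ← mul_assoc])
    rw [← tc_conj S (mul_mem hgM hgM) hviM, S.setup.kmul _ hgM _ hgM] at h
    exact mul_inv_eq_iff_eq_mul.1 h
  have hEsq : κ g * κ g * (κ g * κ g) = 1 := by
    have := kappa_eq S.setup (A := [pprod gWord, pprod gWord, pprod gWord, pprod gWord]) (B := [])
      (by decide +kernel) rfl g4
    simpa [hg, mul_assoc] using this
  calc (κ g * a * tB) ^ 2 = κ g * a * tB * (κ g * a * tB) := pow_two _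
    _ = a * (κ g * tB * (κ g)⁻¹) * (κ g * κ g) * a * tB := by
        rw [show κ g * a = a * κ g from hga.eq]
        calc a * κ g * tB * (a * κ g * tB) = a * κ g * tB * (κ g * a * tB) := by rw [hga.eq]
          _ = _ := by group
    _ = a * (D * tB) * ((κ g * κ g) * (a * tB)) := by rw [hl2]; group
    _ = a * (D * tB) * ((a * tB) * (κ g * κ g)) := by rw [((hga.mul_left hga).mul_right hEB).eq]
    _ = D * (a * tB * (a * tB)) * (κ g * κ g) := by
        calc a * (D * tB) * ((a * tB) * (κ g * κ g)) = (a * D) * (tB * (a * tB)) * (κ g * κ g) := by group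
          _ = (D * a) * (tB * (a * tB)) * (κ g * κ g) := by rw [hcommA]
          _ = _ := by group
    _ = (D * D) * (κ g * κ g * (κ g * κ g)) := by rw [hE]; group
    _ = 1 := by rw [hD2, hEsq, one_mul]

end CfsgLib.JFourRec
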