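import Cfsg.Agent.Lib.JFourRec.Data
import Cfsg.Agent.Lib.Golay.Code

/-!
# Computing with permutations given by lists and with the group of the trio
-/

set_option autoImplicit false

namespace CfsgLib.JFourRec

open Cfsg CfsgLib.Golay
open scoped Pointwise

theorem valid_of_test {L : List ℕ} (h : m24Test L = true) : validL 24 L = true := by
  simp only [m24Test, Bool.and_eq_true] at h
  exact h.1

theorem valid_comp {A B : List ℕ} (hA : validL 24 A = true) (hB : validL 24 B = true) :
    validL 24 (compL A B) = true := by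
  refine validL_iff.2 ⟨by rw [compL_length, (validL_iff.1 hB).1], fun i hi => ?_, fun j hj => ?_⟩
  · obtain ⟨b, hb, rfl⟩ := List.mem_map.1 hi
    exact validL_getD_lt hA ((validL_iff.1 hB).2.1 b hb)
  · obtain ⟨i, hi⟩ := validL_surj hA ⟨j, hj⟩
    exact List.mem_map.2 ⟨i.val, (validL_iff.1 hB).2.2 i.val i.isLt, hi⟩

/-- The list of a product of listed permutations. -/
def pprod : List (List ℕ) → List ℕ
  | [] => List.range 24
  | L :: r => compL L (pprod r)

theorem pprod_spec : ∀ {Ls : List (List ℕ)}, (∀ L ∈ Ls, validL 24 L = true) →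
    validL 24 (pprod Ls) = true ∧ permOf ptEquiv (pprod Ls) = (Ls.map (permOf ptEquiv)).prod
  | [], _ => ⟨by decide +kernel, by rw [pprod, permOf_id _ (by decide +kernel)]; rfl⟩
  | L :: r, h => by
    obtain ⟨hv, he⟩ := pprod_spec (Ls := r) fun x hx => h x (List.mem_cons_of_mem _ hx)
    have hL := h L List.mem_cons_self
    have hc := valid_comp hL hv
    exact ⟨hc, by rw [pprod, permOf_comp _ hL hv hc, he, List.map_cons, List.prod_cons]⟩

/-- The check that two products of listed permutations agree. -/
def eqCheck (A B : List (List ℕ)) : Bool :=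
  A.all (validL 24) && B.all (validL 24) && (pprod A == pprod B)

theorem prod_eq {A B : List (List ℕ)} (h : eqCheck A B = true) :
    (A.map (permOf ptEquiv)).prod = (B.map (permOf ptEquiv)).prod := by
  simp only [eqCheck, Bool.and_eq_true, List.all_eq_true, beq_iff_eq] at h
  rw [← (pprod_spec h.1.1).2, ← (pprod_spec h.1.2).2, h.2]

theorem permOf_ne_one {L : List ℕ} (hv : validL 24 L = true) (h : (L == List.range 24) = false) :
    permOf ptEquiv L ≠ 1 := by
  intro e
  have hL : L = List.range 24 := by
    refine List.ext_getElem (by rw [(validL_iff.1 hv).1, List.length_range]) fun i h1 h2 => ?_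
    have hi : i < 24 := by simpa using h2
    have := permOf_apply ptEquiv hv (pt i)
    rw [e, Equiv.Perm.one_apply, ptEquiv_pt hi, List.getD_eq_getElem _ _ h1] at this
    rw [List.getElem_range]
    exact this.symm
  rw [hL] at h
  simp at h

theorem eq_of_perm {A B : List ℕ} (hA : validL 24 A = true) (hB : validL 24 B = true)
    (h : permOf ptEquiv A = permOf ptEquiv B) : A = B := by
  refine List.ext_getElem (by rw [(validL_iff.1 hA).1, (validL_iff.1 hB).1]) fun i h1 h2 => ?_
  have hi : i < 24 := (validL_iff.1 hA).1 ▸ h1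
  have e1 := permOf_apply ptEquiv hA (pt i)
  have e2 := permOf_apply ptEquiv hB (pt i)
  rw [h, e2, ptEquiv_pt hi, List.getD_eq_getElem _ _ h1, List.getD_eq_getElem _ _ h2] at e1
  exact e1.symm

theorem perm_smul_toSet {L : List ℕ} (h : validL 24 L = true) {m m' : ℕ} (he : (imgMask L m == m') = true) :
    permOf ptEquiv L • toSet m = toSet m' := by
  rw [smul_toSet h, beq_iff_eq.1 he]

/-- The check that a listed permutation is in the group of the trio. -/
def inTrio (L : List ℕ) : Bool :=
  m24Test L && (trioMasks.all fun m => (trioMasks.map (imgMask L)).contains m) &&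
    ((trioMasks.map (imgMask L)).all fun m => trioMasks.contains m)

theorem mem_trioStab {L : List ℕ} (h : inTrio L = true) : permOf ptEquiv L ∈ trioStab := by
  simp only [inTrio, Bool.and_eq_true, List.all_eq_true, List.contains_iff_mem] at h
  obtain ⟨⟨hM, h1⟩, h2⟩ := h
  refine Subgroup.mem_inf.2 ⟨mem_M24_of_test hM, MulAction.mem_stabilizer_iff.2 ?_⟩
  ext s
  simp only [trio, Finset.mem_smul_finset, List.mem_toFinset, List.mem_map]
  constructor
  · rintro ⟨_, ⟨m, hm, rfl⟩, rfl⟩
    exact ⟨imgMask L m, h2 _ (List.mem_map.2 ⟨m, hm, rfl⟩), (smul_toSet (valid_of_test hM) m).symm⟩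
  · rintro ⟨m, hm, rfl⟩
    obtain ⟨m', hm', rfl⟩ := List.mem_map.1 (h1 m hm)
    exact ⟨toSet m', ⟨m', hm', rfl⟩, smul_toSet (valid_of_test hM) m'⟩

theorem trioStab_le : trioStab ≤ M24 := inf_le_left

theorem octA_trio {k : Equiv.Perm GolayPt} (hk : k ∈ trioStab) :
    ∃ m ∈ trioMasks, k • octA = toSet m := by
  have h : k • octA ∈ k • trio := Finset.smul_mem_smul_finset (by
    simp only [trio, List.mem_toFinset, List.mem_map]
    exact ⟨8484900, by decide, rfl⟩)
  rw [MulAction.mem_stabilizer_iff.1 (Subgroup.mem_inf.1 hk).2] at h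
  simp only [trio, List.mem_toFinset, List.mem_map] at h
  obtain ⟨m, hm, e⟩ := h
  exact ⟨m, hm, e.symm⟩

end CfsgLib.JFourRec
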