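import Cfsg.Agent.Lib.JankoFour.Final
import Cfsg.Agent.Lib.JankoFour.Split
import Cfsg.Agent.Lib.JankoFour.Rigid.SplitCert
import Cfsg.Agent.Lib.JankoFour.Rigid.Facts

/-!
# Groups of Janko-four type have two classes of involutions
-/

set_option autoImplicit false
set_option linter.unusedSectionVars false

namespace CfsgLib.JFourRec

open Subgroup Cfsg CfsgLib.JankoFour

variable {G : Type*} [Group G] [Finite G] [IsSimpleGroup G]

/-- The involutions not conjugate to the central one form one class. -/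
theorem involution_cases {z : G} (hJ : IsOfJankoFourTypeAt z) :
    (∃ u : G, orderOf u = 2 ∧ ¬ IsConj z u) ∧
      ∀ x y : G, orderOf x = 2 → orderOf y = 2 → ¬ IsConj z x → ¬ IsConj z y → IsConj x y := by
  classical
  obtain ⟨P, h⟩ := hJ
  obtain ⟨ι, _, q, _, π, n, M, φ, m, -, -⟩ := exists_model_of_facts h (fun c => c.facts)
  obtain ⟨s, A, Ab, T₀, c, -⟩ := Thompson.exists_ctx m
  obtain ⟨K, hK, hKA, hKA'⟩ :=
    exists_complement c (m.core.exists_split m.facts c.oth.cls.ne c.oth.cls.sing c.oth.cls.card c.oth.hex)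
  obtain ⟨z', t, hz'A, htA, ht1, hzz', hzt, h1, h2, -⟩ := m.big_orbits' c.elem c.card
  have ht2 : orderOf t = 2 := by
    haveI := Fact.mk Nat.prime_two
    exact orderOf_eq_prime (c.elem.2 t htA) ht1
  refine ⟨⟨t, ht2, hzt⟩, ?_⟩
  set O1 := {v : G | ∃ k ∈ Subgroup.normalizer (A : Set G), k * z' * k⁻¹ = v}
  set O2 := {v : G | ∃ k ∈ Subgroup.normalizer (A : Set G), k * t * k⁻¹ = v}
  have hO1 : ∀ v ∈ O1, IsConj z v := fun v ⟨k, _, e⟩ => hzz'.trans (isConj_iff.2 ⟨k, e⟩)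
  have hO2 : ∀ v ∈ O2, ¬ IsConj z v := fun v ⟨k, _, e⟩ hv => hzt (hv.trans (isConj_iff.2 ⟨k, e⟩).symm)
  have hsub : O1 ∪ O2 ⊆ (A : Set G) \ {1} := by
    rintro v (⟨k, hk, rfl⟩ | ⟨k, hk, rfl⟩)
    · refine ⟨(mem_normalizer_iff.1 hk _).1 hz'A, fun e => ?_⟩
      rw [Set.mem_singleton_iff, conj_eq_one_iff] at e
      rw [e] at hzz'
      have := h.1
      rw [isConj_one_right.1 hzz'.symm, orderOf_one] at this
      omega
    · exact ⟨(mem_normalizer_iff.1 hk _).1 htA, fun e => ht1 (conj_eq_one_iff.1 e)⟩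
  have heq : O1 ∪ O2 = (A : Set G) \ {1} := by
    refine Set.eq_of_subset_of_ncard_le hsub ?_ (Set.toFinite _)
    rw [Set.ncard_union_eq (Set.disjoint_left.2 fun v hv hv' => hO2 v hv' (hO1 v hv)) (Set.toFinite _) (Set.toFinite _),
      h1, h2, Set.ncard_sdiff_singleton_of_mem (one_mem A), ← Nat.card_coe_set_eq, SetLike.coe_sort_coe, c.card]
    norm_num
  have key : ∀ x : G, orderOf x = 2 → ¬ IsConj z x → IsConj t x := by
    intro x hx hzx
    obtain ⟨g, hg⟩ := exists_conj_into c hK hKA hKA' hx hzx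
    have hgx : IsConj x (g * x * g⁻¹) := isConj_iff.2 ⟨g, rfl⟩
    have hne : g * x * g⁻¹ ≠ 1 := fun e => by
      rw [conj_eq_one_iff.1 e, orderOf_one] at hx
      omega
    have hm : g * x * g⁻¹ ∈ O1 ∪ O2 := heq ▸ ⟨hg, hne⟩
    rcases hm with hm | ⟨k, hk, e⟩
    · exact absurd ((hO1 _ hm).trans hgx.symm) hzx
    · exact (isConj_iff.2 ⟨k, e⟩).trans hgx.symm
  intro x y hx hy hzx hzy
  exact (key x hx hzx).symm.trans (key y hy hzy)

end CfsgLib.JFourRec
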