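import Cfsg.Agent.Lib.J4P.Perms
import Cfsg.Agent.Lib.JankoFour.TwoTen.Defs

/-!
# A trio, its group, and explicit elements for the two relations of the presented group
-/

set_option autoImplicit false
set_option maxRecDepth 100000

namespace CfsgLib.JFourRec

open Cfsg CfsgLib.Golay
open scoped Pointwise

/-- The octads of the trio. -/
def trioMasks : List ℕ := [1737489, 6554826, 8484900]

/-- The octads of the first neighbour. -/
def nbrMasks : List ℕ := [2229713, 6062602, 8484900]

/-- The octads of the third trio on the line. -/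
def thirdMasks : List ℕ := [4587803, 8484900, 3704512]

/-- The octads of the second neighbour. -/
def otherMasks : List ℕ := [8966165, 6554826, 1256224]

/-- The trio. -/
def trio : Finset (Finset GolayPt) := (trioMasks.map toSet).toFinset

/-- The common octad of the trio and its first neighbour. -/
def octA : Finset GolayPt := toSet 8484900

/-- The common octad of the trio and its second neighbour. -/
def octB : Finset GolayPt := toSet 6554826

/-- The group of the trio. -/
def trioStab : Subgroup (Equiv.Perm GolayPt) := M24 ⊓ MulAction.stabilizer (Equiv.Perm GolayPt) trio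

/-- The outside base point. -/
def outPt : GolayPt := pt 5

/-- A vector fixed by the involution of the trio. -/
def setC : Finset GolayPt := toSet 69668

/-- The vector taken into the commutator. -/
def setD : Finset GolayPt := toSet 4489728

/-- The vector part of the commutator. -/
def setE : Finset GolayPt := toSet 131345

/-- Two points. -/
def duad : Finset GolayPt := toSet 6144

/-- A list: a permutation carrying the base octad to the common octad and point 5 to point 0. -/
def k0L : List ℕ := [12, 11, 5, 16, 13, 0, 3, 14, 15, 10, 23, 4, 2, 19, 9, 21, 1, 6, 7, 8, 22, 17, 20, 18]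

/-- The permutation of the list `k0L`. -/
noncomputable def k0 : Equiv.Perm GolayPt := permOf ptEquiv k0L

/-- A list: moves the trio to the first neighbour. -/
def k1L : List ℕ := [3, 6, 14, 0, 9, 13, 7, 17, 18, 22, 8, 23, 16, 2, 11, 1, 12, 20, 10, 19, 15, 21, 4, 5]

/-- The permutation of the list `k1L`. -/
noncomputable def k1 : Equiv.Perm GolayPt := permOf ptEquiv k1L

/-- A list: moves the trio to the third trio on that line. -/
def k1pL : List ℕ := [21, 1, 23, 4, 6, 5, 0, 22, 19, 10, 8, 14, 11, 13, 2, 9, 16, 20, 17, 15, 7, 3, 18, 12]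

/-- The permutation of the list `k1pL`. -/
noncomputable def k1p : Equiv.Perm GolayPt := permOf ptEquiv k1pL

/-- A list: moves the trio to the second neighbour. -/
def k2L : List ℕ := [0, 5, 18, 11, 4, 3, 9, 8, 19, 12, 20, 6, 21, 22, 1, 14, 7, 15, 13, 23, 2, 17, 16, 10]

/-- The permutation of the list `k2L`. -/
noncomputable def k2 : Equiv.Perm GolayPt := permOf ptEquiv k2L

/-- A list: an element of order seven of the trio group. -/
def sAL : List ℕ := [0, 1, 2, 6, 19, 12, 18, 21, 4, 17, 7, 16, 23, 11, 5, 8, 14, 15, 22, 20, 9, 3, 10, 13]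

/-- The permutation of the list `sAL`. -/
noncomputable def sA : Equiv.Perm GolayPt := permOf ptEquiv sAL

/-- A list: an element of order three commuting with it. -/
def rAL : List ℕ := [2, 0, 1, 17, 12, 18, 15, 20, 5, 11, 19, 21, 22, 7, 6, 14, 3, 16, 8, 23, 13, 9, 4, 10]

/-- The permutation of the list `rAL`. -/
noncomputable def rA : Equiv.Perm GolayPt := permOf ptEquiv rAL

/-- A list: an involution inverting the element of order three. -/
def tauL : List ℕ := [1, 0, 2, 17, 22, 5, 15, 20, 18, 21, 19, 11, 12, 13, 14, 6, 16, 3, 8, 10, 7, 9, 4, 23]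

/-- The permutation of the list `tauL`. -/
noncomputable def tau : Equiv.Perm GolayPt := permOf ptEquiv tauL

/-- A list: exchanges the two neighbours. -/
def sigmaL : List ℕ := [0, 5, 6, 11, 4, 22, 12, 23, 19, 9, 2, 18, 10, 3, 7, 17, 1, 15, 13, 8, 20, 14, 16, 21]

/-- The permutation of the list `sigmaL`. -/
noncomputable def sigma : Equiv.Perm GolayPt := permOf ptEquiv sigmaL

/-- A list: the element of the trio kernel in the relation. -/
def eAL : List ℕ := [0, 22, 12, 18, 4, 16, 10, 21, 8, 9, 6, 13, 2, 11, 23, 15, 5, 17, 3, 19, 20, 7, 1, 14]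

/-- The permutation of the list `eAL`. -/
noncomputable def eA : Equiv.Perm GolayPt := permOf ptEquiv eAL

/-- A list: fixes the first neighbour and moves the second. -/
def w2L : List ℕ := [0, 1, 5, 22, 8, 12, 6, 10, 17, 20, 21, 23, 2, 13, 11, 15, 16, 4, 3, 9, 19, 7, 18, 14]

/-- The permutation of the list `w2L`. -/
noncomputable def w2 : Equiv.Perm GolayPt := permOf ptEquiv w2L

/-- A list: fixes the first neighbour and moves the second to the third on the line. -/
def w3L : List ℕ := [0, 1, 13, 22, 17, 23, 7, 21, 8, 19, 6, 5, 14, 12, 2, 20, 11, 4, 18, 15, 9, 10, 3, 16]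

/-- The permutation of the list `w3L`. -/
noncomputable def w3 : Equiv.Perm GolayPt := permOf ptEquiv w3L

/-- A list: carries the base line to the line of the moved neighbours. -/
def kl2L : List ℕ := [11, 4, 6, 19, 9, 3, 2, 14, 8, 16, 0, 1, 21, 7, 18, 20, 10, 5, 23, 13, 17, 15, 12, 22]

/-- The permutation of the list `kl2L`. -/
noncomputable def kl2 : Equiv.Perm GolayPt := permOf ptEquiv kl2L

/-- A list: carries the base line to the line of the first relation. -/
def k11L : List ℕ := [4, 7, 12, 16, 1, 10, 6, 13, 14, 3, 5, 18, 9, 11, 15, 22, 20, 19, 0, 2, 21, 23, 17, 8]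

/-- The permutation of the list `k11L`. -/
noncomputable def k11 : Equiv.Perm GolayPt := permOf ptEquiv k11L

/-- A list: the permutation part of the commutator with a vector. -/
def kEL : List ℕ := [17, 18, 12, 22, 8, 16, 21, 10, 4, 19, 7, 13, 2, 11, 23, 20, 5, 0, 1, 9, 15, 6, 3, 14]

/-- The permutation of the list `kEL`. -/
noncomputable def kE : Equiv.Perm GolayPt := permOf ptEquiv kEL

/-- A list: first mover of the vector. -/
def q1L : List ℕ := [0, 1, 2, 3, 4, 5, 6, 7, 8, 9, 10, 11, 12, 13, 14, 15, 16, 17, 18, 19, 20, 21, 22, 23]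

/-- The permutation of the list `q1L`. -/
noncomputable def q1 : Equiv.Perm GolayPt := permOf ptEquiv q1L

/-- A list: second mover of the vector. -/
def q2L : List ℕ := [0, 1, 2, 3, 9, 23, 18, 22, 19, 20, 6, 13, 11, 12, 5, 8, 16, 17, 10, 15, 4, 7, 21, 14]

/-- The permutation of the list `q2L`. -/
noncomputable def q2 : Equiv.Perm GolayPt := permOf ptEquiv q2L

/-- A list: carries the trio to the middle trio of the last relation. -/
def hDL : List ℕ := [5, 19, 7, 0, 14, 22, 2, 23, 12, 15, 11, 10, 18, 21, 1, 20, 6, 13, 9, 4, 8, 16, 17, 3]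

/-- The permutation of the list `hDL`. -/
noncomputable def hD : Equiv.Perm GolayPt := permOf ptEquiv hDL

/-- Generators of the kernel of the trio group on its octads and lines. -/
def kernL : List (List ℕ) := [[0, 3, 16, 1, 4, 12, 7, 6, 8, 9, 21, 23, 5, 14, 13, 15, 2, 17, 22, 19, 20, 10, 18, 11],
  [0, 6, 14, 7, 4, 11, 1, 3, 8, 9, 22, 5, 23, 16, 2, 15, 13, 17, 21, 19, 20, 18, 10, 12],
  [0, 10, 23, 21, 4, 13, 22, 18, 8, 9, 1, 16, 14, 5, 12, 15, 11, 17, 7, 19, 20, 3, 6, 2],
  [4, 1, 12, 3, 0, 16, 6, 7, 17, 20, 10, 13, 2, 11, 23, 19, 5, 8, 18, 15, 9, 21, 22, 14],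
  [8, 1, 5, 3, 17, 2, 6, 7, 0, 15, 10, 14, 16, 23, 11, 9, 12, 4, 18, 20, 19, 21, 22, 13],
  [9, 1, 11, 3, 20, 14, 6, 7, 15, 0, 10, 2, 13, 12, 5, 8, 23, 19, 18, 17, 4, 21, 22, 16]]

/-- Generators of the group fixing both neighbours. -/
def pairL : List (List ℕ) := [[0, 1, 23, 18, 4, 11, 6, 21, 17, 20, 10, 5, 14, 16, 12, 15, 13, 8, 3, 19, 9, 7, 22, 2],
  [0, 3, 2, 1, 4, 5, 21, 10, 8, 20, 7, 13, 12, 11, 23, 19, 16, 17, 22, 15, 9, 6, 18, 14],
  [4, 1, 12, 3, 0, 16, 6, 7, 17, 20, 10, 13, 2, 11, 23, 19, 5, 8, 18, 15, 9, 21, 22, 14],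
  [8, 1, 5, 3, 17, 2, 6, 7, 0, 15, 10, 14, 16, 23, 11, 9, 12, 4, 18, 20, 19, 21, 22, 13],
  [9, 6, 5, 7, 20, 2, 1, 3, 15, 0, 22, 14, 16, 23, 11, 8, 12, 19, 21, 17, 4, 18, 10, 13]]

theorem list_checks : ([k0L, k1L, k1pL, k2L, sAL, rAL, tauL, sigmaL, eAL, w2L, w3L, kl2L, k11L, kEL, q1L, q2L, hDL] ++ kernL ++ pairL).all m24Test = true := by decide +kernel

theorem test_of_mem {L : List ℕ} (h : L ∈ [k0L, k1L, k1pL, k2L, sAL, rAL, tauL, sigmaL, eAL, w2L, w3L, kl2L, k11L, kEL, q1L, q2L, hDL] ++ kernL ++ pairL) :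
    permOf ptEquiv L ∈ M24 := mem_M24_of_test (List.all_eq_true.1 list_checks L h)

theorem k0_mem : k0 ∈ M24 := test_of_mem (by simp)

theorem k1_mem : k1 ∈ M24 := test_of_mem (by simp)

theorem k1p_mem : k1p ∈ M24 := test_of_mem (by simp)

theorem k2_mem : k2 ∈ M24 := test_of_mem (by simp)

theorem sA_mem : sA ∈ M24 := test_of_mem (by simp)

theorem rA_mem : rA ∈ M24 := test_of_mem (by simp)

theorem tau_mem : tau ∈ M24 := test_of_mem (by simp)

theorem sigma_mem : sigma ∈ M24 := test_of_mem (by simp)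

theorem eA_mem : eA ∈ M24 := test_of_mem (by simp)

theorem w2_mem : w2 ∈ M24 := test_of_mem (by simp)

theorem w3_mem : w3 ∈ M24 := test_of_mem (by simp)

theorem kl2_mem : kl2 ∈ M24 := test_of_mem (by simp)

theorem k11_mem : k11 ∈ M24 := test_of_mem (by simp)

theorem kE_mem : kE ∈ M24 := test_of_mem (by simp)

theorem q1_mem : q1 ∈ M24 := test_of_mem (by simp)

theorem q2_mem : q2 ∈ M24 := test_of_mem (by simp)

theorem hD_mem : hD ∈ M24 := test_of_mem (by simp)

end CfsgLib.JFourRec
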