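import Mathlib

/-!
# Facts on the symmetric group of degree five
-/

set_option autoImplicit false
set_option maxRecDepth 100000
set_option synthInstance.maxHeartbeats 400000
set_option synthInstance.maxSize 4000
set_option maxHeartbeats 4000000

namespace CfsgLib.JFourRec.Five

open Equiv

abbrev S5 : Type := Equiv.Perm (Fin 5)

theorem swap_of_comm : ∀ a : S5, a * a = 1 → a ≠ 1 → ∀ x : S5, x * (x * x) = 1 → x ≠ 1 → a * x = x * a →
    ∃ i j : Fin 5, i ≠ j ∧ a = Equiv.swap i j := by decide +kernel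

theorem isConj_of_comm {a b x y : S5} (ha : a * a = 1) (ha1 : a ≠ 1) (hx : x * (x * x) = 1) (hx1 : x ≠ 1)
    (hax : a * x = x * a) (hb : b * b = 1) (hb1 : b ≠ 1) (hy : y * (y * y) = 1) (hy1 : y ≠ 1)
    (hby : b * y = y * b) : IsConj a b := by
  obtain ⟨i, j, hij, rfl⟩ := swap_of_comm a ha ha1 x hx hx1 hax
  obtain ⟨k, l, hkl, rfl⟩ := swap_of_comm b hb hb1 y hy hy1 hby
  exact Equiv.Perm.isConj_swap hij hkl

/-- The centraliser of a transposition has one subgroup of order three. -/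
theorem three_unique_swap : ∀ i j : Fin 5, i ≠ j → ∀ r : S5, r * (r * r) = 1 → r ≠ 1 →
    Equiv.swap i j * r = r * Equiv.swap i j → ∀ x : S5, x * (x * x) = 1 → x ≠ 1 →
    Equiv.swap i j * x = x * Equiv.swap i j → x = r ∨ x = r * r := by decide +kernel

theorem three_unique {a r x : S5} (ha : a * a = 1) (ha1 : a ≠ 1) (hr : r * (r * r) = 1) (hr1 : r ≠ 1)
    (har : a * r = r * a) (hx : x * (x * x) = 1) (hx1 : x ≠ 1) (hax : a * x = x * a) : x = r ∨ x = r * r := by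
  obtain ⟨i, j, hij, rfl⟩ := swap_of_comm a ha ha1 r hr hr1 har
  exact three_unique_swap i j hij r hr hr1 har x hx hx1 hax

/-- Three conjugates of a transposition under a group of order six. -/
theorem word_swap : ∀ r : S5, r * (r * r) = 1 → r ≠ 1 → ∀ τ : S5, τ * τ = 1 → τ ≠ 1 → τ * r * τ = r * r →
    ∀ i j : Fin 5, i ≠ j → Equiv.swap i j * τ = τ * Equiv.swap i j → Equiv.swap i j ≠ τ →
    Equiv.swap i j ≠ τ * r → Equiv.swap i j ≠ τ * (r * r) → Equiv.swap i j * r ≠ r * Equiv.swap i j →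
    (r * Equiv.swap i j * (r * r)) * (r * r * Equiv.swap i j * r) * Equiv.swap i j *
        (r * Equiv.swap i j * (r * r)) ∈ [r, r * r, τ, τ * r, τ * (r * r)] := by decide +kernel

/-- An involution with a commuting four-group twist is a transposition. -/
theorem twist : ∀ r : S5, r * (r * r) = 1 → r ≠ 1 → ∀ τ : S5, τ * τ = 1 → τ ≠ 1 → τ * r * τ = r * r →
    ∀ v : S5, v * v = 1 → v ≠ 1 → v * τ = τ * v → (r * v * (r * r)) * (r * r * v * r) = v →
    τ * v ≠ 1 ∧ ∃ x : S5, x * (x * x) = 1 ∧ x ≠ 1 ∧ (τ * v) * x = x * (τ * v) := by decide +kernel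

end CfsgLib.JFourRec.Five

namespace CfsgLib.JFourRec.Five

open Equiv

theorem swap_three : ∀ i j : Fin 5, i ≠ j → ∃ x : S5, x * (x * x) = 1 ∧ x ≠ 1 ∧
    Equiv.swap i j * x = x * Equiv.swap i j := by decide +kernel

theorem dbl : ∀ a : S5, a * a = 1 → a ≠ 1 → (∀ i j : Fin 5, a ≠ Equiv.swap i j) →
    ∃ g : S5, g * (Equiv.swap 0 1 * Equiv.swap 2 3) = a * g := by decide +kernel

theorem class_cases {a v : S5} (ha : a * a = 1) (ha1 : a ≠ 1) (hv : v * v = 1) (hv1 : v ≠ 1) :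
    (∃ x : S5, x * (x * x) = 1 ∧ x ≠ 1 ∧ a * x = x * a) ∨ (∃ x : S5, x * (x * x) = 1 ∧ x ≠ 1 ∧ v * x = x * v) ∨
      IsConj a v := by
  by_cases h1 : ∃ i j : Fin 5, a = Equiv.swap i j
  · obtain ⟨i, j, rfl⟩ := h1
    exact .inl (swap_three i j fun e => ha1 (by rw [e, Equiv.swap_self]; rfl))
  by_cases h2 : ∃ i j : Fin 5, v = Equiv.swap i j
  · obtain ⟨i, j, rfl⟩ := h2
    exact .inr (.inl (swap_three i j fun e => hv1 (by rw [e, Equiv.swap_self]; rfl)))
  simp only [not_exists] at h1 h2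
  obtain ⟨g, hg⟩ := dbl a ha ha1 h1
  obtain ⟨k, hk⟩ := dbl v hv hv1 h2
  refine .inr (.inr (isConj_iff.2 ⟨k * g⁻¹, ?_⟩))
  calc k * g⁻¹ * a * (k * g⁻¹)⁻¹ = k * (g⁻¹ * (a * g)) * k⁻¹ := by group
    _ = k * (Equiv.swap 0 1 * Equiv.swap 2 3) * k⁻¹ := by rw [← hg, inv_mul_cancel_left]
    _ = v := by rw [hk, mul_inv_cancel_right]

end CfsgLib.JFourRec.Five
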