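import Cfsg.Agent.Lib.JankoFour.ThreeTwelve.Main

/-!
# The centraliser of a group of order seven in a group of Janko-four type
-/

set_option autoImplicit false
set_option linter.unusedSectionVars false

namespace CfsgLib.JFourRec

open Subgroup Cfsg CfsgLib.JankoFour

variable {G : Type*} [Group G] [Finite G] [IsSimpleGroup G]

theorem not_comm {z : G} {P : Subgroup G} (h : IsOfJankoFourTypeWith z P) : ¬ IsMulCommutative G := by
  intro hc
  letI : CommGroup G := { (inferInstance : Group G) with mul_comm := fun a b => hc.is_comm.comm a b }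
  have hp : (Nat.card G).Prime := IsSimpleGroup.prime_card
  have hd : 2 ^ 13 ∣ Nat.card G := h.2.2.1 ▸ card_subgroup_dvd_card (twoCoreOfCentralizer z)
  have h2 : 2 ∣ Nat.card G := dvd_trans (by norm_num) hd
  rcases (Nat.dvd_prime hp).1 h2 with h' | h'
  · omega
  · rw [← h'] at hd
    norm_num at hd

/-- Centraliser of a group of order seven: the symmetric group, containing all elements of order dividing six,
with a conjugate of the central involution commuting with an element of order three. -/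
theorem seven_local {z : G} (hJ : IsOfJankoFourTypeAt z) {S : Subgroup G} (hS : Nat.card ↥S = 7) :
    ∃ I : Subgroup G, I ≤ centralizer (S : Set G) ∧ Nonempty (↥I ≃* Equiv.Perm (Fin 5)) ∧
      (∀ x ∈ centralizer (S : Set G), x ^ 6 = 1 → x ∈ I) ∧
      ∃ z' p : G, IsConj z z' ∧ z' ∈ I ∧ p ∈ I ∧ orderOf p = 3 ∧ z' * p = p * z' := by
  obtain ⟨P, h⟩ := hJ
  have hG := not_comm h
  haveI : Fact (Nat.Prime 7) := ⟨by norm_num⟩
  haveI : Fact (Nat.Prime 3) := ⟨Nat.prime_three⟩
  obtain ⟨p₀, hp₀⟩ := exists_prime_orderOf_dvd_card' (G := ↥P) 3 (by rw [h.2.2.2.2.2.1])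
  rw [← orderOf_coe] at hp₀
  have hgen : zpowers (p₀ : G) = P :=
    eq_of_le_of_card_ge (zpowers_le.2 p₀.2) (by rw [Nat.card_zpowers, hp₀, h.2.2.2.2.2.1])
  have hcP : centralizer ({(p₀ : G)} : Set G) = centralizer (P : Set G) :=
    (show centralizer ({(p₀ : G)} : Set G) = centralizer (zpowers (p₀ : G) : Set G) by
      rw [zpowers_eq_closure, centralizer_closure]).trans
      (congrArg (fun X : Subgroup G => centralizer (X : Set G)) hgen)
  obtain ⟨-, -, -, -, hle⟩ := order_three_cover_of_facts h fun c => c.facts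
  have hcz : centralizer ({(p₀ : G)} : Set G) ≤ centralizer ({z} : Set G) :=
    hcP ▸ (centralizer_le_normalizer (P : Set G)).trans hle
  obtain ⟨s₀, hs₀⟩ := exists_prime_orderOf_dvd_card' (G := ↥(centralizer ({(p₀ : G)} : Set G))) 7
    (by rw [ThreeTwelve.three_cent_card h hp₀]; norm_num)
  rw [← orderOf_coe] at hs₀
  set S₀ : Subgroup G := zpowers (s₀ : G) with hS₀d
  have hS₀ : Nat.card ↥S₀ = 7 := by rw [Nat.card_zpowers, hs₀]
  have hS₀z : S₀ ≤ centralizer ({z} : Set G) := zpowers_le.2 (hcz s₀.2)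
  obtain ⟨h49, ⟨I, ⟨hSC, hIC, hcomm, -, hsup⟩, ⟨e⟩⟩, -, -⟩ := Cfsg.Agent.S5573.result hG z ⟨P, h⟩ S₀ hS₀ hS₀z
  have hfac : 7 ^ (Nat.card G).factorization 7 = 7 := by
    obtain ⟨m, hm⟩ : 7 ∣ Nat.card G := hS₀ ▸ card_subgroup_dvd_card S₀
    have hm7 : ¬ 7 ∣ m := fun h' => h49 (by rw [hm]; exact Nat.mul_dvd_mul_left 7 h')
    rw [hm, Nat.factorization_mul (by norm_num) (show m ≠ 0 from fun e' => hm7 (e' ▸ dvd_zero 7)),
      Finsupp.add_apply, Nat.Prime.factorization_self (by norm_num), Nat.factorization_eq_zero_of_not_dvd hm7,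
      add_zero, pow_one]
  -- elements of order dividing six lie in the symmetric group
  have hin : ∀ x ∈ centralizer (S₀ : Set G), x ^ 6 = 1 → x ∈ I := by
    intro x hx hx6
    have hnorm : I ≤ normalizer (S₀ : Set G) := by
      intro i hi
      rw [mem_normalizer_iff]
      intro y
      constructor
      · intro hy
        rwa [← hcomm y hy i hi, mul_inv_cancel_right]
      · intro hy
        have h1 := hcomm _ hy i hi
        have : y = i * y * i⁻¹ := by
          calc y = i⁻¹ * ((i * y * i⁻¹) * i) := by group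
            _ = i⁻¹ * (i * (i * y * i⁻¹)) := by rw [h1]
            _ = i * y * i⁻¹ := by group
        rwa [this]
    have hx' : x ∈ ((I ⊔ S₀ : Subgroup G) : Set G) := by
      show x ∈ I ⊔ S₀
      rw [sup_comm, hsup]
      exact hx
    rw [Subgroup.coe_mul_of_left_le_normalizer_right I S₀ hnorm] at hx'
    obtain ⟨i, hi, s, hs, rfl⟩ := hx'
    have hc : Commute i s := (hcomm s hs i hi).symm
    have hs7 : s ^ 7 = 1 := by
      have := pow_card_eq_one' (x := (⟨s, hs⟩ : ↥S₀))
      rw [hS₀] at this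
      exact congrArg Subtype.val this
    have e1 : (i * s) ^ 7 = i ^ 7 := by rw [hc.mul_pow, hs7, mul_one]
    have e2 : (i * s) ^ 7 = i * s := by rw [pow_succ, hx6, one_mul]
    show i * s ∈ I
    rw [← e2, e1]
    exact pow_mem hi 7
  -- the transfer to `S`
  let T₀ : Sylow 7 G := Sylow.ofCard S₀ (by rw [hS₀, hfac])
  let T : Sylow 7 G := Sylow.ofCard S (by rw [hS, hfac])
  obtain ⟨g, hg⟩ := MulAction.exists_smul_eq G T₀ T
  have hmap : S₀.map (MulAut.conj g).toMonoidHom = S := (congrArg Sylow.toSubgroup hg : _)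
  let c : G ≃* G := MulAut.conj g
  have hC : ∀ x, x ∈ centralizer (S₀ : Set G) ↔ c x ∈ centralizer (S : Set G) := by
    intro x
    rw [mem_centralizer_iff, mem_centralizer_iff, ← hmap]
    constructor
    · rintro hx _ ⟨y, hy, rfl⟩
      show c y * c x = c x * c y
      rw [← map_mul, ← map_mul, hx y hy]
    · intro hx y hy
      have := hx (c y) ⟨y, hy, rfl⟩
      rw [← map_mul, ← map_mul] at this
      exact c.injective this
  have hzc : z * (p₀ : G) = (p₀ : G) * z :=
    (mem_centralizer_singleton_iff.1 (hcz (mem_centralizer_singleton_iff.2 rfl))).symm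
  have hsp : ∀ w : G, Commute (s₀ : G) w → w ∈ centralizer (S₀ : Set G) := by
    intro w hw
    rw [hS₀d, zpowers_eq_closure, centralizer_closure]
    exact mem_centralizer_singleton_iff.2 hw.eq.symm
  have hp6 : (p₀ : G) ^ 6 = 1 := orderOf_dvd_iff_pow_eq_one.1 (by rw [hp₀]; norm_num)
  have hz6 : z ^ 6 = 1 := orderOf_dvd_iff_pow_eq_one.1 (by rw [h.1]; norm_num)
  have hpI : (p₀ : G) ∈ I := hin _ (hsp _ (mem_centralizer_singleton_iff.1 s₀.2)) hp6
  have hzI : z ∈ I := hin _ (hsp _ (mem_centralizer_singleton_iff.1 (hcz s₀.2))) hz6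
  refine ⟨I.map c.toMonoidHom, ?_, ⟨(I.equivMapOfInjective _ c.injective).symm.trans e⟩, ?_,
    c z, c p₀, isConj_iff.2 ⟨g, rfl⟩, mem_map_of_mem _ hzI, mem_map_of_mem _ hpI, ?_, ?_⟩
  · rintro _ ⟨x, hx, rfl⟩
    exact (hC x).1 (hIC hx)
  · intro x hx hx6
    refine ⟨c.symm x, hin _ ((hC _).2 (by rwa [c.apply_symm_apply])) ?_, c.apply_symm_apply x⟩
    rw [← map_pow, hx6, map_one]
  · rw [← hp₀]
    exact orderOf_injective c.toMonoidHom c.injective _
  · rw [← map_mul, ← map_mul, hzc]

end CfsgLib.JFourRec
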