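import Cfsg.Agent.Lib.JFourRec.Sys
import Cfsg.Agent.Lib.JFourRec.Calc
import Cfsg.Agent.Lib.JFourRec.Seven
import Cfsg.Agent.Lib.JFourRec.Five

/-!
# The involution seen from one octad centralises the group of the trio

The conjugates of `a` under the element of order three lie in the symmetric group centralising the element of
order seven. One product of them would otherwise be a non-trivial element of the trio group commuting with its
kernel.
-/

set_option autoImplicit false
set_option maxRecDepth 100000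
set_option linter.unusedSectionVars false

namespace CfsgLib.JFourRec

open Cfsg CfsgLib.Golay CfsgLib.JankoFour
open scoped Pointwise symmDiff

variable {G : Type*} [Group G] [Finite G] {z : G} {V : Subgroup G} {P : Finset GolayPt → G}
  {κ : Equiv.Perm GolayPt → G} {a : G}

theorem kappa_inj (S : TwoTen.Setup z V P κ) {k l : Equiv.Perm GolayPt} (hk : k ∈ M24) (hl : l ∈ M24)
    (h : κ k = κ l) : k = l := by
  refine mul_inv_eq_one.1 (S.kinj _ (mul_mem hk (inv_mem hl)) ?_)
  rw [S.kmul _ hk _ (inv_mem hl), h, ← S.kmul _ hl _ (inv_mem hl), mul_inv_cancel, S.κ_one]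
  exact one_mem V

theorem kappa_prod (S : TwoTen.Setup z V P κ) : ∀ {l : List (Equiv.Perm GolayPt)}, (∀ k ∈ l, k ∈ M24) →
    l.prod ∈ M24 ∧ κ l.prod = (l.map κ).prod
  | [], _ => ⟨one_mem _, by simp [S.κ_one]⟩
  | k :: r, h => by
    obtain ⟨hm, he⟩ := kappa_prod S (l := r) fun x hx => h x (List.mem_cons_of_mem _ hx)
    have hk := h k List.mem_cons_self
    exact ⟨mul_mem hk hm, by rw [List.prod_cons, S.kmul _ hk _ hm, he, List.map_cons, List.prod_cons]⟩

/-- Equal products of listed permutations have equal images. -/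
theorem kappa_eq (S : TwoTen.Setup z V P κ) {A B : List (List ℕ)} (hA : A.all m24Test = true)
    (hB : B.all m24Test = true) (h : eqCheck A B = true) :
    ((A.map (permOf ptEquiv)).map κ).prod = ((B.map (permOf ptEquiv)).map κ).prod := by
  have hm : ∀ {C : List (List ℕ)}, C.all m24Test = true → ∀ k ∈ C.map (permOf ptEquiv), k ∈ M24 := by
    intro C hC k hk
    obtain ⟨L, hL, rfl⟩ := List.mem_map.1 hk
    exact mem_M24_of_test (List.all_eq_true.1 hC L hL)
  rw [← (kappa_prod S (hm hA)).2, ← (kappa_prod S (hm hB)).2, prod_eq h]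

theorem trio_checks :
    ([sAL, rAL, tauL] ++ kernL).all inTrio = true ∧
    ([sAL, tauL] ++ kernL).all (fun L => imgMask L 8484900 == 8484900) = true ∧
    ((imgMask rAL 8484900 == 6554826) && (imgMask rAL 6554826 == 1737489) &&
      (imgMask sAL 3 == 3) && (imgMask tauL 3 == 3) && (imgMask rAL 3 == 5) && (imgMask rAL 5 == 6) &&
      ((5 : ℕ) ^^^ 6 == 3)) = true := by decide +kernel

theorem group_checks :
    eqCheck (List.replicate 7 sAL) [] = true ∧ eqCheck (List.replicate 3 rAL) [] = true ∧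
    eqCheck [tauL, tauL] [] = true ∧ eqCheck [tauL, rAL, tauL] [rAL, rAL] = true ∧
    eqCheck [sAL, rAL] [rAL, sAL] = true ∧ eqCheck [sAL, tauL] [tauL, sAL] = true ∧
    (kernL.all fun L => inTrio (pprod [rAL, L, rAL, rAL]) && inTrio (pprod [rAL, rAL, L, rAL]) &&
      (imgMask (pprod [rAL, L, rAL, rAL]) 8484900 == 8484900) &&
      (imgMask (pprod [rAL, rAL, L, rAL]) 8484900 == 8484900)) = true ∧
    ([[rAL], [rAL, rAL], [tauL], [tauL, rAL], [tauL, rAL, rAL]].all fun H =>
      kernL.any fun L => !(pprod (H ++ [L]) == pprod (L :: H))) = true ∧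
    (sAL == List.range 24) = false ∧ (rAL == List.range 24) = false ∧ (tauL == List.range 24) = false := by
  decide +kernel

theorem inTrio_sA : sA ∈ trioStab := mem_trioStab (List.all_eq_true.1 trio_checks.1 sAL (by simp))
theorem inTrio_rA : rA ∈ trioStab := mem_trioStab (List.all_eq_true.1 trio_checks.1 rAL (by simp))
theorem inTrio_tau : tau ∈ trioStab := mem_trioStab (List.all_eq_true.1 trio_checks.1 tauL (by simp))

theorem mem_M24_rA2 : rA * rA ∈ M24 := mul_mem rA_mem rA_mem

theorem prod_one {A : List (List ℕ)} (h : eqCheck A [] = true) :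
    (A.map (permOf ptEquiv)).prod = 1 := by simpa using prod_eq h

theorem sA_pow : sA ^ 7 = 1 := by
  have h := prod_one group_checks.1
  rwa [List.map_replicate, List.prod_replicate] at h

theorem rA_pow : rA ^ 3 = 1 := by
  have h := prod_one group_checks.2.1
  rwa [List.map_replicate, List.prod_replicate] at h

theorem ne_ones : sA ≠ 1 ∧ rA ≠ 1 ∧ tau ≠ 1 := by
  obtain ⟨-, -, -, -, -, -, -, -, h1, h2, h3⟩ := group_checks
  exact ⟨permOf_ne_one (valid_of_test (List.all_eq_true.1 list_checks _ (by simp))) h1,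
    permOf_ne_one (valid_of_test (List.all_eq_true.1 list_checks _ (by simp))) h2,
    permOf_ne_one (valid_of_test (List.all_eq_true.1 list_checks _ (by simp))) h3⟩

theorem orderOf_kappa_sA (S : TwoTen.Setup z V P κ) : orderOf (κ sA) = 7 := by
  haveI := Fact.mk (show Nat.Prime 7 by norm_num)
  refine orderOf_eq_prime ?_ fun e => ne_ones.1 (kappa_inj S sA_mem (one_mem _) (e.trans S.κ_one.symm))
  have h := (kappa_prod S (l := List.replicate 7 sA) fun k hk => (List.eq_of_mem_replicate hk) ▸ sA_mem).2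
  rw [List.prod_replicate, sA_pow, S.κ_one, List.map_replicate, List.prod_replicate] at h
  exact h.symm

theorem kappa_rA_cube (S : TwoTen.Setup z V P κ) : κ rA * (κ rA * κ rA) = 1 := by
  have h := pow_three rA ▸ rA_pow
  rw [← S.kmul _ rA_mem _ rA_mem, ← S.kmul _ rA_mem _ mem_M24_rA2, h, S.κ_one]

theorem orderOf_kappa_rA (S : TwoTen.Setup z V P κ) : orderOf (κ rA) = 3 := by
  haveI := Fact.mk Nat.prime_three
  refine orderOf_eq_prime ?_ fun e => ne_ones.2.1 (kappa_inj S rA_mem (one_mem _) (e.trans S.κ_one.symm))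
  rw [pow_three, kappa_rA_cube S]

theorem fix_octA {L : List ℕ} (h : inTrio L = true) (h' : (imgMask L 8484900 == 8484900) = true) :
    permOf ptEquiv L • octA = octA :=
  perm_smul_toSet (valid_of_test (by simp only [inTrio, Bool.and_eq_true] at h; exact h.1.1)) h'

theorem conj_P_smul (S : TwoTen.Setup z V P κ) {k : Equiv.Perm GolayPt} (hk : k ∈ M24) {s t : Finset GolayPt}
    (hs : 2 ∣ s.card) (h : k • s = t) : κ k * P s * (κ k)⁻¹ = P t := by rw [S.act k hk s hs, h]

theorem dvd_three : 2 ∣ (toSet 3).card ∧ 2 ∣ (toSet 5).card ∧ 2 ∣ (toSet 6).card := by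
  decide +kernel

theorem three_is_pair : ∃ p q : GolayPt, p ≠ q ∧ toSet 3 = {p, q} := by
  refine ⟨pt 0, pt 1, fun e => ?_, ?_⟩
  · have h : (ptEquiv (pt 0)).val = (ptEquiv (pt 1)).val := by rw [e]
    rw [ptEquiv_pt (by norm_num), ptEquiv_pt (by norm_num)] at h
    omega
  · decide +kernel

section

variable [IsSimpleGroup G] (hz : Cfsg.IsOfJankoFourTypeAt z) (Q : Pre z V P κ a)
include hz Q

/-- The involution commutes with the element of order three, and its class. -/
theorem commute_rA : Commute (κ rA) a ∧ IsConj z a ∧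
    ∀ x : G, orderOf x = 3 → Commute x a → Commute x (κ sA) → x = κ rA ∨ x = (κ rA)⁻¹ := by
  have S := Q.setup
  obtain ⟨I, hIC, ⟨e⟩, hin, z', p, hzz', hz'I, hpI, hp3, hz'p⟩ :=
    seven_local hz (S := Subgroup.zpowers (κ sA)) (by rw [Nat.card_zpowers, orderOf_kappa_sA S])
  have hC : ∀ x : G, Commute (κ sA) x → x ∈ Subgroup.centralizer (Subgroup.zpowers (κ sA) : Set G) := by
    intro x hx
    rw [Subgroup.zpowers_eq_closure, Subgroup.centralizer_closure]
    exact Subgroup.mem_centralizer_singleton_iff.2 hx.eq.symm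
  have six2 : ∀ x : G, x * x = 1 → x ^ 6 = 1 := fun x hx => by
    rw [show (6 : ℕ) = 2 * 3 from rfl, pow_mul, pow_two, hx, one_pow]
  have six3 : ∀ x : G, x * (x * x) = 1 → x ^ 6 = 1 := fun x hx => by
    rw [show (6 : ℕ) = 3 * 2 from rfl, pow_mul, pow_three, hx, one_pow]
  obtain ⟨hc1, hc2, hc3⟩ := trio_checks
  simp only [Bool.and_eq_true, List.all_eq_true] at hc2 hc3
  obtain ⟨⟨⟨⟨⟨⟨m1, m2⟩, ms⟩, mt⟩, mr⟩, mr'⟩, mx⟩ := hc3
  obtain ⟨-, -, g3, g4, g5, g6, g7, g8, -, -, -⟩ := group_checks
  have hv : ∀ {L : List ℕ}, L ∈ [sAL, rAL, tauL] ++ kernL → validL 24 L = true := fun hL =>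
    valid_of_test (by
      have := List.all_eq_true.1 hc1 _ hL
      simp only [inTrio, Bool.and_eq_true] at this
      exact this.1.1)
  set r := κ rA with hr
  set τ := κ tau with hτ
  set v := P (toSet 3) with hvd
  have e4 : τ * r * τ = r * r := by
    have := kappa_eq S (A := [tauL, rAL, tauL]) (B := [rAL, rAL]) (by decide +kernel) (by decide +kernel) g4
    simpa [mul_assoc, hr, hτ, rA, tau] using this
  have e5 : κ sA * r = r * κ sA := by
    simpa [hr, rA, sA] using kappa_eq S (A := [sAL, rAL]) (B := [rAL, sAL]) (by decide +kernel) (by decide +kernel) g5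
  have e6 : κ sA * τ = τ * κ sA := by
    simpa [hτ, tau, sA] using
      kappa_eq S (A := [sAL, tauL]) (B := [tauL, sAL]) (by decide +kernel) (by decide +kernel) g6
  have er3 : r * (r * r) = 1 := kappa_rA_cube S
  have et2 : τ * τ = 1 := by
    simpa [hτ, tau, S.κ_one] using
      kappa_eq S (A := [tauL, tauL]) (B := []) (by decide +kernel) rfl g3
  have hsAfix : sA • octA = octA := fix_octA (List.all_eq_true.1 hc1 _ (by simp)) (hc2 _ (by simp))
  have htaufix : tau • octA = octA := fix_octA (List.all_eq_true.1 hc1 _ (by simp)) (hc2 _ (by simp))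
  have has : Commute (κ sA) a := Q.commO sA inTrio_sA hsAfix
  have hat : Commute τ a := Q.commO tau inTrio_tau htaufix
  obtain ⟨d3, d5, d6⟩ := dvd_three
  have cv : ∀ {k : Equiv.Perm GolayPt}, k ∈ M24 → k • toSet 3 = toSet 3 → Commute (κ k) v := fun hk he => by
    have := conj_P_smul S hk d3 he
    exact mul_inv_eq_iff_eq_mul.1 this
  have hsv : Commute (κ sA) v := cv sA_mem (perm_smul_toSet (hv (by simp)) ms)
  have htv : Commute τ v := cv tau_mem (perm_smul_toSet (hv (by simp)) mt)
  have hv2 : v * v = 1 := S.P_sq d3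
  have rv1 : r * v * r⁻¹ = P (toSet 5) := conj_P_smul S rA_mem d3 (perm_smul_toSet (hv (by simp)) mr)
  have rv2 : r * (r * v * r⁻¹) * r⁻¹ = P (toSet 6) := by
    rw [rv1]; exact conj_P_smul S rA_mem d5 (perm_smul_toSet (hv (by simp)) mr')
  have rinv : r⁻¹ = r * r := inv_eq_of_mul_eq_one_right er3
  have rel : (r * v * (r * r)) * (r * r * v * r) = v := by
    have h2 : r * r * v * r = r * (r * v * r⁻¹) * r⁻¹ := by
      calc r * r * v * r = r * r * v * (r * (r * r))⁻¹ * r := by rw [er3, inv_one, mul_one]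
        _ = _ := by group
    rw [h2, rv2, ← rinv, rv1, ← S.mul _ _ d5 d6, ← toSet_xor, beq_iff_eq.1 mx]
  have hv1 : v ≠ 1 := by
    intro h1
    obtain ⟨p', q', hpq, he⟩ := three_is_pair
    have hsmall := ((S.eq_one _ d3).1 h1).small (by
      rw [he, Finset.card_pair hpq]; simp)
    rw [he] at hsmall
    exact Finset.insert_ne_empty _ _ hsmall
  -- membership in the symmetric group
  have haI : a ∈ I := hin a (hC a has) (six2 a Q.sq)
  have hrI : r ∈ I := hin r (hC r e5) (six3 r er3)
  have htI : τ ∈ I := hin τ (hC τ e6) (six2 τ et2)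
  have hvI : v ∈ I := hin v (hC v hsv) (six2 v hv2)
  let f : ∀ x : G, x ∈ I → Equiv.Perm (Fin 5) := fun x hx => e ⟨x, hx⟩
  have fmul : ∀ {x y : G} (hx : x ∈ I) (hy : y ∈ I), f (x * y) (mul_mem hx hy) = f x hx * f y hy :=
    fun hx hy => map_mul e ⟨_, hx⟩ ⟨_, hy⟩
  have finj : ∀ {x y : G} (hx : x ∈ I) (hy : y ∈ I), f x hx = f y hy → x = y := fun hx hy h =>
    congrArg Subtype.val (e.injective h)
  have f1 : f 1 (one_mem I) = 1 := map_one e
  have fne : ∀ {x : G} (hx : x ∈ I), x ≠ 1 → f x hx ≠ 1 := fun hx h h' => h (finj hx (one_mem I) (h'.trans f1.symm))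
  have feq : ∀ {x y : G} (hx : x ∈ I) (hy : y ∈ I), x = y → f x hx = f y hy := fun hx hy h => by subst h; rfl
  have fconj : ∀ {x y : G} (hx : x ∈ I) (hy : y ∈ I), IsConj (f x hx) (f y hy) → IsConj x y := by
    intro x y hx hy h
    obtain ⟨c, hc⟩ := isConj_iff.1 h
    refine isConj_iff.2 ⟨(e.symm c : G), ?_⟩
    have h' : e (e.symm c * ⟨x, hx⟩ * (e.symm c)⁻¹) = e ⟨y, hy⟩ := by
      rw [map_mul, map_mul, map_inv, e.apply_symm_apply]; exact hc
    exact congrArg Subtype.val (e.injective h')
  have h2 : ∀ {x : G} (hx : x ∈ I), x * x = 1 → f x hx * f x hx = 1 := fun hx h => by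
    rw [← fmul hx hx, ← f1]; exact feq _ _ h
  have h3 : ∀ {x : G} (hx : x ∈ I), x * (x * x) = 1 → f x hx * (f x hx * f x hx) = 1 := fun hx h => by
    rw [← fmul hx hx, ← fmul hx (mul_mem hx hx), ← f1]; exact feq _ _ h
  have hp3' : p * (p * p) = 1 := by rw [← pow_three, ← hp3, pow_orderOf_eq_one]
  have hp1 : p ≠ 1 := fun h => by rw [h, orderOf_one] at hp3; omega
  have hz'2 : z' * z' = 1 := by
    obtain ⟨c, rfl⟩ := isConj_iff.1 hzz'
    have hzz : z * z = 1 := by rw [← pow_two, ← S.ordz, pow_orderOf_eq_one]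
    calc c * z * c⁻¹ * (c * z * c⁻¹) = c * (z * z) * c⁻¹ := by group
      _ = 1 := by rw [hzz]; group
  have hz'1 : z' ≠ 1 := by
    intro h
    rw [h] at hzz'
    have := S.ordz
    rw [isConj_one_right.1 hzz'.symm, orderOf_one] at this
    omega
  have hz'x : f z' hz'I * f p hpI = f p hpI * f z' hz'I := by
    rw [← fmul hz'I hpI, ← fmul hpI hz'I]; exact feq _ _ hz'p
  have fr1 : f r hrI ≠ 1 := fne hrI fun h => by
    have := orderOf_kappa_rA S
    rw [← hr, h, orderOf_one] at this
    omega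
  have ft1 : f τ htI ≠ 1 := fne htI fun h => ne_ones.2.2 (kappa_inj S tau_mem (one_mem _) (h.trans S.κ_one.symm))
  have frel : f τ htI * f r hrI * f τ htI = f r hrI * f r hrI := by
    rw [← fmul htI hrI, ← fmul (mul_mem htI hrI) htI, ← fmul hrI hrI]; exact feq _ _ e4
  have fvt : f v hvI * f τ htI = f τ htI * f v hvI := by
    rw [← fmul hvI htI, ← fmul htI hvI]; exact feq _ _ htv.eq.symm
  have fvrel : f r hrI * f v hvI * (f r hrI * f r hrI) * (f r hrI * f r hrI * f v hvI * f r hrI) = f v hvI := by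
    rw [← fmul hrI hrI, ← fmul hrI hvI, ← fmul (mul_mem hrI hvI) (mul_mem hrI hrI),
      ← fmul (mul_mem hrI hrI) hvI, ← fmul (mul_mem (mul_mem hrI hrI) hvI) hrI,
      ← fmul (mul_mem (mul_mem hrI hvI) (mul_mem hrI hrI)) (mul_mem (mul_mem (mul_mem hrI hrI) hvI) hrI)]
    exact feq _ _ rel
  obtain ⟨htv1, x, hx3, hx1, hxc⟩ := Five.twist _ (h3 hrI er3) fr1 _ (h2 htI et2) ft1 frel _ (h2 hvI hv2)
    (fne hvI hv1) fvt fvrel
  have htvI : τ * v ∈ I := mul_mem htI hvI
  have htv2 : τ * v * (τ * v) = 1 := by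
    calc τ * v * (τ * v) = τ * (v * τ) * v := by group
      _ = τ * τ * (v * v) := by rw [htv.eq.symm]; group
      _ = 1 := by rw [et2, hv2, one_mul]
  have hza : IsConj z a := by
    have hc : IsConj z' (τ * v) := fconj hz'I htvI (Five.isConj_of_comm (h2 hz'I hz'2) (fne hz'I hz'1) (h3 hpI hp3')
      (fne hpI hp1) hz'x (h2 htvI htv2) (by rw [fmul htI hvI]; exact htv1) hx3 hx1
      (by rw [fmul htI hvI]; exact hxc))
    refine hzz'.trans (hc.trans ?_)
    rw [htv.eq]
    exact Q.aconj.symm
  -- the image of `a` commutes with an element of order three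
  have hvz : ¬ IsConj z v := by
    obtain ⟨p', q', hpq, he⟩ := three_is_pair
    rw [hvd, he]
    exact S.pairN p' q' hpq
  obtain ⟨y, hy3, hy1, hyc⟩ : ∃ y, y * (y * y) = 1 ∧ y ≠ 1 ∧ f a haI * y = y * f a haI := by
    rcases Five.class_cases (h2 haI Q.sq) (fne haI Q.ne) (h2 hvI hv2) (fne hvI hv1) with h | h | h
    · exact h
    · obtain ⟨y, hy3, hy1, hyc⟩ := h
      exact absurd (hzz'.trans (fconj hz'I hvI (Five.isConj_of_comm (h2 hz'I hz'2) (fne hz'I hz'1) (h3 hpI hp3')
        (fne hpI hp1) hz'x (h2 hvI hv2) (fne hvI hv1) hy3 hy1 hyc))) hvz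
    · exact absurd (hza.trans (fconj haI hvI h)) hvz
  have hcomm : Commute r a := by
    by_contra hne
    obtain ⟨i, j, hij, he⟩ := Five.swap_of_comm _ (h2 haI Q.sq) (fne haI Q.ne) y hy3 hy1 hyc
    have hN : ∀ x : G, x = a → x ∈ Subgroup.normalizer (V : Set G) → False := fun x hx h => Q.notN (hx ▸ h)
    have hrN := S.kmem rA rA_mem
    have htN := S.kmem tau tau_mem
    have hw := Five.word_swap _ (h3 hrI er3) fr1 _ (h2 htI et2) ft1 frel i j hij
      (by rw [← he, ← fmul haI htI, ← fmul htI haI]; exact feq _ _ hat.eq.symm)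
      (by rw [← he]; exact fun h => hN τ (finj haI htI h).symm htN)
      (by rw [← he, ← fmul htI hrI]; exact fun h => hN _ (finj haI _ h).symm (mul_mem htN hrN))
      (by rw [← he, ← fmul hrI hrI, ← fmul htI (mul_mem hrI hrI)]
          exact fun h => hN _ (finj haI _ h).symm (mul_mem htN (mul_mem hrN hrN)))
      (by rw [← he, ← fmul haI hrI, ← fmul hrI haI]; exact fun h => hne (finj _ _ h).symm)
    set c1 := r * a * (r * r) with hc1d
    set c2 := r * r * a * r with hc2d
    have hc1I : c1 ∈ I := mul_mem (mul_mem hrI haI) (mul_mem hrI hrI)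
    have hc2I : c2 ∈ I := mul_mem (mul_mem (mul_mem hrI hrI) haI) hrI
    have fc1 : f c1 hc1I = f r hrI * f a haI * (f r hrI * f r hrI) := by
      rw [← fmul hrI hrI, ← fmul hrI haI, ← fmul (mul_mem hrI haI) (mul_mem hrI hrI)]
    have fc2 : f c2 hc2I = f r hrI * f r hrI * f a haI * f r hrI := by
      rw [← fmul hrI hrI, ← fmul (mul_mem hrI hrI) haI, ← fmul (mul_mem (mul_mem hrI hrI) haI) hrI]
    have hwI : c1 * c2 * a * c1 ∈ I := mul_mem (mul_mem (mul_mem hc1I hc2I) haI) hc1I
    rw [← he, ← fc1, ← fc2, ← fmul hc1I hc2I, ← fmul (mul_mem hc1I hc2I) haI,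
      ← fmul (mul_mem (mul_mem hc1I hc2I) haI) hc1I] at hw
    -- the product is the image of an element of the group of order six
    obtain ⟨H, hH, hwH⟩ : ∃ H ∈ [[rAL], [rAL, rAL], [tauL], [tauL, rAL], [tauL, rAL, rAL]],
        c1 * c2 * a * c1 = ((H.map (permOf ptEquiv)).map κ).prod := by
      simp only [List.mem_cons, List.not_mem_nil, or_false] at hw
      rcases hw with h | h | h | h | h
      · exact ⟨[rAL], by simp, (finj hwI hrI h).trans (by simp [hr, rA])⟩
      · rw [← fmul hrI hrI] at h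
        exact ⟨[rAL, rAL], by simp, (finj hwI _ h).trans (by simp [hr, rA])⟩
      · exact ⟨[tauL], by simp, (finj hwI htI h).trans (by simp [hτ, tau])⟩
      · rw [← fmul htI hrI] at h
        exact ⟨[tauL, rAL], by simp, (finj hwI _ h).trans (by simp [hτ, hr, tau, rA])⟩
      · rw [← fmul hrI hrI, ← fmul htI (mul_mem hrI hrI)] at h
        exact ⟨[tauL, rAL, rAL], by simp, (finj hwI _ h).trans (by simp [hτ, hr, tau, rA])⟩
    simp only [List.all_eq_true] at g8
    obtain ⟨L, hL, hLne⟩ := List.any_eq_true.1 (g8 H hH)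
    have hLv : validL 24 L = true := hv (List.mem_append_right _ hL)
    have hLt : inTrio L = true := List.all_eq_true.1 hc1 L (List.mem_append_right _ hL)
    have hLm : permOf ptEquiv L ∈ M24 := trioStab_le (mem_trioStab hLt)
    simp only [List.all_eq_true, Bool.and_eq_true] at g7
    obtain ⟨⟨⟨i1, i2⟩, j1⟩, j2⟩ := g7 L hL
    set k := κ (permOf ptEquiv L)
    have ck : Commute k a := Q.commO _ (mem_trioStab hLt) (fix_octA hLt (hc2 _ (List.mem_append_right _ hL)))
    have hlist : ∀ {K : List (List ℕ)}, (∀ x ∈ K, x = rAL ∨ x = L) →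
        κ (permOf ptEquiv (pprod K)) = ((K.map (permOf ptEquiv)).map κ).prod := by
      intro K hK
      have hKv : ∀ x ∈ K, validL 24 x = true := fun x hx => by
        rcases hK x hx with rfl | rfl
        exacts [hv (by simp), hLv]
      rw [(pprod_spec hKv).2]
      refine (kappa_prod S fun x hx => ?_).2
      obtain ⟨y, hy, rfl⟩ := List.mem_map.1 hx
      rcases hK y hy with rfl | rfl
      exacts [rA_mem, hLm]
    have ck1 : Commute (r * k * (r * r)) a := by
      have h := Q.commO _ (mem_trioStab i1) (fix_octA i1 j1)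
      rw [hlist (by simp)] at h
      simpa [mul_assoc, hr, rA] using h
    have ck2 : Commute (r * r * k * r) a := by
      have h := Q.commO _ (mem_trioStab i2) (fix_octA i2 j2)
      rw [hlist (by simp)] at h
      simpa [mul_assoc, hr, rA] using h
    have cj : ∀ g x y : G, Commute x y → Commute (g * x * g⁻¹) (g * y * g⁻¹) := fun g x y h => by
      show g * x * g⁻¹ * (g * y * g⁻¹) = g * y * g⁻¹ * (g * x * g⁻¹)
      calc g * x * g⁻¹ * (g * y * g⁻¹) = g * (x * y) * g⁻¹ := by group
        _ = g * (y * x) * g⁻¹ := by rw [h.eq]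
        _ = g * y * g⁻¹ * (g * x * g⁻¹) := by group
    have kc1 : Commute k c1 := by
      have h := cj r _ _ ck2
      have er : r * (r * r * k * r) * r⁻¹ = k := by
        calc r * (r * r * k * r) * r⁻¹ = r * (r * r) * k := by group
          _ = k := by rw [er3, one_mul]
      rw [er] at h
      rw [hc1d, ← rinv]
      exact h
    have kc2 : Commute k c2 := by
      have h := cj (r * r) _ _ ck1
      have ri2 : (r * r)⁻¹ = r := inv_eq_of_mul_eq_one_left er3
      have er : r * r * (r * k * (r * r)) * (r * r)⁻¹ = k := by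
        calc r * r * (r * k * (r * r)) * (r * r)⁻¹ = r * (r * r) * k := by group
          _ = k := by rw [er3, one_mul]
      rw [er, ri2] at h
      exact h
    have hcw : Commute k (c1 * c2 * a * c1) := ((kc1.mul_right kc2).mul_right ck).mul_right kc1
    rw [hwH] at hcw
    have hHmem : ∀ x ∈ H, x = rAL ∨ x = tauL := by
      simp only [List.mem_cons, List.not_mem_nil, or_false] at hH
      rcases hH with rfl | rfl | rfl | rfl | rfl <;> simp
    have hHt : ∀ x ∈ H, validL 24 x = true ∧ permOf ptEquiv x ∈ M24 := fun x hx => by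
      rcases hHmem x hx with rfl | rfl
      exacts [⟨hv (by simp), rA_mem⟩, ⟨hv (by simp), tau_mem⟩]
    have hHm : ∀ x ∈ H.map (permOf ptEquiv), x ∈ M24 := fun x hx => by
      obtain ⟨y, hy, rfl⟩ := List.mem_map.1 hx; exact (hHt y hy).2
    obtain ⟨hprod, hκ⟩ := kappa_prod S hHm
    rw [← hκ] at hcw
    have h := hcw.eq
    rw [← S.kmul _ hLm _ hprod, ← S.kmul _ hprod _ hLm] at h
    have h' := kappa_inj S (mul_mem hLm hprod) (mul_mem hprod hLm) h
    have hA := pprod_spec (Ls := H ++ [L]) fun x hx => by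
      rcases List.mem_append.1 hx with hx | hx
      · exact (hHt x hx).1
      · rw [List.mem_singleton.1 hx]; exact hLv
    have hB := pprod_spec (Ls := L :: H) fun x hx => by
      rcases List.mem_cons.1 hx with rfl | hx
      · exact hLv
      · exact (hHt x hx).1
    have hl := eq_of_perm hA.1 hB.1 (by
      rw [hA.2, hB.2, List.map_append, List.prod_append, List.map_singleton, List.prod_singleton, List.map_cons,
        List.prod_cons]
      exact h'.symm)
    rw [hl] at hLne
    simp at hLne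
  refine ⟨hcomm, hza, fun x hx hxa hxs => ?_⟩
  have hx3' : x * (x * x) = 1 := by rw [← pow_three, ← hx, pow_orderOf_eq_one]
  have hxI : x ∈ I := hin x (hC x hxs.symm) (six3 x hx3')
  have hxn : x ≠ 1 := fun h => by rw [h, orderOf_one] at hx; omega
  rcases Five.three_unique (h2 haI Q.sq) (fne haI Q.ne) (h3 hrI er3) fr1
    (by rw [← fmul haI hrI, ← fmul hrI haI]; exact feq _ _ hcomm.eq.symm) (h3 hxI hx3') (fne hxI hxn)
    (by rw [← fmul haI hxI, ← fmul hxI haI]; exact feq _ _ hxa.eq.symm) with h | h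
  · exact .inl (finj hxI hrI h)
  · rw [← fmul hrI hrI] at h
    exact .inr ((finj hxI _ h).trans rinv.symm)

/-- The output: the involution centralises the whole group of the trio. -/
theorem sys_of_pre : Sys z V P κ a := by
  obtain ⟨hr, hza, hthree⟩ := commute_rA hz Q
  refine { toPre := Q, conj_z := hza, three := hthree, comm := fun k hk => ?_ }
  have hkM := trioStab_le hk
  obtain ⟨-, -, hc3⟩ := trio_checks
  simp only [Bool.and_eq_true] at hc3
  obtain ⟨⟨⟨⟨⟨⟨m1, m2⟩, -⟩, -⟩, -⟩, -⟩, -⟩ := hc3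
  have hvr : validL 24 rAL = true := valid_of_test (List.all_eq_true.1 list_checks _ (by simp))
  have o1 : rA • octA = toSet 6554826 := perm_smul_toSet hvr m1
  have o2 : (rA * rA) • octA = toSet 1737489 := by rw [mul_smul, o1]; exact perm_smul_toSet hvr m2
  have key : ∀ b : Equiv.Perm GolayPt, b ∈ trioStab → Commute (κ b) a → k • octA = b • octA →
      Commute (κ k) a := by
    intro b hb hba he
    have hb' := trioStab_le hb
    have h := Q.commO (b⁻¹ * k) (mul_mem (inv_mem hb) hk) (by rw [mul_smul, he, inv_smul_smul])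
    have h2 : κ k = κ b * κ (b⁻¹ * k) := by
      rw [← Q.setup.kmul _ hb' _ (mul_mem (inv_mem hb') hkM), mul_inv_cancel_left]
    rw [h2]
    exact hba.mul_left h
  obtain ⟨m, hm, he⟩ := octA_trio hk
  simp only [trioMasks, List.mem_cons, List.not_mem_nil, or_false] at hm
  rcases hm with rfl | rfl | rfl
  · refine key (rA * rA) (mul_mem inTrio_rA inTrio_rA) ?_ (he.trans o2.symm)
    rw [Q.setup.kmul _ rA_mem _ rA_mem]
    exact hr.mul_left hr
  · exact key rA inTrio_rA hr (he.trans o1.symm)
  · exact Q.commO k hk (by rw [he]; rfl)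

end

end CfsgLib.JFourRec
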