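import Cfsg.Agent.Lib.JankoFour.Recog.Type

/-!
# Piece A of the recognition: the hypotheses on the centraliser give Janko-four type
-/

set_option autoImplicit false

namespace CfsgLib.JFourRec

open Subgroup Cfsg

universe u

/-- The hypotheses of the two recognition statements imply Janko-four type at `t`. -/
theorem jankoType_of_hyp {G : Type u} [Group G] [Finite G] (t : G) (ht : orderOf t = 2)
    (Q N M : Subgroup (centralizer ({t} : Set G))) [Q.Normal] [N.Normal] [M.Normal]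
    (hQN : Q ≤ N) (hNM : N ≤ M) (hM : M.index = 2) (hQ : IsExtraspecial 2 Q)
    (hcard : Nat.card Q = 2 ^ 13)
    (_hplus : ∃ E : Subgroup Q, IsElementaryAbelian 2 E ∧ Nat.card E = 2 ^ 7)
    (hN : Nat.card N = 3 * Nat.card Q) (hcent : ⁅M, N⁆ ≤ Q) (hperf : M ≤ ⁅M, M⁆ ⊔ Q)
    (h2c : centralizer (Q : Set (centralizer ({t} : Set G))) ≤ Q)
    (hout : ∀ c : centralizer ({t} : Set G), (∀ m ∈ M, c * m * c⁻¹ * m⁻¹ ∈ N) → c ∈ M)
    (hM22 : Spor.IsoM22 (M ⧸ N.subgroupOf M)) : IsOfJankoFourTypeAt t :=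
  CfsgLib.JankoFour.Recog.isOfJankoFourTypeAt t ht Q N M hQN hNM hM hQ hcard hN hcent hperf h2c
    hout hM22

end CfsgLib.JFourRec
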