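import Cfsg.Agent.Lib.JFourRec.Data
import Cfsg.Agent.Lib.JankoFour.TwoTen.Setup

/-!
# The involution centralising the group of a trio: what is wanted of it

`tc κ a k` is the conjugate of `a` by the image of `k`, the involution of the trio `k • trio`.
-/

set_option autoImplicit false

namespace CfsgLib.JFourRec

open Cfsg CfsgLib.Golay CfsgLib.JankoFour
open scoped Pointwise

variable {G : Type*} [Group G]

/-- The conjugate of `a` by the image of a permutation. -/
def tc (κ : Equiv.Perm GolayPt → G) (a : G) (k : Equiv.Perm GolayPt) : G := κ k * a * (κ k)⁻¹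

/-- The involution of a trio seen from one of its octads: the output of the matching of complements. -/
structure Pre [Finite G] (z : G) (V : Subgroup G) (P : Finset GolayPt → G) (κ : Equiv.Perm GolayPt → G)
    (a : G) : Prop where
  setup : TwoTen.Setup z V P κ
  sq : a * a = 1
  ne : a ≠ 1
  notN : a ∉ Subgroup.normalizer (V : Set G)
  commO : ∀ k ∈ trioStab, k • octA = octA → Commute (κ k) a
  line : a * tc κ a k1 = tc κ a k1p
  vcomm : Commute a (P setC)
  delta : a * P setD * a * P setD = P setE * κ kE
  aconj : IsConj a (P (toSet 3) * κ tau)

/-- The involution of a trio: it centralises the whole group of the trio. -/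
structure Sys [Finite G] (z : G) (V : Subgroup G) (P : Finset GolayPt → G) (κ : Equiv.Perm GolayPt → G)
    (a : G) : Prop extends Pre z V P κ a where
  comm : ∀ k ∈ trioStab, Commute (κ k) a
  conj_z : IsConj z a
  three : ∀ x : G, orderOf x = 3 → Commute x a → Commute x (κ sA) → x = κ rA ∨ x = (κ rA)⁻¹

end CfsgLib.JFourRec
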