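import Cfsg.Agent.Lib.JFourRec.PreBase
import Cfsg.Agent.Lib.JFourRec.Sys
import Cfsg.Agent.Lib.JankoFour.TwoTen.Instance

/-!
# The involution of a trio exists
-/

set_option autoImplicit false
set_option linter.unusedSectionVars false

namespace CfsgLib.JFourRec

open Cfsg CfsgLib.Golay CfsgLib.M24Cert CfsgLib.JankoFour CfsgLib.JankoFour.TwoTen
open scoped symmDiff Pointwise

variable {G : Type*} [Group G] [Finite G] {z : G} {V : Subgroup G} {P : Finset GolayPt → G}
  {κ : Equiv.Perm GolayPt → G}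

theorem base_facts : (∀ L ∈ [K0IL, K1B, K1PB, KEB, TAUB, SEV, MV2, MV3], m24Test L = true) ∧
    compL k0L K0IL = List.range 24 ∧ compL K0IL k0L = List.range 24 ∧
    K1B = compL (compL K0IL k1L) k0L ∧ K1PB = compL (compL K0IL k1pL) k0L ∧
    KEB = compL (compL K0IL kEL) k0L ∧
    sameB (trioMasks.map (imgF K0IL)) (TRIO.getD 4 []) = true ∧
    imgF k0L 5279 = 8484900 ∧ imgF K0IL 8484900 = 5279 ∧
    imgF K1B 5279 = 5279 ∧ imgF K1PB 5279 = 5279 ∧
    sameB ((TRIO.getD 4 []).map (imgF K1B)) (TRIO.getD 2 []) = true ∧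
    sameB ((TRIO.getD 4 []).map (imgF K1PB)) (TRIO.getD 5 []) = true ∧
    (∀ m < 64, flip 4 m ^^^ flip 2 m = flip 5 m) ∧
    inCodeT (imgF K0IL 69668 ^^^ getR Match.MK 13) = true ∧ bc 69668 % 2 = 0 ∧ flip 4 13 = 0 ∧
    bc 4489728 % 2 = 0 ∧ bc 131345 % 2 = 0 := by
  have h := base_ok
  simp only [Bool.and_eq_true, List.all_eq_true, Nat.beq_eq, and_assoc] at h
  obtain ⟨h0, h1, h2, h3, h4, h5, h6, h7, h8, h9, h10, h11, h12, h13, h14, h15, h16, h17, h18⟩ := h
  exact ⟨h0, eqB_eq h1, eqB_eq h2, eqB_eq h3, eqB_eq h4, eqB_eq h5, h6, h7, h8, h9, h10, h11, h12,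
    fun m hm => Nat.eq_of_beq_eq_true (allLt_spec h13 m hm), h14, h15, h16, h17, h18⟩

theorem base_test {L : List ℕ} (h : L ∈ [K0IL, K1B, K1PB, KEB, TAUB, SEV, MV2, MV3]) :
    pL L ∈ M24 := mem_M24_of_test (base_facts.1 L h)

theorem k0L_valid : validL 24 k0L = true :=
  valid_of_m24Test (List.all_eq_true.1 list_checks k0L (by simp))

theorem list_valid {L : List ℕ} (h : L ∈ [k1L, k1pL, kEL, tauL]) : validL 24 L = true := by
  refine valid_of_m24Test (List.all_eq_true.1 list_checks L ?_)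
  simp only [List.mem_cons, List.not_mem_nil, or_false] at h
  rcases h with rfl | rfl | rfl | rfl <;> simp

theorem k0_inv : pL K0IL = k0⁻¹ := by
  refine eq_inv_of_mul_eq_one_right ?_
  show pL k0L * pL K0IL = 1
  rw [← pL_compL k0L_valid (valid_of_m24Test (base_facts.1 _ (by simp))), base_facts.2.1, pL_range]

theorem conj_k0 {L M : List ℕ} (hL : validL 24 L = true) (h : M = compL (compL K0IL L) k0L) :
    pL M = k0⁻¹ * pL L * k0 := by
  have hi := valid_of_m24Test (base_facts.1 K0IL (by simp))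
  rw [h, pL_compL (validL_compL hi hL) k0L_valid, pL_compL hi hL, k0_inv]
  rfl

theorem k0_toSet (n : ℕ) : k0 • toSet (imgF K0IL n) = toSet n := by
  rw [← smul_toSet_imgF (valid_of_m24Test (base_facts.1 K0IL (by simp))), k0_inv, smul_inv_smul]

theorem k0_oct : k0 • oct = octA := by
  rw [oct, show baseOctad = 5279 from rfl, octA, ← base_facts.2.2.2.2.2.2.2.1]
  exact smul_toSet_imgF k0L_valid 5279

theorem k0_trio : k0⁻¹ • trio = trioSet 4 := by
  rw [← k0_inv, trio, smul_maskSet (valid_of_m24Test (base_facts.1 K0IL (by simp))),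
    maskSet_congr base_facts.2.2.2.2.2.2.1]
  rfl

/-- The involution seen from the base octad. -/
theorem exists_base (S : Setup z V P κ) (hC : Certs) {B : Subgroup G}
    (hle : B ≤ Subgroup.normalizer (S.A : Set G)) (hinf : B ⊓ S.A = ⊥)
    (hsup : B ⊔ S.A = Subgroup.normalizer (S.A : Set G))
    (hstab : ∀ g ∈ M24, g • oct = oct → g (pt 5) = pt 5 → κ g ∈ B) :
    ∃ a : G, a * a = 1 ∧ a ∉ Subgroup.normalizer (V : Set G) ∧
      (∀ g ∈ M24, g • oct = oct → g • trioSet 4 = trioSet 4 → Commute (κ g) a) ∧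
      a * (κ (pL K1B) * a * (κ (pL K1B))⁻¹) = κ (pL K1PB) * a * (κ (pL K1PB))⁻¹ ∧
      Commute a (P (toSet (imgF K0IL 69668))) ∧
      a * P (toSet (imgF K0IL 4489728)) * a * P (toSet (imgF K0IL 4489728)) =
        P (toSet (imgF K0IL 131345)) * κ (pL KEB) ∧
      IsConj a (P (toSet (imgF K0IL 3)) * κ (pL (Match.WL.getD 14 []))) := by
  obtain ⟨h0, -, -, -, -, -, -, -, -, h9, h10, h11, h12, h13, h14, h15, h16, h17, h18⟩ := base_facts
  have hX : κ Match.X ∈ B := hstab _ Match.X_mem.1.1 Match.X_mem.1.2 Match.X_mem.2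
  have hY : κ Match.Y ∈ B := hstab _ Match.Y_mem.1.1 Match.Y_mem.1.2 Match.Y_mem.2
  obtain ⟨a, haB, ha⟩ := exists_tau S hC hle hinf hsup (show 4 < 15 by omega)
  have hlt4 : ∀ n < 1024, tauMap 4 n < 1024 := fun n hn => (tau_facts (by omega) hn).1
  have hsq : a * a = 1 := Act.eq_of_one S hC hinf (mul_mem haB haB)
    ((ha.mul ha hlt4).congr fun n hn => tau_tau (by omega) hn)
  have hmove : ∀ g ∈ M24, g • oct = oct → ∀ j < 15, g • trioSet 4 = trioSet j →
      κ g * a * (κ g)⁻¹ ∈ B ∧ Act P κ (κ g * a * (κ g)⁻¹) (tauMap j) := by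
    intro g hg ho j hj e
    obtain ⟨j', hj', e', hb⟩ := (moves_stab S hX hY hg ho).2 4 (by omega)
    rw [e] at e'
    obtain rfl := trioSet_inj hj hj' e'
    exact hb a haB ha
  have hmask : ∀ L ∈ [K0IL, K1B, K1PB, KEB, TAUB, SEV, MV2, MV3], imgF L 5279 = 5279 → pL L • oct = oct :=
    fun L hL e => by
      rw [oct, show baseOctad = 5279 from rfl, smul_toSet_imgF (valid_of_m24Test (h0 L hL)), e]
  have htrio : ∀ L ∈ [K0IL, K1B, K1PB, KEB, TAUB, SEV, MV2, MV3], ∀ j,
      sameB ((TRIO.getD 4 []).map (imgF L)) (TRIO.getD j []) = true → pL L • trioSet 4 = trioSet j :=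
    fun L hL j e => by rw [trioSet, smul_maskSet (valid_of_m24Test (h0 L hL)), maskSet_congr e]; rfl
  refine ⟨a, hsq, fun haV => ?_, fun g hg ho e => ?_, ?_, ?_, ?_, ?_⟩
  · -- outside the normaliser
    obtain ⟨m, hm, e⟩ : ∃ m < 64, flip 4 m ≠ 0 := ⟨1, by omega, by decide +kernel⟩
    obtain ⟨hf, -, -⟩ := flip_facts (show 4 < 15 by omega) hm
    have h1 : a * vec P κ m * a⁻¹ ∈ V := by
      refine (Subgroup.mem_normalizer_iff.1 haV _).1 ?_
      rw [vec_low hm S]
      exact S.mem _ (Match.mask_facts hm).2.1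
    rw [ha m (by omega)] at h1
    obtain ⟨-, t2, t3⟩ := tau_facts (show 4 < 15 by omega) (show m < 1024 by omega)
    rw [Nat.mod_eq_of_lt hm] at t2 t3
    rw [Nat.div_eq_of_lt hm, Nat.zero_xor] at t3
    rw [vec, t2, t3, S.el_mem_V (Match.mask_facts hm).2.1 (mem_W.1 (Match.wnum_facts hf).1).1] at h1
    have h00 := ((Match.wnum_facts (show 0 < 16 by omega)).2 0 (by omega)).1
    rw [Nat.xor_self, left_eq_mul] at h00
    exact e (((Match.wnum_facts hf).2 0 (by omega)).2 (h1.trans h00.symm))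
  · -- the group of the trio and the octad
    obtain ⟨hb, hact⟩ := hmove g hg ho 4 (by omega) e
    exact mul_inv_eq_iff_eq_mul.1 (Act.unique S hC hinf hb haB hact ha)
  · -- three trios on a line
    obtain ⟨hb, hact⟩ := hmove _ (base_test (by simp)) (hmask _ (by simp) h9) 2 (by omega) (htrio K1B (by simp) 2 h11)
    obtain ⟨hb', hact'⟩ :=
      hmove _ (base_test (by simp)) (hmask _ (by simp) h10) 5 (by omega) (htrio K1PB (by simp) 5 h12)
    refine Act.unique S hC hinf (mul_mem haB hb) hb'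
      ((ha.mul hact fun n hn => (tau_facts (by omega) hn).1).congr fun n hn => ?_) hact'
    obtain ⟨-, t2, -⟩ := tau_facts (show 2 < 15 by omega) hn
    rw [tauMap, t2, tauMap, tauMap, Nat.xor_assoc, ← h13 _ (num_lt hn).1]
    congr 1
    rw [Nat.xor_comm (64 * flip 2 _)]
    simpa [Nat.shiftLeft_eq, mul_comm] using
      (Nat.shiftLeft_xor_distrib (a := flip 4 (n % 64)) (b := flip 2 (n % 64)) (i := 6)).symm
  · -- a fixed vector
    have e : P (toSet (imgF K0IL 69668)) = vec P κ 13 := by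
      rw [vec_low (by omega) S]
      refine (S.P_eq_iff ?_ (Match.mask_facts (by omega)).2.1).2 (toSet_eqv h14)
      rw [← smul_toSet_imgF (valid_of_m24Test (h0 K0IL (by simp)))]
      exact two_dvd_smul (by rw [card_toSet_bc]; exact Nat.dvd_of_mod_eq_zero h15)
    rw [e]
    have h1 := ha 13 (by omega)
    rw [tauMap, h16, Nat.mul_zero, Nat.xor_zero] at h1
    exact mul_inv_eq_iff_eq_mul.1 h1
  · -- the commutator with a vector
    obtain ⟨⟨d1, d2⟩, d3⟩ : (inCodeT (imgF K0IL 131345 ^^^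
        getR Match.MK ((tauMap 4 573 ^^^ ttMap (u8Map 573)) % 64)) = true ∧
      eqB KEB (compL (Match.WL.getD ((tauMap 4 573 ^^^ ttMap (u8Map 573)) / 64) []) TAUB) = true) ∧
      inCodeT (imgF K0IL 4489728 ^^^ (getR Match.MK 61 ^^^ 2080)) = true := by
      simpa only [Bool.and_eq_true] using delta_chk
    obtain ⟨k1, k2⟩ := Bool.and_eq_true_iff.1 u8_chk
    obtain ⟨hlt8, hs8, hw8, hu8⟩ := act_of_chk S k1
    obtain ⟨hltT, -, hwT, hT⟩ := act_of_chk S tt_chk
    obtain ⟨huB, -⟩ := translation_mem S hC hle hinf hsup hstab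
    set u := P (toSet 2080) * κ (pL (Match.WL.getD 8 [])) with hu
    have huB' : u ∈ B := huB
    have hT' : Act P κ (κ (pL TAUB)) ttMap := by
      have : P (toSet 0) = 1 := by
        rw [show toSet 0 = ∅ from Finset.eq_empty_of_forall_notMem fun p hp => by simp [mem_toSet] at hp, S.P_empty]
      rwa [this, one_mul] at hT
    have hwW := (Match.wnum_facts (show 8 < 16 by omega)).1
    have husq : u * u = 1 := by
      refine (S.el_sq_iff hs8 hw8).2 ⟨W_sq hwW, ?_⟩
      rw [smul_toSet_imgF (valid_of_m24Test (wl_valid (by omega))), Nat.eq_of_beq_eq_true k2]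
      exact Eqv.refl _
    have hτB : κ (pL TAUB) ∈ B := by
      have hf := fix_ok
      simp only [Bool.and_eq_true, List.all_eq_true, Nat.beq_eq] at hf
      obtain ⟨f1, f2⟩ := hf.1.1.1.1.1.1.1.1 TAUB (by simp)
      exact hstab _ hwT (hmask _ (by simp) f1) (by rw [Match.pl_pt (h0 _ (by simp)) (by omega), f2])
    have hau : a * u * a = κ (pL TAUB) * u := by
      refine Act.unique S hC hinf (mul_mem (mul_mem haB huB') haB) (mul_mem hτB huB')
        (((ha.mul hu8 hlt8).mul ha hlt4).congr fun n hn => ?_) (hT'.mul hu8 hlt8)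
      have := allLt_spec sig_chk n hn
      simp only [Bool.and_eq_true, Nat.beq_eq] at this
      exact this.2
    have he : P (toSet (imgF K0IL 4489728)) = vec P κ 573 * u := by
      have hev : 2 ∣ (toSet (imgF K0IL 4489728)).card := by
        rw [← smul_toSet_imgF (valid_of_m24Test (h0 K0IL (by simp)))]
        exact two_dvd_smul (by rw [card_toSet_bc]; exact Nat.dvd_of_mod_eq_zero h17)
      have h61 := (Match.mask_facts (show 61 < 64 by omega)).2.1
      rw [vec, hu, show (573 : ℕ) % 64 = 61 by norm_num, show (573 : ℕ) / 64 = 8 by norm_num, Match.wnum,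
        S.mul_el h61 hs8 hw8 hw8, show pL (Match.WL.getD 8 []) * pL (Match.WL.getD 8 []) = 1 from W_sq hwW, S.κ_one,
        mul_one, smul_toSet_imgF (valid_of_m24Test (wl_valid (by omega))), Nat.eq_of_beq_eq_true k2, ← toSet_xor]
      exact (S.P_eq_iff hev (by rw [toSet_xor]; exact two_dvd_sd h61 hs8)).2 (toSet_eqv d3)
    have hr : tauMap 4 573 ^^^ ttMap (u8Map 573) < 1024 :=
      Nat.xor_lt_two_pow (n := 10) (hlt4 _ (by omega)) (hltT _ (hlt8 _ (by omega)))
    set r := tauMap 4 573 ^^^ ttMap (u8Map 573) with hrdef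
    rw [he]
    have hstep : a * (vec P κ 573 * u) * a * (vec P κ 573 * u) = vec P κ r * κ (pL TAUB) := by
      have hainv : a⁻¹ = a := inv_eq_of_mul_eq_one_left hsq
      have huinv : u⁻¹ = u := inv_eq_of_mul_eq_one_left husq
      calc a * (vec P κ 573 * u) * a * (vec P κ 573 * u)
          = (a * vec P κ 573 * a⁻¹) * (a * u * a) * vec P κ 573 * u := by group
        _ = vec P κ (tauMap 4 573) * (κ (pL TAUB) * (u * vec P κ 573 * u⁻¹) * (κ (pL TAUB))⁻¹) *
              (κ (pL TAUB) * (u * u)) := by rw [ha _ (by omega), hau]; group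
        _ = vec P κ r * κ (pL TAUB) := by
            rw [hu8 _ (by omega), hT' _ (hlt8 _ (by omega)), husq, mul_one,
              ← vec_xor S (hlt4 _ (by omega)) (hltT _ (hlt8 _ (by omega)))]
    rw [hstep, vec]
    obtain ⟨hm, hw⟩ := num_lt hr
    have hwM := (mem_W.1 (Match.wnum_facts hw).1).1
    rw [mul_assoc, ← S.kmul _ hwM _ hwT, eqB_eq d2,
      pL_compL (valid_of_m24Test (wl_valid hw)) (valid_of_m24Test (h0 TAUB (by simp)))]
    refine congrArg (· * κ (pL (Match.WL.getD (r / 64) []) * pL TAUB)) ?_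
    refine (S.P_eq_iff (Match.mask_facts hm).2.1 ?_).2 (Eqv.symm (toSet_eqv d1))
    rw [← smul_toSet_imgF (valid_of_m24Test (h0 K0IL (by simp)))]
    exact two_dvd_smul (by rw [card_toSet_bc]; exact Nat.dvd_of_mod_eq_zero h18)
  · -- conjugate to a translation
    obtain ⟨⟨⟨k1, k2⟩, -⟩, -⟩ : ((actChk 65568 (Match.WL.getD 14 []) u14Map = true ∧ imgF K0IL 3 = 65568) ∧
        eqB (compL (compL K0IL tauL) k0L) (Match.WL.getD 14 []) = true) ∧
        (Match.WL.getD 14 []).getD 5 0 = 16 := by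
      simpa only [Bool.and_eq_true, Nat.beq_eq] using u14_chk
    obtain ⟨hlt14, -, -, hu⟩ := act_of_chk S k1
    obtain ⟨-, huB⟩ := translation_mem S hC hle hinf hsup hstab
    obtain ⟨s6, s4⟩ := Bool.and_eq_true_iff.1 s_lin
    have h6 : ∀ m < 64, getR S6 m < 1024 ∧ ∀ n < 64, getR S6 (m ^^^ n) = getR S6 m ^^^ getR S6 n := fun m hm => by
      have := allLt_spec s6 m hm
      simp only [Bool.and_eq_true, Nat.blt_eq] at this
      exact ⟨this.1, fun n hn => Nat.eq_of_beq_eq_true (allLt_spec this.2 n hn)⟩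
    have h4 : ∀ m < 16, getR S4 m < 1024 ∧ ∀ n < 16, getR S4 (m ^^^ n) = getR S4 m ^^^ getR S4 n := fun m hm => by
      have := allLt_spec s4 m hm
      simp only [Bool.and_eq_true, Nat.blt_eq] at this
      exact ⟨this.1, fun n hn => Nat.eq_of_beq_eq_true (allLt_spec this.2 n hn)⟩
    have hs : ∀ n < 1024, sigMap n < 1024 := fun n hn =>
      Nat.xor_lt_two_pow (n := 10) (h6 _ (num_lt hn).1).1 (h4 _ (num_lt hn).2).1
    have hchk := fun n (hn : n < 1024) => allLt_spec sig_chk n hn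
    simp only [Bool.and_eq_true, Bool.or_eq_true, Bool.not_eq_true', Nat.beq_eq] at hchk
    obtain ⟨c, hcB, hc⟩ := exists_act S hC hle hinf hsup hs (fun n hn n' hn' => by
        rw [sigMap, sigMap, sigMap, num_xor.1, num_xor.2, (h6 _ (num_lt hn).1).2 _ (num_lt hn').1,
          (h4 _ (num_lt hn).2).2 _ (num_lt hn').2]
        ac_rfl)
      (fun n hn h => (hchk n hn).1.1.1.resolve_right fun h' => by rw [h, Nat.beq_refl] at h'; exact Bool.noConfusion h')
      (fun n hn h => (hchk n hn).1.1.2.resolve_left fun h' => by rw [h] at h'; exact Bool.noConfusion h')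
    rw [k2]
    refine isConj_iff.2 ⟨c, ?_⟩
    set v := P (toSet 65568) * κ (pL (Match.WL.getD 14 []))
    have hvc : v * c = c * a := Act.unique S hC hinf (mul_mem huB hcB) (mul_mem hcB haB)
      ((hu.mul hc hs).congr fun n hn => (hchk n hn).1.2.symm) (hc.mul ha hlt4)
    rw [← hvc, mul_inv_cancel_right]

/-- The involution of a trio, in every group of Janko-four type. -/
theorem exists_pre [IsSimpleGroup G] (hJ : IsOfJankoFourType G) :
    ∃ (z : G) (V : Subgroup G) (P : Finset GolayPt → G) (κ : Equiv.Perm GolayPt → G) (a : G),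
      IsOfJankoFourTypeAt z ∧ Pre z V P κ a := by
  obtain ⟨z, T, h⟩ := hJ
  obtain ⟨ι, hι, q, inst, π, n, M, φ, m, -⟩ := JankoFour.exists_model h
  obtain ⟨hC, V, P, κ0, S0⟩ := exists_setup m fun s A Ab c => normaliser_split c
  obtain ⟨κ, S, B, hle, hinf, hsup, hstab⟩ := S0.exists_matched_pt hC
  obtain ⟨a, hsq, hN, hcomm, hline, hv, hdelta, hconj⟩ := exists_base S hC hle hinf hsup hstab
  set k := κ k0
  have hk : k ∈ Subgroup.normalizer (V : Set G) := S.kmem _ k0_mem
  have hne : a ≠ 1 := fun e => hN (e ▸ one_mem _)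
  have hcj : ∀ n, 2 ∣ (toSet n).card → k * P (toSet (imgF K0IL n)) * k⁻¹ = P (toSet n) := fun n hn => by
    rw [S.act _ k0_mem _ (by
      rw [← smul_toSet_imgF (valid_of_m24Test (base_facts.1 K0IL (by simp)))]
      exact two_dvd_smul hn), k0_toSet]
  have hev : ∀ n, bc n % 2 = 0 → 2 ∣ (toSet n).card := fun n hn => by
    rw [card_toSet_bc]; exact Nat.dvd_of_mod_eq_zero hn
  have hκ : ∀ {L M : List ℕ}, validL 24 L = true → M = compL (compL K0IL L) k0L → pL L ∈ M24 →
      k * κ (pL M) * k⁻¹ = κ (pL L) := by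
    intro L M hL hM hm
    rw [conj_k0 hL hM, S.kmul _ (mul_mem (inv_mem k0_mem) hm) _ k0_mem, S.kmul _ (inv_mem k0_mem) _ hm,
      S.κ_inv k0_mem]
    show k * (k⁻¹ * κ (pL L) * k) * k⁻¹ = _
    group
  refine ⟨z, V, P, κ, k * a * k⁻¹, ⟨T, h⟩, S, ?_, ?_, ?_, ?_, ?_, ?_, ?_, ?_⟩
  · rw [show k * a * k⁻¹ * (k * a * k⁻¹) = k * (a * a) * k⁻¹ by group, hsq]
    group
  · exact fun e => hne (conj_eq_one_iff.1 e)
  · intro e
    refine hN ?_
    have := mul_mem (mul_mem (inv_mem hk) e) hk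
    rwa [show k⁻¹ * (k * a * k⁻¹) * k = a by group] at this
  · rintro g ⟨hg, hgt⟩ hgo
    have hg' : g • trio = trio := hgt
    have h1 := hcomm (k0⁻¹ * g * k0) (mul_mem (mul_mem (inv_mem k0_mem) hg) k0_mem)
      (by rw [mul_smul, mul_smul, k0_oct, hgo, ← k0_oct, inv_smul_smul])
      (by rw [mul_smul, mul_smul, ← k0_trio, smul_inv_smul, hg'])
    rw [S.kmul _ (mul_mem (inv_mem k0_mem) hg) _ k0_mem, S.kmul _ (inv_mem k0_mem) _ hg, S.κ_inv k0_mem] at h1
    have h2 := congrArg (fun x => k * x * k⁻¹) h1.eq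
    show κ g * (k * a * k⁻¹) = k * a * k⁻¹ * κ g
    calc κ g * (k * a * k⁻¹) = k * (k⁻¹ * κ g * k * a) * k⁻¹ := by group
      _ = k * (a * (k⁻¹ * κ g * k)) * k⁻¹ := h2
      _ = k * a * k⁻¹ * κ g := by group
  · show k * a * k⁻¹ * tc κ (k * a * k⁻¹) k1 = tc κ (k * a * k⁻¹) k1p
    have e1 : k * κ (pL K1B) * k⁻¹ = κ k1 := hκ (list_valid (by simp)) base_facts.2.2.2.1 k1_mem
    have e2 : k * κ (pL K1PB) * k⁻¹ = κ k1p := hκ (list_valid (by simp)) base_facts.2.2.2.2.1 k1p_mem
    have h2 := congrArg (fun x => k * x * k⁻¹) hline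
    rw [tc, tc, ← e1, ← e2]
    calc _ = k * (a * (κ (pL K1B) * a * (κ (pL K1B))⁻¹)) * k⁻¹ := by group
      _ = k * (κ (pL K1PB) * a * (κ (pL K1PB))⁻¹) * k⁻¹ := h2
      _ = _ := by group
  · show Commute (k * a * k⁻¹) (P setC)
    rw [setC, ← hcj 69668 (hev _ (by decide +kernel))]
    exact (Commute.conj_iff k).2 hv
  · rw [setD, setE, ← hcj 4489728 (hev _ (by decide +kernel)), ← hcj 131345 (hev _ (by decide +kernel)),
      show κ kE = k * κ (pL KEB) * k⁻¹ from (hκ (list_valid (by simp)) base_facts.2.2.2.2.2.1 kE_mem).symm]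
    have h2 := congrArg (fun x => k * x * k⁻¹) hdelta
    calc _ = k * (a * P (toSet (imgF K0IL 4489728)) * a * P (toSet (imgF K0IL 4489728))) * k⁻¹ := by group
      _ = k * (P (toSet (imgF K0IL 131345)) * κ (pL KEB)) * k⁻¹ := h2
      _ = _ := by group
  · obtain ⟨⟨-, k3⟩, -⟩ : ((actChk 65568 (Match.WL.getD 14 []) u14Map = true ∧ imgF K0IL 3 = 65568) ∧
        eqB (compL (compL K0IL tauL) k0L) (Match.WL.getD 14 []) = true) ∧
        (Match.WL.getD 14 []).getD 5 0 = 16 := by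
      simpa only [Bool.and_eq_true, Nat.beq_eq] using u14_chk
    have e : k * (P (toSet (imgF K0IL 3)) * κ (pL (Match.WL.getD 14 []))) * k⁻¹ = P (toSet 3) * κ tau := by
      rw [← hcj 3 (hev _ (by decide +kernel)),
        show κ tau = k * κ (pL (Match.WL.getD 14 [])) * k⁻¹ from
          (hκ (list_valid (by simp)) (eqB_eq k3).symm tau_mem).symm]
      group
    have h1 : IsConj a (k * a * k⁻¹) := isConj_iff.2 ⟨k, rfl⟩
    have h2 : IsConj (P (toSet (imgF K0IL 3)) * κ (pL (Match.WL.getD 14 []))) (P (toSet 3) * κ tau) :=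
      isConj_iff.2 ⟨k, e⟩
    exact (h1.symm.trans hconj).trans h2

end CfsgLib.JFourRec
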