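import Cfsg.Agent.Lib.JFourRec.RelCommCore

/-!
# The commutator of the involutions of two trios at distance two

`rel_comm`: for the two neighbours `k1`, `k2` of the trio, `(t₁t₂)² = a · κ eA`.
-/

set_option autoImplicit false
set_option linter.unusedSectionVars false

namespace CfsgLib.JFourRec

open Subgroup Cfsg CfsgLib.Golay CfsgLib.LargeExtra CfsgLib.JankoFour CfsgLib.JFourRec.Rel
open scoped Pointwise symmDiff

variable {G : Type*} [Group G] [Finite G] {z : G} {V : Subgroup G} {P : Finset GolayPt → G}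
  {κ : Equiv.Perm GolayPt → G} {a : G}

/-- The two neighbours of a line commute. -/
theorem tr_line_comm (S : Sys z V P κ a) {g : Equiv.Perm GolayPt} (hg : g ∈ M24) :
    tc κ a g * tc κ a (g * k1) = tc κ a (g * k1) * tc κ a g :=
  invol_comm (tr_sq S _) (tr_sq S _) (tr_sq S _) (tr_line S hg)

/-- The image of a permutation fixing two trios commutes with their involutions. -/
theorem kappa_tc_comm (S : Sys z V P κ a) {g k : Equiv.Perm GolayPt} (hg : g ∈ M24) (hk : k ∈ M24)
    (h : k⁻¹ * (g * k) ∈ trioStab) : κ g * tc κ a k * (κ g)⁻¹ = tc κ a k := by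
  rw [tr_conj S hg hk, tr_congr S (mul_mem hg hk) hk h]

/-- A translate of a vector fixed by `a`. -/
theorem vector_comm (S : Sys z V P κ a) {k : Equiv.Perm GolayPt} (hk : k ∈ M24) {s : Finset GolayPt}
    (hs : 2 ∣ s.card) (h : Commute a (P s)) : Commute (tc κ a k) (P (k • s)) := by
  rw [← S.setup.act k hk s hs, tc]
  show _ = _
  rw [conj_pair, conj_pair, h.eq]

/-- The commutator with a product of two commuting involutions. -/
theorem commutator_mul {t x y : G} (ht : t * t = 1) (hx : x * x = 1) (hxy : x * y = y * x) :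
    t * (x * y) * (t * (x * y)) = t * x * (t * x) * (x * (t * y * (t * y)) * x) := by
  calc t * (x * y) * (t * (x * y)) = t * (x * y) * (t * (y * x)) := by rw [hxy]
    _ = t * x * ((t * t) * (y * t * (y * x))) := by rw [ht, one_mul]; simp only [mul_assoc]
    _ = t * x * (t * ((x * x) * (t * y * (t * y) * x))) := by rw [hx, one_mul]; simp only [mul_assoc]
    _ = _ := by simp only [mul_assoc]

/-- Moving the commutator by an element fixing `a` and the first neighbour. -/
theorem conj_at (S : Sys z V P κ a) {w : Equiv.Perm GolayPt} (hw : w ∈ trioStab)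
    (h : k1⁻¹ * (w * k1) ∈ trioStab) (X : G) :
    κ w * (tc κ a k1 * X * (tc κ a k1 * X)) * (κ w)⁻¹ =
      tc κ a k1 * (κ w * X * (κ w)⁻¹) * (tc κ a k1 * (κ w * X * (κ w)⁻¹)) := by
  conv_rhs => rw [← kappa_tc_comm S (trioStab_le hw) k1_mem h]
  group

/-- The commutator of the involutions of two trios at distance two. -/
theorem rel_comm (hz : IsOfJankoFourTypeAt z) (S : Sys z V P κ a) :
    (tc κ a k1 * tc κ a k2) * (tc κ a k1 * tc κ a k2) = a * κ eA := by
  obtain ⟨N, p, F⟩ := exists_nqFrame hz S.conj_z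
  obtain ⟨hs1, hs2, hw2, hw3, hl2, hl2a, hl2b, hl1, hl1a, he', hkE⟩ := places
  set t1 := tc κ a k1 with ht1
  set t2 := tc κ a k2 with ht2
  have hsig := sigma_trio
  have hT : ∀ {k}, k ∈ trioStab → κ k ∈ centralizer ({a} : Set G) := fun hk => kappa_cent S hk
  have hsM : sigma * k1p ∈ M24 := mul_mem (trioStab_le hsig) k1p_mem
  have hcent : ∀ {x : G}, Commute x a → x ∈ centralizer ({a} : Set G) := fun h =>
    mem_centralizer_singleton_iff.2 h.eq
  -- the two involutions centralise `a`
  have ht2' : κ sigma * t1 * (κ sigma)⁻¹ = t2 := by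
    rw [ht1, tr_conj S (trioStab_le hsig) k1_mem, tr_congr S (mul_mem (trioStab_le hsig) k1_mem) k2_mem hs1]
  have c1a : Commute t1 a := by
    have := tr_line_comm S (one_mem M24)
    rw [tr_one S, one_mul] at this
    exact this.symm
  have hp1 : a * t1 = tc κ a k1p := S.line
  have csa : κ sigma * a * (κ sigma)⁻¹ = a := by rw [(S.comm sigma hsig).eq, mul_inv_cancel_right]
  have hp2 : a * t2 = tc κ a (sigma * k1p) := by
    rw [← ht2', ← tr_conj S (trioStab_le hsig) k1p_mem, ← hp1, ← conj_pair, csa]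
  have c2a : Commute t2 a := by
    show t2 * a = a * t2
    rw [← ht2']
    calc κ sigma * t1 * (κ sigma)⁻¹ * a = κ sigma * t1 * (κ sigma)⁻¹ * (κ sigma * a * (κ sigma)⁻¹) := by rw [csa]
      _ = κ sigma * (t1 * a) * (κ sigma)⁻¹ := conj_pair _ _ _
      _ = κ sigma * (a * t1) * (κ sigma)⁻¹ := by rw [c1a.eq]
      _ = κ sigma * a * (κ sigma)⁻¹ * (κ sigma * t1 * (κ sigma)⁻¹) := (conj_pair _ _ _).symm
      _ = a * (κ sigma * t1 * (κ sigma)⁻¹) := by rw [csa]
  -- the line through the second neighbour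
  set ty := tc κ a (w2 * k2) with hty
  set tw := tc κ a (w3 * k2) with htw
  have hw2M := trioStab_le w2_trio
  have hw3M := trioStab_le w3_trio
  have hy : ty = κ w2 * t2 * (κ w2)⁻¹ := (tr_conj S hw2M k2_mem).symm
  have hw : tw = κ w3 * t2 * (κ w3)⁻¹ := (tr_conj S hw3M k2_mem).symm
  have hline : t2 * ty = tw := by
    have := tr_line S kl2_mem
    rwa [tr_congr S kl2_mem k2_mem hl2, tr_congr S (mul_mem kl2_mem k1_mem) (mul_mem hw2M k2_mem) hl2a,
      tr_congr S (mul_mem kl2_mem k1p_mem) (mul_mem hw3M k2_mem) hl2b] at this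
  have hcy : t2 * ty = ty * t2 := invol_comm (tr_sq S _) (tr_sq S _) (tr_sq S _) hline
  have heven : Even a p t2 := F.even_of_line (hcent c2a) (hT w2_trio) (hT w3_trio) hy hw hline
  -- the element of order three lies in `N`
  have hrN : κ rA ∈ N := by
    have hs7 : κ sA ^ 7 = 1 := by
      have key : ∀ m : ℕ, κ (sA ^ m) = κ sA ^ m := by
        intro m
        induction m with
        | zero => rw [pow_zero, pow_zero, S.setup.κ_one]
        | succ m ih => rw [pow_succ, pow_succ, S.setup.kmul _ (pow_mem sA_mem m) _ sA_mem, ih]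
      rw [← key, sA_seven, S.setup.κ_one]
    haveI : Fact (Nat.Prime 7) := ⟨by norm_num⟩
    have hs1 : κ sA ≠ 1 := fun e => by
      exact sA_ne (κ_inj S.setup sA_mem (one_mem _) (e.trans S.setup.κ_one.symm))
    obtain ⟨x, hxN, hx3, hxc⟩ := F.exists_three_comm (hT sA_trio) (orderOf_eq_prime hs7 hs1)
    rcases S.three x hx3 (mem_centralizer_singleton_iff.1 (F.le_cent hxN)) hxc.symm with e | e
    · exact e ▸ hxN
    · rw [← inv_inv (κ rA), ← e]; exact inv_mem hxN
  -- the conjugate of `t2` sharing the common octad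
  set k' := kl1 * k1 with hk'
  have hk'M : k' ∈ M24 := mul_mem kl1_mem k1_mem
  set t' := tc κ a k' with ht'
  have h2' : t2 = κ rA * t' * (κ rA)⁻¹ := by
    rw [ht', tr_conj S rA_mem hk'M, tr_congr S (mul_mem rA_mem hk'M) k2_mem hl1a]
  have c' : Commute t' a := by
    have : t' = (κ rA)⁻¹ * t2 * κ rA := by rw [h2']; group
    rw [this]
    exact ((S.comm rA rA_trio).inv_left.mul_left c2a).mul_left (S.comm rA rA_trio)
  have c1' : t1 * t' = t' * t1 := by
    have := tr_line_comm S kl1_mem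
    rwa [tr_congr S kl1_mem k1_mem hl1] at this
  have h11 : t1 * t1 = 1 := tr_sq S k1
  have h22 : t2 * t2 = 1 := tr_sq S k2
  have h' : t' * t' = 1 := tr_sq S k'
  have i1 : t1⁻¹ = t1 := inv_eq_of_mul_eq_one_left h11
  have i2 : t2⁻¹ = t2 := inv_eq_of_mul_eq_one_left h22
  have i' : t'⁻¹ = t' := inv_eq_of_mul_eq_one_left h'
  set c := t1 * t2 * (t1 * t2) with hc
  -- `c` lies in the core
  have hcQ : c ∈ coreC a := by
    have hq : t' * t2 ∈ coreC a := by
      have := inv_mem (F.even_comm heven (inv_mem hrN))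
      have e : t' * t2 = (κ rA)⁻¹ * t2 * κ rA * t2⁻¹ := by rw [i2, h2']; group
      rw [e]
      simpa [mul_assoc, mul_inv_rev] using this
    set q := t' * t2 with hqdef
    have hq2 : t2 = t' * q := by rw [hqdef, ← mul_assoc, h', one_mul]
    have e : c = t' * ((t1 * q * t1) * q⁻¹) * t' := by
      have e1 : t2 = q⁻¹ * t' := by
        rw [hqdef, mul_inv_rev, i', i2, mul_assoc, h', mul_one]
      calc c = t1 * t2 * t1 * t2 := by rw [hc]; group
        _ = t1 * (t' * q) * t1 * (q⁻¹ * t') := by rw [← hq2, ← e1]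
        _ = (t1 * t') * q * t1 * (q⁻¹ * t') := by group
        _ = (t' * t1) * q * t1 * (q⁻¹ * t') := by rw [c1']
        _ = _ := by group
    have h1q : t1 * q * t1 ∈ coreC a := by
      have := F.core_conj (hcent c1a) hq
      rwa [i1] at this
    have h2q := F.core_conj (hcent c') (mul_mem h1q (inv_mem hq))
    rw [e]
    rwa [i'] at h2q
  -- the two involutions move the kernel by `a`
  have hmove : ∀ k kp : Equiv.Perm GolayPt, k ∈ M24 → kp ∈ M24 → a * tc κ a k = tc κ a kp →
      Commute (tc κ a k) a → ∀ e ∈ kerGrp, (k⁻¹ * (e * k) ∈ trioStab ∨ kp⁻¹ * (e * k) ∈ trioStab) →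
      tc κ a k * κ e * tc κ a k = κ e ∨ tc κ a k * κ e * tc κ a k = a * κ e := by
    intro k kp hk hkp hl hca e he hor
    have hce := tr_conj S (kerM he) hk
    rcases hor with h | h
    · left
      rw [tr_congr S (mul_mem (kerM he) hk) hk h] at hce
      calc tc κ a k * κ e * tc κ a k = tc κ a k * (κ e * tc κ a k * (κ e)⁻¹) * κ e := by group
        _ = κ e := by rw [hce, tr_sq S, one_mul]
    · right
      rw [tr_congr S (mul_mem (kerM he) hk) hkp h, ← hl] at hce
      calc tc κ a k * κ e * tc κ a k = tc κ a k * (κ e * tc κ a k * (κ e)⁻¹) * κ e := by group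
        _ = a * κ e := by rw [hce, ← mul_assoc, hca.eq, mul_assoc a, tr_sq S, mul_one]
  have hm1 := fun e he => hmove k1 k1p k1_mem k1p_mem hp1 c1a e he (move_one he)
  have hm2 := fun e he => hmove k2 (sigma * k1p) k2_mem hsM hp2 c2a e he (move_two he)
  have hcE : ∀ e ∈ kerGrp, c * κ e = κ e * c := by
    intro e he
    have ea : κ e * a = a * κ e := (S.comm e (kerGrp_le he)).eq
    -- conjugation by each involution adds a fixed element of `⟨a⟩`
    obtain ⟨u1, hu1, e1⟩ : ∃ u, (u = 1 ∨ u = a) ∧ t1 * κ e * t1 = u * κ e := by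
      rcases hm1 e he with h | h
      · exact ⟨1, .inl rfl, by rw [one_mul]; exact h⟩
      · exact ⟨a, .inr rfl, h⟩
    obtain ⟨u2, hu2, e2⟩ : ∃ u, (u = 1 ∨ u = a) ∧ t2 * κ e * t2 = u * κ e := by
      rcases hm2 e he with h | h
      · exact ⟨1, .inl rfl, by rw [one_mul]; exact h⟩
      · exact ⟨a, .inr rfl, h⟩
    have cu : ∀ {t : G}, Commute t a → t * t = 1 → ∀ {u : G}, (u = 1 ∨ u = a) → t * u * t = u := by
      intro t ht htt u hu
      rcases hu with rfl | rfl
      · rw [mul_one, htt]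
      · rw [ht.eq, mul_assoc, htt, mul_one]
    have f : ∀ {t : G}, Commute t a → t * t = 1 → ∀ {u v : G}, (u = 1 ∨ u = a) → t * κ e * t = v * κ e →
        t * (u * κ e) * t = u * v * κ e := by
      intro t ht htt u v hu hv
      calc t * (u * κ e) * t = (t * u * t) * (t⁻¹ * κ e * t) := by group
        _ = _ := by rw [cu ht htt hu, inv_eq_of_mul_eq_one_left htt, hv, mul_assoc]
    have huu : ∀ {u : G}, (u = 1 ∨ u = a) → u * u = 1 := by
      rintro u (rfl | rfl)
      · exact one_mul 1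
      · exact S.sq
    have hcomm12 : u2 * u1 = u1 * u2 := by
      rcases hu1 with rfl | rfl <;> rcases hu2 with rfl | rfl <;> simp
    have hu21 : u2 * u1 = 1 ∨ u2 * u1 = a := by
      rcases hu1 with rfl | rfl <;> rcases hu2 with rfl | rfl <;> simp [S.sq]
    have hu212 : u2 * u1 * u2 = 1 ∨ u2 * u1 * u2 = a := by
      rw [hcomm12, mul_assoc, huu hu2, mul_one]; exact hu1
    have key : c * κ e * c⁻¹ = κ e := by
      rw [hc, mul_inv_rev, mul_inv_rev, i1, i2]
      calc t1 * t2 * (t1 * t2) * κ e * (t2 * t1 * (t2 * t1))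
          = t1 * (t2 * (t1 * (t2 * κ e * t2) * t1) * t2) * t1 := by group
        _ = t1 * (t2 * (u2 * u1 * κ e) * t2) * t1 := by rw [e2, f c1a h11 hu2 e1]
        _ = t1 * (u2 * u1 * u2 * κ e) * t1 := by rw [f c2a h22 hu21 e2]
        _ = u2 * u1 * u2 * u1 * κ e := f c1a h11 hu212 e1
        _ = κ e := by
          have : u2 * u1 * u2 * u1 = 1 := by
            rcases hu1 with rfl | rfl <;> rcases hu2 with rfl | rfl <;> simp [S.sq]
          rw [this, one_mul]
    exact mul_inv_eq_iff_eq_mul.1 key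
  obtain ⟨e, he, hce⟩ := mem_bigE S F hcQ hcE
  -- the shape of `c`
  have hcc : ∀ h : Equiv.Perm GolayPt, h ∈ trioStab → κ h * c * (κ h)⁻¹ = c → e * h = h * e := by
    intro h hh hfix
    have hhM := trioStab_le hh
    have hk : κ h * κ e * (κ h)⁻¹ = κ e := by
      rcases hce with h0 | h0 <;> rw [h0] at hfix
      · exact hfix
      · rw [← mul_assoc, (S.comm h hh).eq] at hfix
        refine mul_left_cancel (a := a) ?_
        rw [← hfix]; group
    rw [← S.setup.κ_inv hhM, ← S.setup.kmul _ hhM _ (kerM he), ← S.setup.kmul _ (mul_mem hhM (kerM he)) _ (inv_mem hhM)] at hk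
    have := κ_inj S.setup (mul_mem (mul_mem hhM (kerM he)) (inv_mem hhM)) (kerM he) hk
    exact (mul_inv_eq_iff_eq_mul.1 this).symm
  have hfixσ : κ sigma * c * (κ sigma)⁻¹ = c := by
    have hsM' := trioStab_le hsig
    have e2 : κ sigma * t2 * (κ sigma)⁻¹ = t1 := by
      rw [ht2, tr_conj S hsM' k2_mem, tr_congr S (mul_mem hsM' k2_mem) k1_mem hs2]
    have hinv : c⁻¹ = t2 * t1 * (t2 * t1) := by
      rw [hc, mul_inv_rev, mul_inv_rev, i1, i2]
    have hsq : c * c = 1 := by
      have hxe : κ e * κ e = 1 := by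
        rw [← S.setup.kmul e (kerM he) e (kerM he), kerGrp_sq he, S.setup.κ_one]
      rcases hce with h | h <;> rw [h]
      · exact hxe
      · rw [mul_assoc, ← mul_assoc (κ e), (S.comm e (kerGrp_le he)).eq, mul_assoc a (κ e), hxe, mul_one, S.sq]
    calc κ sigma * c * (κ sigma)⁻¹
        = κ sigma * t1 * (κ sigma)⁻¹ * (κ sigma * t2 * (κ sigma)⁻¹) *
          (κ sigma * t1 * (κ sigma)⁻¹ * (κ sigma * t2 * (κ sigma)⁻¹)) := by rw [hc]; group
      _ = t2 * t1 * (t2 * t1) := by rw [ht2', e2]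
      _ = c := by rw [← hinv]; exact inv_eq_of_mul_eq_one_left hsq
  have hfixp : ∀ {h : Equiv.Perm GolayPt}, h ∈ trioStab → k1⁻¹ * (h * k1) ∈ trioStab →
      k2⁻¹ * (h * k2) ∈ trioStab → κ h * c * (κ h)⁻¹ = c := by
    intro h hh h1 h2
    calc κ h * c * (κ h)⁻¹ = κ h * t1 * (κ h)⁻¹ * (κ h * t2 * (κ h)⁻¹) *
          (κ h * t1 * (κ h)⁻¹ * (κ h * t2 * (κ h)⁻¹)) := by rw [hc]; group
      _ = c := by
        rw [hc, ht1, ht2, kappa_tc_comm S (trioStab_le hh) k1_mem h1,
          kappa_tc_comm S (trioStab_le hh) k2_mem h2]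
  have heA : e = 1 ∨ e = eA := ker_fixed he (hcc sigma hsig hfixσ) fun h hh =>
    hcc _ (pair_places hh).1 (hfixp (pair_places hh).1 (pair_places hh).2.1 (pair_places hh).2.2)
  -- it is not 1
  have hne : c ≠ 1 := by
    intro h1
    have h12 : t1 * t2 = t2 * t1 := by
      calc t1 * t2 = (t1 * t2)⁻¹ := (inv_eq_of_mul_eq_one_left h1).symm
        _ = t2 * t1 := by rw [mul_inv_rev, i1, i2]
    set v := P (k1 • setC) with hv
    have hev : 2 ∣ (k1 • setC).card := by rw [Finset.card_smul_finset]; exact setC_even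
    have hev2 : 2 ∣ (k2 • setD).card := by rw [Finset.card_smul_finset]; exact setD_even
    have hv2 : v = P (k2 • setD) := (S.setup.P_eq_iff hev hev2).2 eqv_setC_setD
    have cv : Commute t1 v := vector_comm S k1_mem setC_even S.vcomm
    have hdelta : t2 * v * t2 * v = P (k2 • setE) * κ (k2 * kE * k2⁻¹) := by
      rw [hv2, ht2, tc, ← S.setup.act k2 k2_mem setD setD_even, ← S.setup.act k2 k2_mem setE setE_even,
        S.setup.kmul _ (mul_mem k2_mem kE_mem) _ (inv_mem k2_mem), S.setup.kmul _ k2_mem _ kE_mem,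
        S.setup.κ_inv k2_mem]
      calc κ k2 * a * (κ k2)⁻¹ * (κ k2 * P setD * (κ k2)⁻¹) * (κ k2 * a * (κ k2)⁻¹) *
            (κ k2 * P setD * (κ k2)⁻¹) = κ k2 * (a * P setD * a * P setD) * (κ k2)⁻¹ := by group
        _ = _ := by rw [S.delta]; group
    set m := k2 * kE * k2⁻¹ with hm
    have hmM : m ∈ M24 := mul_mem (mul_mem k2_mem kE_mem) (inv_mem k2_mem)
    have cm : Commute (κ m) t1 := mul_inv_eq_iff_eq_mul.1 (kappa_tc_comm S hmM k1_mem hkE)
    have cd : Commute t1 (t2 * v * t2 * v) :=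
      (((show Commute t1 t2 from h12).mul_right cv).mul_right (show Commute t1 t2 from h12)).mul_right cv
    rw [hdelta] at cd
    have cP : Commute t1 (P (k2 • setE)) := by
      have := cd.mul_right cm.symm.inv_right
      rwa [mul_inv_cancel_right] at this
    set g := k1⁻¹ * k2 with hg
    have hgM : g ∈ M24 := mul_mem (inv_mem k1_mem) k2_mem
    have hgE : 2 ∣ (g • setE).card := by rw [Finset.card_smul_finset]; exact setE_even
    have cg : Commute a (P (g • setE)) := by
      have e2 : P (k2 • setE) = κ k1 * P (g • setE) * (κ k1)⁻¹ := by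
        rw [S.setup.act k1 k1_mem _ hgE, hg, ← mul_smul, mul_inv_cancel_left]
      rw [e2] at cP
      have := cP.eq
      rw [ht1, tc, conj_pair, conj_pair] at this
      exact mul_left_cancel (mul_right_cancel this)
    have cq : ∀ {q : Equiv.Perm GolayPt}, q ∈ trioStab → Commute a (P (q • g • setE)) := fun {q} hq => by
      rw [← S.setup.act q (trioStab_le hq) _ hgE]
      exact ((S.comm q hq).symm.mul_right cg).mul_right (S.comm q hq).symm.inv_right
    have hq1E : 2 ∣ (q1 • g • setE).card := by rw [Finset.card_smul_finset]; exact hgE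
    have hq2E : 2 ∣ (q2 • g • setE).card := by rw [Finset.card_smul_finset]; exact hgE
    obtain ⟨x, y, hxy, hd⟩ := duad_pair
    have hd2 : 2 ∣ duad.card := by rw [hd, Finset.card_pair hxy]
    have hP : P duad = P (q1 • g • setE) * P (q2 • g • setE) := by
      rw [← S.setup.mul _ _ hq1E hq2E]
      exact ((S.setup.P_eq_iff (TwoTen.two_dvd_sd hq1E hq2E) hd2).2 eqv_duad).symm
    have cdu : Commute a (P {x, y}) := by
      rw [← hd, hP]
      exact (cq q1_trio).mul_right (cq q2_trio)
    exact S.notN (S.setup.cent x y hxy (mem_centralizer_singleton_iff.2 cdu.eq))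
  -- the sign
  rcases heA with rfl | rfl <;> rcases hce with hce | hce
  · exact absurd (hce.trans S.setup.κ_one) hne
  · exfalso
    rw [S.setup.κ_one, mul_one] at hce
    have hz' := commutator_mul h11 h22 hcy
    rw [hline, ← hc, hce] at hz'
    have hc2 : t1 * ty * (t1 * ty) = a := by
      rw [hy, ht1, ← conj_at S w2_trio hw2 t2, ← ht1, ← hc, hce, (S.comm w2 w2_trio).eq, mul_inv_cancel_right]
    have hc3 : t1 * tw * (t1 * tw) = a := by
      rw [hw, ht1, ← conj_at S w3_trio hw3 t2, ← ht1, ← hc, hce, (S.comm w3 w3_trio).eq, mul_inv_cancel_right]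
    rw [hc2, hc3, c2a.eq, mul_assoc a t2 t2, h22, mul_one, S.sq] at hz'
    exact S.ne hz'
  · exfalso
    set e' := w2 * eA * w2⁻¹ with he'def
    set e'' := w3 * eA * w3⁻¹ with he''def
    have he'M : e' ∈ M24 := mul_mem (mul_mem hw2M eA_mem) (inv_mem hw2M)
    have he''M : e'' ∈ M24 := mul_mem (mul_mem hw3M eA_mem) (inv_mem hw3M)
    have hconj : ∀ {w : Equiv.Perm GolayPt}, w ∈ M24 → κ w * κ eA * (κ w)⁻¹ = κ (w * eA * w⁻¹) := fun {w} hw => by
      rw [S.setup.kmul _ (mul_mem hw eA_mem) _ (inv_mem hw), S.setup.kmul _ hw _ eA_mem, S.setup.κ_inv hw]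
    have hz' := commutator_mul h11 h22 hcy
    rw [hline, ← hc, hce] at hz'
    have hc2 : t1 * ty * (t1 * ty) = κ e' := by
      rw [hy, ht1, ← conj_at S w2_trio hw2 t2, ← ht1, ← hc, hce, hconj hw2M]
    have hc3 : t1 * tw * (t1 * tw) = κ e'' := by
      rw [hw, ht1, ← conj_at S w3_trio hw3 t2, ← ht1, ← hc, hce, hconj hw3M]
    have hmv : t2 * κ e' * t2 = a * κ e' := by
      have h : κ e' * t2 * (κ e')⁻¹ = a * t2 := by
        rw [ht2, tr_conj S he'M k2_mem, tr_congr S (mul_mem he'M k2_mem) hsM he']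
        exact hp2.symm
      calc t2 * κ e' * t2 = t2 * (κ e' * t2 * (κ e')⁻¹) * κ e' := by group
        _ = a * κ e' := by rw [h, ← mul_assoc, c2a.eq, mul_assoc a, h22, mul_one]
    rw [hc2, hc3, hmv] at hz'
    -- hence `a` is an image of a permutation
    refine ne_kappa S (mul_mem (mul_mem (inv_mem eA_mem) he''M) (inv_mem he'M)) ?_
    rw [S.setup.kmul _ (mul_mem (inv_mem eA_mem) he''M) _ (inv_mem he'M),
      S.setup.kmul _ (inv_mem eA_mem) _ he''M, S.setup.κ_inv eA_mem, S.setup.κ_inv he'M, hz']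
    group
  · exact hce

end CfsgLib.JFourRec
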