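import Cfsg.Agent.Lib.JFourRec.FromPre
import Cfsg.Agent.Lib.JFourRec.PreExists
import Cfsg.Agent.Lib.JFourRec.RelComm
import Cfsg.Agent.Lib.J4Unique.Rec

/-!
# A simple group of Janko-four type is the presented group J4
-/

set_option autoImplicit false

namespace CfsgLib.JFourRec

theorem isoJ4_of_type {G : Type*} [Group G] [Finite G] [IsSimpleGroup G] (hJ : Cfsg.IsOfJankoFourType G) :
    Cfsg.Spor.IsoJ4 G := by
  obtain ⟨z, V, P, κ, a, hz, Q⟩ := exists_pre hJ
  have S := sys_of_pre hz Q
  exact iso_of_sys hz S (rel_comm hz S)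

end CfsgLib.JFourRec
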