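import Cfsg.Agent.Lib.JFourRec.PreCoord

/-!
# The involution of a trio, seen from the base octad
-/

set_option autoImplicit false
set_option linter.unusedSectionVars false

namespace CfsgLib.JFourRec

open Cfsg CfsgLib.Golay CfsgLib.M24Cert CfsgLib.JankoFour CfsgLib.JankoFour.TwoTen
open scoped symmDiff Pointwise

variable {G : Type*} [Group G] [Finite G] {z : G} {V : Subgroup G} {P : Finset GolayPt → G}
  {κ : Equiv.Perm GolayPt → G}

/-- The octads of one of the fifteen trios. -/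
def trioSet (i : ℕ) : Finset (Finset GolayPt) := ((TRIO.getD i []).map toSet).toFinset

theorem sameB_iff {l m : List ℕ} : sameB l m = true ↔ ∀ a, a ∈ l ↔ a ∈ m := by
  simp only [sameB, Bool.and_eq_true, allB_iff, memB_iff]
  exact ⟨fun h a => ⟨h.1 a, h.2 a⟩, fun h => ⟨fun a => (h a).1, fun a => (h a).2⟩⟩

theorem smul_maskSet {L : List ℕ} (hL : validL 24 L = true) (l : List ℕ) :
    pL L • (l.map toSet).toFinset = ((l.map (imgF L)).map toSet).toFinset := by
  ext s
  simp only [Finset.mem_smul_finset, List.mem_toFinset, List.mem_map, List.map_map, Function.comp_apply]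
  constructor
  · rintro ⟨_, ⟨a, ha, rfl⟩, rfl⟩
    exact ⟨a, ha, (smul_toSet_imgF hL a).symm⟩
  · rintro ⟨a, ha, rfl⟩
    exact ⟨_, ⟨a, ha, rfl⟩, smul_toSet_imgF hL a⟩

theorem maskSet_congr {l m : List ℕ} (h : sameB l m = true) : (l.map toSet).toFinset = (m.map toSet).toFinset := by
  ext s
  simp only [List.mem_toFinset, List.mem_map, sameB_iff.1 h]

theorem trioSet_inj {i j : ℕ} (hi : i < 15) (hj : j < 15) (h : trioSet i = trioSet j) : i = j := by
  have hlt : ∀ k < 15, ∀ t ∈ TRIO.getD k [], t < 2 ^ 24 := fun k hk t ht => by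
    have := allLt_spec trio_ok k hk
    simp only [Bool.and_eq_true, allB_iff, Nat.blt_eq] at this
    exact this.1.1.2 t ht
  have := allLt_spec (Bool.and_eq_true_iff.1 (allLt_spec trio_ok i hi)).2 j hj
  simp only [Bool.or_eq_true, Bool.not_eq_true', Nat.beq_eq] at this
  rcases this with h' | h'
  · exact h'
  · exfalso
    rw [← Bool.not_eq_true, allB_iff] at h'
    refine h' fun t ht => memB_iff.2 ?_
    have hmem : toSet t ∈ trioSet j := h ▸ List.mem_toFinset.2 (List.mem_map_of_mem ht)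
    obtain ⟨u, hu, e⟩ := List.mem_map.1 (List.mem_toFinset.1 hmem)
    rwa [← toSet_inj (hlt j hj u hu) (hlt i hi t ht) e]

theorem flip_facts {i : ℕ} (hi : i < 15) {m : ℕ} (hm : m < 64) : flip i m < 16 ∧
    (∀ n < 64, flip i (m ^^^ n) = flip i m ^^^ flip i n) ∧
    ∀ a < 16, isDec m a = true → isDec m (a ^^^ flip i m) = true := by
  have := allLt_spec (allLt_spec dt_ok i hi) m hm
  simp only [Bool.and_eq_true, Nat.blt_eq] at this
  refine ⟨this.1.1, fun n hn => Nat.eq_of_beq_eq_true (allLt_spec this.1.2 n hn), fun a ha h => ?_⟩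
  have h' := allLt_spec this.2 a ha
  simp only [h, Bool.not_true, Bool.false_or] at h'
  exact h'

theorem flip_zero {i : ℕ} (hi : i < 15) : flip i 0 = 0 := by
  have h := (flip_facts hi (show 0 < 64 by omega)).2.1 0 (by omega)
  rw [Nat.xor_self, Nat.xor_self] at h
  exact h

theorem xor_high {n f : ℕ} (hn : n < 1024) (hf : f < 16) :
    n ^^^ 64 * f < 1024 ∧ (n ^^^ 64 * f) % 64 = n % 64 ∧ (n ^^^ 64 * f) / 64 = n / 64 ^^^ f := by
  refine ⟨Nat.xor_lt_two_pow (n := 10) hn (by omega), ?_, ?_⟩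
  · rw [num_xor.1, Nat.mul_mod_right, Nat.xor_zero]
  · rw [num_xor.2, Nat.mul_div_cancel_left _ (by norm_num)]

theorem tau_facts {i : ℕ} (hi : i < 15) {n : ℕ} (hn : n < 1024) : tauMap i n < 1024 ∧
    tauMap i n % 64 = n % 64 ∧ tauMap i n / 64 = n / 64 ^^^ flip i (n % 64) :=
  xor_high hn (flip_facts hi (num_lt hn).1).1

theorem tau_tau {i : ℕ} (hi : i < 15) {n : ℕ} (hn : n < 1024) : tauMap i (tauMap i n) = n := by
  obtain ⟨-, h, -⟩ := tau_facts hi hn
  rw [tauMap, h, tauMap, Nat.xor_assoc, Nat.xor_self, Nat.xor_zero]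

theorem exists_tau (S : Setup z V P κ) (hC : Certs) {B : Subgroup G}
    (hle : B ≤ Subgroup.normalizer (S.A : Set G)) (hinf : B ⊓ S.A = ⊥)
    (hsup : B ⊔ S.A = Subgroup.normalizer (S.A : Set G)) {i : ℕ} (hi : i < 15) :
    ∃ b ∈ B, Act P κ b (tauMap i) := by
  refine exists_act S hC hle hinf hsup (fun n hn => (tau_facts hi hn).1) (fun n hn n' hn' => ?_)
    (fun n hn h => ?_) fun n hn h => ?_
  · rw [tauMap, tauMap, tauMap, num_xor.1, (flip_facts hi (num_lt hn).1).2.1 _ (num_lt hn').1]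
    have e : 64 * (flip i (n % 64) ^^^ flip i (n' % 64)) = 64 * flip i (n % 64) ^^^ 64 * flip i (n' % 64) := by
      simpa [Nat.shiftLeft_eq, mul_comm] using
        (Nat.shiftLeft_xor_distrib (a := flip i (n % 64)) (b := flip i (n' % 64)) (i := 6))
    rw [e]
    ac_rfl
  · have := tau_tau hi hn
    rw [h, tauMap, Nat.zero_mod, flip_zero hi, Nat.mul_zero, Nat.xor_self] at this
    exact this.symm
  · obtain ⟨-, h1, h2⟩ := tau_facts hi hn
    rw [h1, h2]
    exact (flip_facts hi (num_lt hn).1).2.2 _ (num_lt hn).2 h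

/-- The property carried along the stabiliser of the octad. -/
def Moves (P : Finset GolayPt → G) (κ : Equiv.Perm GolayPt → G) (B : Subgroup G) (g : Equiv.Perm GolayPt) : Prop :=
  g ∈ M24 ∧ ∀ i < 15, ∃ j < 15, g • trioSet i = trioSet j ∧
    ∀ b ∈ B, Act P κ b (tauMap i) → κ g * b * (κ g)⁻¹ ∈ B ∧ Act P κ (κ g * b * (κ g)⁻¹) (tauMap j)

theorem moves_mul (S : Setup z V P κ) {B : Subgroup G} {g h : Equiv.Perm GolayPt} (hg : Moves P κ B g)
    (hh : Moves P κ B h) : Moves P κ B (g * h) := by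
  refine ⟨mul_mem hg.1 hh.1, fun i hi => ?_⟩
  obtain ⟨j, hj, e, hb⟩ := hh.2 i hi
  obtain ⟨k, hk, e', hb'⟩ := hg.2 j hj
  refine ⟨k, hk, by rw [mul_smul, e, e'], fun b hbB hact => ?_⟩
  obtain ⟨h1, h2⟩ := hb b hbB hact
  obtain ⟨h3, h4⟩ := hb' _ h1 h2
  have e2 : κ (g * h) * b * (κ (g * h))⁻¹ = κ g * (κ h * b * (κ h)⁻¹) * (κ g)⁻¹ := by
    rw [S.kmul g hg.1 h hh.1]
    group
  rw [e2]
  exact ⟨h3, h4⟩

theorem moves_wnum (S : Setup z V P κ) {B : Subgroup G} {a : ℕ} (ha : a < 16) :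
    Moves P κ B (Match.wnum a) := by
  refine ⟨(mem_W.1 (Match.wnum_facts ha).1).1, fun i hi => ⟨i, hi, ?_, fun b hb hact => ?_⟩⟩
  · have := (allLt_spec trio_ok i hi)
    simp only [Bool.and_eq_true] at this
    rw [trioSet, Match.wnum, smul_maskSet (valid_of_m24Test (wl_valid ha)),
      maskSet_congr (allLt_spec this.1.2 a ha)]
  · have e := hact (64 * a) (by omega)
    rw [tauMap, show 64 * a % 64 = 0 by omega, flip_zero hi, Nat.mul_zero, Nat.xor_zero, vec_high S] at e
    have e2 : κ (Match.wnum a) * b * (κ (Match.wnum a))⁻¹ = b := by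
      rw [mul_inv_eq_iff_eq_mul] at e ⊢
      exact e.symm
    rw [e2]
    exact ⟨hb, hact⟩

theorem moves_gen (S : Setup z V P κ) {B : Subgroup G} (hX : κ Match.X ∈ B) (hY : κ Match.Y ∈ B) (c : Bool) :
    Moves P κ B (if c then Match.Y else Match.X) := by
  set g := if c then Match.Y else Match.X
  set T6 := if c then Match.TY6 else Match.TX6
  set T4 := if c then Match.TY4 else Match.TX4
  set PP := if c then PY else PX
  have hg : κ g ∈ B := by cases c <;> assumption
  have hgM : g ∈ M24 := Match.gen_mem c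
  obtain ⟨h6, h4⟩ := Match.act_facts c
  have hT : ∀ {m a : ℕ}, m < 64 → a < 16 →
      κ g * vec P κ (m + 64 * a) * (κ g)⁻¹ = vec P κ (getR T6 m + 64 * getR T4 a) := by
    intro m a hm ha
    rw [mul_inv_eq_iff_eq_mul, vec, (num_add hm).1, (num_add hm).2, vec, (num_add (h6 m hm).1).1,
      (num_add (h6 m hm).1).2, S.vec_conj c hm ha]
  have hadd : ∀ a < 16, ∀ b < 16, getR T4 (a ^^^ b) = getR T4 a ^^^ getR T4 b := by
    intro a ha b hb
    have hab : a ^^^ b < 16 := Nat.xor_lt_two_pow (n := 4) ha hb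
    have e6 : getR T6 0 = 0 := by cases c <;> decide +kernel
    have hv : ∀ {x : ℕ}, x < 16 → κ g * vec P κ (64 * x) * (κ g)⁻¹ = vec P κ (64 * getR T4 x) := by
      intro x hx
      have := hT (show 0 < 64 by omega) hx
      rwa [e6, Nat.zero_add, Nat.zero_add] at this
    have h := hv hab
    rw [vec_high S, vec_high S, ((Match.wnum_facts ha).2 b hb).1,
      S.kmul _ (mem_W.1 (Match.wnum_facts ha).1).1 _ (mem_W.1 (Match.wnum_facts hb).1).1,
      show κ g * (κ (Match.wnum a) * κ (Match.wnum b)) * (κ g)⁻¹ =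
        (κ g * κ (Match.wnum a) * (κ g)⁻¹) * (κ g * κ (Match.wnum b) * (κ g)⁻¹) by group,
      ← vec_high S, ← vec_high S, hv ha, hv hb, vec_high S, vec_high S,
      ← S.kmul _ (mem_W.1 (Match.wnum_facts (h4 a ha).1).1).1 _ (mem_W.1 (Match.wnum_facts (h4 b hb).1).1).1,
      ← ((Match.wnum_facts (h4 a ha).1).2 _ (h4 b hb).1).1, ← vec_high S, ← vec_high S] at h
    have hlt : ∀ {x}, x < 16 → 64 * x < 1024 := fun {x} hx => by omega
    have := vec_inj S (hlt (Nat.xor_lt_two_pow (n := 4) (h4 a ha).1 (h4 b hb).1)) (hlt (h4 _ hab).1) h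
    change 64 * (getR T4 a ^^^ getR T4 b) = 64 * getR T4 (a ^^^ b) at this
    omega
  have hpp : ∀ i < 15, getR PP i < 15 ∧ (∀ m < 64, getR T4 (flip i m) = flip (getR PP i) (getR T6 m)) ∧
      g • trioSet i = trioSet (getR PP i) := by
    intro i hi
    have h := allLt_spec dt_comm i hi
    have ht := allLt_spec trio_ok i hi
    simp only [Bool.and_eq_true, Nat.blt_eq] at h ht
    cases c
    · refine ⟨h.1.1, fun m hm => ?_, ?_⟩
      · have := allLt_spec h.2 m hm
        simp only [Bool.and_eq_true, Nat.beq_eq] at this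
        exact this.1
      · show Match.X • trioSet i = _
        rw [trioSet, Match.X, smul_maskSet (valid_of_m24Test Match.gen_facts.1), maskSet_congr ht.1.1.1.1]
        rfl
    · refine ⟨h.1.2, fun m hm => ?_, ?_⟩
      · have := allLt_spec h.2 m hm
        simp only [Bool.and_eq_true, Nat.beq_eq] at this
        exact this.2
      · show Match.Y • trioSet i = _
        rw [trioSet, Match.Y, smul_maskSet (valid_of_m24Test Match.gen_facts.2.1), maskSet_congr ht.1.1.1.2]
        rfl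
  have hsurj : ∀ n < 1024, ∃ m < 64, ∃ a < 16, n = getR T6 m + 64 * getR T4 a := by
    intro n hn
    obtain ⟨s1, s2⟩ := Bool.and_eq_true_iff.1 act_surj
    have h1 := allLt_spec s1 (n % 64) (num_lt hn).1
    have h2 := allLt_spec s2 (n / 64) (num_lt hn).2
    simp only [Bool.and_eq_true, Bool.not_eq_true'] at h1 h2
    cases c
    · obtain ⟨m, hm, e⟩ := Match.exists_of_allLt_false h1.1
      obtain ⟨a, ha, e'⟩ := Match.exists_of_allLt_false h2.1
      simp only [Bool.not_eq_false', Nat.beq_eq] at e e'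
      exact ⟨m, hm, a, ha, show n = getR Match.TX6 m + 64 * getR Match.TX4 a by omega⟩
    · obtain ⟨m, hm, e⟩ := Match.exists_of_allLt_false h1.2
      obtain ⟨a, ha, e'⟩ := Match.exists_of_allLt_false h2.2
      simp only [Bool.not_eq_false', Nat.beq_eq] at e e'
      exact ⟨m, hm, a, ha, show n = getR Match.TY6 m + 64 * getR Match.TY4 a by omega⟩
  refine ⟨hgM, fun i hi => ⟨getR PP i, (hpp i hi).1, (hpp i hi).2.2, fun b hb hact => ⟨?_, fun n hn => ?_⟩⟩⟩
  · exact mul_mem (mul_mem hg hb) (inv_mem hg)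
  · obtain ⟨m, hm, a, ha, rfl⟩ := hsurj n hn
    have hn' : m + 64 * a < 1024 := by omega
    have hf := (flip_facts hi hm).1
    have hm6 : getR T6 m < 64 := (h6 m hm).1
    have ha4 : getR T4 a < 16 := (h4 a ha).1
    obtain ⟨t1, t2, t3⟩ := tau_facts hi hn'
    rw [(num_add hm).1] at t2 t3
    rw [(num_add hm).2] at t3
    have e1 : tauMap i (m + 64 * a) = m + 64 * (a ^^^ flip i m) := by omega
    obtain ⟨u1, u2, u3⟩ := tau_facts (hpp i hi).1 (show getR T6 m + 64 * getR T4 a < 1024 by omega)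
    rw [(num_add hm6).1] at u2 u3
    rw [(num_add hm6).2, ← (hpp i hi).2.1 m hm, ← hadd a ha _ hf] at u3
    have e2 : tauMap (getR PP i) (getR T6 m + 64 * getR T4 a) = getR T6 m + 64 * getR T4 (a ^^^ flip i m) := by
      omega
    rw [e2, ← hT hm (Nat.xor_lt_two_pow (n := 4) ha hf), ← e1, ← hT hm ha, ← hact _ hn']
    group

/-- The stabiliser of the octad permutes the fifteen trios and their involutions alike. -/
theorem moves_stab (S : Setup z V P κ) {B : Subgroup G} (hX : κ Match.X ∈ B) (hY : κ Match.Y ∈ B)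
    {g : Equiv.Perm GolayPt} (hg : g ∈ M24) (ho : g • oct = oct) : Moves P κ B g := by
  classical
  have hone : Moves P κ B (1 : Equiv.Perm GolayPt) :=
    ⟨one_mem _, fun i hi => ⟨i, hi, one_smul _ _, fun b hb hact => by
      simp only [S.κ_one, one_mul, inv_one, mul_one]
      exact ⟨hb, hact⟩⟩⟩
  let H : Submonoid (Equiv.Perm GolayPt) :=
    { carrier := {g | Moves P κ B g}, one_mem' := hone, mul_mem' := fun ha hb => moves_mul S ha hb }
  let K : Subgroup (Equiv.Perm GolayPt) :=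
    { toSubmonoid := H
      inv_mem' := fun {x} hx => by
        have h : x⁻¹ = x ^ (orderOf x - 1) := inv_eq_of_mul_eq_one_right (by
          rw [← pow_succ', Nat.sub_add_cancel (orderOf_pos x), pow_orderOf_eq_one])
        rw [h]
        exact pow_mem (show x ∈ H from hx) _ }
  obtain ⟨i, hi, hgi⟩ := M24Cert.exists_pt (g (pt 5))
  have hin : pt i ∉ oct := fun h =>
    Match.pt5_notMem ((M24Cert.octStab_apply (M24Cert.mem_octStab.2 ⟨hg, ho⟩) (pt 5)).1 (hgi ▸ h))
  have hc := allLt_spec cover_ok i hi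
  rw [oct, show baseOctad = 5279 from rfl, pt_mem_toSet hi, Bool.not_eq_true] at hin
  simp only [hin, Bool.false_or, Bool.not_eq_true'] at hc
  obtain ⟨a, ha, e⟩ := Match.exists_of_allLt_false hc
  simp only [Bool.not_eq_false', Nat.beq_eq] at e
  obtain ⟨hw, -⟩ := Match.wnum_facts ha
  have hwp : Match.wnum a (pt 5) = g (pt 5) := by
    rw [Match.wnum, Match.pl_pt (wl_valid ha) (by omega), e, hgi]
  have hh : Moves P κ B (Match.wnum a * g) := Match.stab_induction K (moves_gen S hX hY false)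
    (moves_gen S hX hY true) (mul_mem (mem_W.1 hw).1 hg)
    (by rw [mul_smul, ho, W_smul hw subset_rfl])
    (by rw [Equiv.Perm.mul_apply, ← hwp, ← Equiv.Perm.mul_apply, W_sq hw, Equiv.Perm.one_apply])
  have := moves_mul S (moves_wnum S (B := B) ha) hh
  rwa [← mul_assoc, W_sq hw, one_mul] at this

theorem eqB_refl : ∀ l : List ℕ, eqB l l = true
  | [] => rfl
  | a :: l => by
    show (Nat.beq a a && eqB l l) = true
    rw [Nat.beq_refl, eqB_refl l]
    rfl

/-- The elements of `B` over the translations of the outside point. -/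
theorem translation_mem (S : Setup z V P κ) (hC : Certs) {B : Subgroup G}
    (hle : B ≤ Subgroup.normalizer (S.A : Set G)) (hinf : B ⊓ S.A = ⊥)
    (hsup : B ⊔ S.A = Subgroup.normalizer (S.A : Set G))
    (hstab : ∀ g ∈ M24, g • oct = oct → g (pt 5) = pt 5 → κ g ∈ B) :
    P (toSet 2080) * κ (Match.wnum 8) ∈ B ∧ P (toSet 65568) * κ (Match.wnum 14) ∈ B := by
  obtain ⟨⟨⟨⟨⟨⟨⟨⟨f0, f1⟩, f2⟩, f3⟩, f4⟩, f5⟩, f6⟩, f7⟩, f8⟩ := by
    have := fix_ok
    simp only [Bool.and_eq_true, List.all_eq_true, Nat.beq_eq] at this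
    exact this
  obtain ⟨k1, k2⟩ := Bool.and_eq_true_iff.1 u8_chk
  obtain ⟨hlt8, hs8, hw8, hu8⟩ := act_of_chk S k1
  have htests : ∀ L ∈ [TAUB, SEV, MV2, MV3], m24Test L = true ∧ pL L • oct = oct ∧ pL L (pt 5) = pt 5 := by
    intro L hL
    have h1 : m24Test L = true := by
      have := base_ok
      simp only [Bool.and_eq_true, List.all_eq_true] at this
      refine this.1.1.1.1.1.1.1.1.1.1.1.1.1.1.1.1.1.1 L ?_
      simp only [List.mem_cons, List.not_mem_nil, or_false] at hL ⊢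
      rcases hL with rfl | rfl | rfl | rfl <;> simp
    obtain ⟨h2, h3⟩ := f0 L hL
    exact ⟨h1, by rw [oct, show baseOctad = 5279 from rfl, smul_toSet_imgF (valid_of_m24Test h1), h2],
      by rw [Match.pl_pt h1 (by omega), h3]⟩
  set w := Match.wnum 8
  set u := P (toSet 2080) * κ w
  have hwW := (Match.wnum_facts (show 8 < 16 by omega)).1
  have hwN : u ∈ Subgroup.normalizer (S.A : Set G) :=
    (S.mem_stab hC hs8 (mem_W.1 hwW).1).2 ⟨W_smul hwW subset_rfl, ⟨hs8, by
      rw [oct, show baseOctad = 5279 from rfl, ← toSet_and, card_toSet_bc]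
      decide +kernel⟩⟩
  -- the element of `B` in the same coset
  obtain ⟨n, hn, hb⟩ : ∃ n < 1024, vec P κ n * u ∈ B := by
    have hmem : u ∈ ((B ⊔ S.A : Subgroup G) : Set G) := hsup.symm ▸ hwN
    rw [Subgroup.coe_mul_of_left_le_normalizer_right B S.A hle] at hmem
    obtain ⟨b, hb, a, ha, e⟩ := Set.mem_mul.1 hmem
    obtain ⟨n, hn, e'⟩ := vec_cover S (S.conj_A_mem (hle hb) (inv_mem ha))
    refine ⟨n, hn, ?_⟩
    rw [← e', ← e, show b * a⁻¹ * b⁻¹ * (b * a) = b by group]
    exact hb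
  set t := pL SEV
  obtain ⟨t1, t2, t3⟩ := htests SEV (by simp)
  have htM := mem_M24_of_test t1
  have hm := num_lt hn
  have hmf := Match.mask_facts hm.1
  -- the element of order seven
  have hfix : n = 0 ∨ n = 512 := by
    have htu : κ t * u * (κ t)⁻¹ = u := by
      have hc : t * w * t⁻¹ = w := by
        refine mul_inv_eq_one.1 (M24Cert.octPointStab_fix oct_mem Match.pt5_notMem
          (mul_mem (mul_mem (mul_mem htM (mem_W.1 hwW).1) (inv_mem htM)) (inv_mem (mem_W.1 hwW).1))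
          (fun x hx => (mem_W.1 (mul_mem (W_conj htM t2 hwW) (inv_mem hwW))).2 x hx) ?_)
        rw [inv_eq_of_mul_eq_one_left (W_sq hwW), Equiv.Perm.mul_apply]
        have hw5 : w (pt 5) = pt 11 := by
          show Match.wnum 8 (pt 5) = _
          rw [Match.wnum, Match.pl_pt (wl_valid (by omega)) (by omega), f4]
        have ht11 : t (pt 11) = pt 11 := by rw [Match.pl_pt t1 (by omega), f1]
        have hw11 : w (pt 11) = pt 5 := by
          show Match.wnum 8 (pt 11) = _
          rw [Match.wnum, Match.pl_pt (wl_valid (by omega)) (by omega), f5]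
        rw [hw5, Equiv.Perm.mul_apply, Equiv.Perm.mul_apply, Equiv.Perm.inv_eq_iff_eq.2 ht11.symm, hw11, t3]
      rw [S.conj_κ hs8 htM (mem_W.1 hwW).1, hc]
      have himg : t • toSet 2080 = toSet 2080 := by
        rw [smul_toSet_imgF (valid_of_m24Test t1)]
        exact congrArg toSet (by decide +kernel)
      rw [himg]
    have hκt : κ t ∈ B := hstab t htM t2 t3
    have h1 : κ t * (vec P κ n * u) * (κ t)⁻¹ * (vec P κ n * u)⁻¹ ∈ B :=
      mul_mem (mul_mem (mul_mem hκt hb) (inv_mem hκt)) (inv_mem hb)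
    rw [show κ t * (vec P κ n * u) * (κ t)⁻¹ = κ t * vec P κ n * (κ t)⁻¹ * (κ t * u * (κ t)⁻¹) by group, htu,
      show κ t * vec P κ n * (κ t)⁻¹ * u * (vec P κ n * u)⁻¹ = κ t * vec P κ n * (κ t)⁻¹ * (vec P κ n)⁻¹ by group]
      at h1
    have htA : κ t ∈ Subgroup.normalizer (S.A : Set G) := hle hκt
    have h2 : κ t * vec P κ n * (κ t)⁻¹ * (vec P κ n)⁻¹ ∈ B ⊓ S.A :=
      ⟨h1, S.A.mul_mem (S.conj_A_mem htA (vec_mem S hn)) (S.A.inv_mem (vec_mem S hn))⟩
    rw [hinf, Subgroup.mem_bot, mul_inv_eq_one] at h2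
    rw [vec, S.conj_κ hmf.2.1 htM (mem_W.1 (Match.wnum_facts hm.2).1).1] at h2
    obtain ⟨e1, e2⟩ := S.el_inj (two_dvd_smul hmf.2.1) hmf.2.1
      (mul_mem (mul_mem htM (mem_W.1 (Match.wnum_facts hm.2).1).1) (inv_mem htM))
      (mem_W.1 (Match.wnum_facts hm.2).1).1 h2
    have a0 : n % 64 = 0 := by
      have := allLt_spec f6 _ hm.1
      simp only [Bool.or_eq_true, Bool.and_eq_true, Nat.beq_eq, Nat.ble_eq] at this
      refine this.resolve_left fun h => ?_
      rw [smul_toSet_imgF (valid_of_m24Test t1)] at e2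
      rw [eqv_iff_sd, ← toSet_xor] at e2
      have e3 := e2.small (by rw [card_toSet_bc, Finset.card_empty]; omega)
      have e4 : bc (imgF SEV (getR Match.MK (n % 64)) ^^^ getR Match.MK (n % 64)) = 0 := by
        rw [← card_toSet_bc, e3, Finset.card_empty]
      rw [e4] at h
      exact absurd h.1 (by decide)
    have a4 : n / 64 = 0 ∨ n / 64 = 8 := by
      have := allLt_spec f7 _ hm.2
      simp only [Bool.or_eq_true, Nat.beq_eq, Bool.not_eq_true'] at this
      rcases this with (h | h) | h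
      · exfalso
        have hv := valid_of_m24Test (wl_valid hm.2)
        have e3 := pL_inj (validL_compL (valid_of_m24Test t1) hv) (validL_compL hv (valid_of_m24Test t1)) (by
          rw [pL_compL (valid_of_m24Test t1) hv, pL_compL hv (valid_of_m24Test t1)]
          exact mul_inv_eq_iff_eq_mul.1 e1)
        rw [e3] at h
        exact absurd h (by rw [eqB_refl]; decide)
      · exact .inl h
      · exact .inr h
    omega
  -- the second case is excluded
  have hn0 : n = 0 := by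
    refine hfix.resolve_right fun hn8 => ?_
    subst hn8
    have hpure : P (toSet 2080) ∈ B := by
      have e : vec P κ 512 * u = P (toSet 2080) := by
        rw [show (512 : ℕ) = 64 * 8 from rfl, vec_high S, ← mul_assoc, S.κ_P (mem_W.1 hwW).1 hs8, mul_assoc,
          ← S.kmul _ (mem_W.1 hwW).1 _ (mem_W.1 hwW).1, W_sq hwW, S.κ_one, mul_one]
        congr 1
        rw [Match.wnum, smul_toSet_imgF (valid_of_m24Test (wl_valid (by omega))), Nat.eq_of_beq_eq_true k2]
      rwa [e] at hb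
    have hmv : ∀ L ∈ [TAUB, SEV, MV2, MV3], ∀ p, L.getD 11 0 = p → P (toSet (2 ^ 5 ^^^ 2 ^ p)) ∈ B := by
      intro L hL p hp
      obtain ⟨l1, l2, l3⟩ := htests L hL
      have e : pL L • toSet 2080 = toSet (2 ^ 5 ^^^ 2 ^ p) := by
        have hsp : ∀ i < 24, toSet (2 ^ i) = {pt i} := fun i hi => by
          ext q
          obtain ⟨j, hj, rfl⟩ := M24Cert.exists_pt q
          rw [pt_mem_toSet hj, Nat.testBit_two_pow, decide_eq_true_iff, Finset.mem_singleton]
          exact ⟨fun e => e ▸ rfl, fun e => (pt_inj hj hi e).symm⟩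
        have hp24 : p < 24 := hp ▸ validL_getD_lt (valid_of_m24Test l1) (by omega)
        rw [show (2080 : ℕ) = 2 ^ 5 ^^^ 2 ^ 11 from rfl, toSet_xor, toSet_xor, hsp 5 (by omega), hsp 11 (by omega),
          hsp p hp24, Finset.smul_finset_symmDiff, Finset.smul_finset_singleton, Finset.smul_finset_singleton,
          Equiv.Perm.smul_def, Equiv.Perm.smul_def, l3, Match.pl_pt l1 (by omega), hp]
      have hκ : κ (pL L) ∈ B := hstab _ (mem_M24_of_test l1) l2 l3
      rw [← e, ← S.act _ (mem_M24_of_test l1) _ hs8]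
      exact mul_mem (mul_mem hκ hpure) (inv_mem hκ)
    have h1 := hmv MV2 (by simp) 6 f2
    have h2 := hmv MV3 (by simp) 23 f3
    have h12 := mul_mem (mul_mem hpure h1) h2
    set s := toSet 2080 ∆ toSet (2 ^ 5 ^^^ 2 ^ 6) ∆ toSet (2 ^ 5 ^^^ 2 ^ 23)
    have hs : s = toSet ((32 ^^^ 2048) ^^^ (32 ^^^ 64) ^^^ (32 ^^^ 8388608)) := by
      rw [toSet_xor _ (32 ^^^ 8388608), toSet_xor _ (32 ^^^ 64)]
      rfl
    have hev : ∀ k, bc k % 2 = 0 → 2 ∣ (toSet k).card := fun k hk => by
      rw [card_toSet_bc]; exact Nat.dvd_of_mod_eq_zero hk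
    have h6 : 2 ∣ (toSet (2 ^ 5 ^^^ 2 ^ 6)).card := hev _ (by decide +kernel)
    have h23 : 2 ∣ (toSet (2 ^ 5 ^^^ 2 ^ 23)).card := hev _ (by decide +kernel)
    rw [← S.mul _ _ hs8 h6, ← S.mul _ _ (two_dvd_sd hs8 h6) h23] at h12
    change P s ∈ B at h12
    rw [hs] at h12
    rw [Bool.not_eq_true', decide_eq_false_iff_not, Bool.not_eq_true] at f8
    obtain ⟨m, hm', e⟩ := Match.exists_of_allLt_false f8
    rw [Bool.not_eq_false'] at e
    obtain ⟨ms, me, mne, -⟩ := Match.mask_facts hm'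
    have heq : P (toSet ((32 ^^^ 2048) ^^^ (32 ^^^ 64) ^^^ (32 ^^^ 8388608))) = P (toSet (getR Match.MK m)) :=
      (S.P_eq_iff (by rw [← hs]; exact two_dvd_sd (two_dvd_sd hs8 h6) h23) me).2 (toSet_eqv e)
    rw [heq] at h12
    have h0 : P (toSet (getR Match.MK m)) ∈ B ⊓ S.A := ⟨h12, S.P_mem_A ms me⟩
    rw [hinf, Subgroup.mem_bot, ← heq, S.eq_one _ (hs ▸ two_dvd_sd (two_dvd_sd hs8 h6) h23)] at h0
    have h' := h0.small (by rw [card_toSet_bc, Finset.card_empty]; decide +kernel)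
    have h4 : bc ((32 ^^^ 2048) ^^^ (32 ^^^ 64) ^^^ (32 ^^^ 8388608)) = 4 := by decide +kernel
    rw [← card_toSet_bc, h', Finset.card_empty] at h4
    omega
  subst hn0
  rw [show (0 : ℕ) = 64 * 0 from rfl, vec_high S] at hb
  have h00 := ((Match.wnum_facts (show 0 < 16 by omega)).2 0 (by omega)).1
  rw [Nat.xor_self, left_eq_mul] at h00
  rw [h00, S.κ_one, one_mul] at hb
  refine ⟨hb, ?_⟩
  obtain ⟨⟨⟨⟨m1, m2⟩, m3⟩, m4⟩, m5⟩ := by
    have := mv_chk
    simp only [Bool.and_eq_true, Nat.beq_eq] at this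
    exact this
  have hgM := mem_M24_of_test m1
  have hκ : κ (pL MV14) ∈ B := hstab _ hgM
    (by rw [oct, show baseOctad = 5279 from rfl, smul_toSet_imgF (valid_of_m24Test m1), m2])
    (by rw [Match.pl_pt m1 (by omega), m3])
  have e : P (toSet 65568) * κ (Match.wnum 14) = κ (pL MV14) * u * (κ (pL MV14))⁻¹ := by
    rw [S.conj_κ hs8 hgM (mem_W.1 hwW).1, smul_toSet_imgF (valid_of_m24Test m1), m4]
    congr 2
    rw [eq_mul_inv_iff_mul_eq, Match.wnum, Match.wnum, ← pL_compL (valid_of_m24Test (wl_valid (by omega)))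
      (valid_of_m24Test m1), ← pL_compL (valid_of_m24Test m1) (valid_of_m24Test (wl_valid (by omega))), eqB_eq m5]
  rw [e]
  exact mul_mem (mul_mem hκ hb) (inv_mem hκ)

end CfsgLib.JFourRec
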