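import Cfsg.Agent.Lib.JFourRec.PreMaps
import Cfsg.Agent.Lib.JankoFour.TwoTen.Match

/-!
# Prescribing the action of an element of a complement by a map of coordinates
-/

set_option autoImplicit false
set_option linter.unusedSectionVars false

namespace CfsgLib.JFourRec

open Cfsg CfsgLib.Golay CfsgLib.M24Cert CfsgLib.JankoFour CfsgLib.JankoFour.TwoTen
open scoped symmDiff Pointwise

variable {G : Type*} [Group G] [Finite G] {z : G} {V : Subgroup G} {P : Finset GolayPt → G}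
  {κ : Equiv.Perm GolayPt → G}

/-- The element of the group of order `2^10` with number `n`. -/
noncomputable def vec (P : Finset GolayPt → G) (κ : Equiv.Perm GolayPt → G) (n : ℕ) : G :=
  P (toSet (getR Match.MK (n % 64))) * κ (Match.wnum (n / 64))

/-- An element acting on the numbers as `T`. -/
def Act (P : Finset GolayPt → G) (κ : Equiv.Perm GolayPt → G) (g : G) (T : ℕ → ℕ) : Prop :=
  ∀ n < 1024, g * vec P κ n * g⁻¹ = vec P κ (T n)

/-- The quadruple of reference. -/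
def quad0 : Finset GolayPt := toSet 15

theorem quad0_sub : quad0 ⊆ oct := fun p hp => by
  rw [quad0, show (15 : ℕ) = 15 &&& 5279 from rfl, toSet_and] at hp
  exact Finset.mem_of_mem_inter_right hp

theorem quad0_card : quad0.card = 4 := by
  rw [quad0, card_toSet_bc]
  decide +kernel

theorem num_xor {n n' : ℕ} : (n ^^^ n') % 64 = n % 64 ^^^ n' % 64 ∧ (n ^^^ n') / 64 = n / 64 ^^^ n' / 64 :=
  ⟨Nat.xor_mod_two_pow (n := 6), by
    rw [show (64 : ℕ) = 2 ^ 6 from rfl, ← Nat.shiftRight_eq_div_pow, ← Nat.shiftRight_eq_div_pow,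
      ← Nat.shiftRight_eq_div_pow, Nat.shiftRight_xor_distrib]⟩

theorem num_lt {n : ℕ} (hn : n < 1024) : n % 64 < 64 ∧ n / 64 < 16 :=
  ⟨Nat.mod_lt _ (by omega), by omega⟩

theorem num_add {m a : ℕ} (hm : m < 64) : (m + 64 * a) % 64 = m ∧ (m + 64 * a) / 64 = a :=
  ⟨by omega, by omega⟩

theorem toSet_eqv {a b : ℕ} (h : inCodeT (a ^^^ b) = true) : Eqv (toSet a) (toSet b) := by
  rw [Eqv, ← toSet_xor, mem_supports]
  exact ⟨_, mem_golayList_of_inCodeT h, rfl⟩

theorem wl_valid {a : ℕ} (ha : a < 16) : m24Test (Match.WL.getD a []) = true := by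
  have := allLt_spec Match.wl_ok a ha
  simp only [Bool.and_eq_true] at this
  exact this.1.1

theorem Act.mul {g h : G} {T T' : ℕ → ℕ} (hg : Act P κ g T) (hh : Act P κ h T') (hT' : ∀ n < 1024, T' n < 1024) :
    Act P κ (g * h) fun n => T (T' n) := fun n hn => by
  rw [← hg _ (hT' n hn), ← hh n hn]
  group

theorem Act.congr {g : G} {T T' : ℕ → ℕ} (hg : Act P κ g T) (h : ∀ n < 1024, T n = T' n) : Act P κ g T' :=
  fun n hn => by rw [← h n hn, hg n hn]

theorem vec_mem (S : Setup z V P κ) {n : ℕ} (hn : n < 1024) : vec P κ n ∈ S.A :=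
  (S.vec_facts (num_lt hn).1 (num_lt hn).2).1

theorem vec_eq_one (S : Setup z V P κ) {n : ℕ} (hn : n < 1024) (h : vec P κ n = 1) : n = 0 := by
  obtain ⟨h1, h2⟩ := (S.vec_facts (num_lt hn).1 (num_lt hn).2).2 h
  omega

theorem vec_xor (S : Setup z V P κ) {n n' : ℕ} (hn : n < 1024) (hn' : n' < 1024) :
    vec P κ (n ^^^ n') = vec P κ n * vec P κ n' := by
  rw [vec, vec, vec, S.vec_mul (num_lt hn).1 (num_lt hn').1 (num_lt hn).2 (num_lt hn').2, num_xor.1, num_xor.2]

theorem vec_inj (S : Setup z V P κ) {n n' : ℕ} (hn : n < 1024) (hn' : n' < 1024) (h : vec P κ n = vec P κ n') :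
    n = n' := by
  have e := vec_xor S hn hn'
  rw [h, ← pow_two, S.A_elem.2 _ (vec_mem S hn')] at e
  exact Nat.xor_eq_zero_iff.1 (vec_eq_one S (Nat.xor_lt_two_pow (n := 10) hn hn') e)

theorem vec_cover (S : Setup z V P κ) {x : G} (hx : x ∈ S.A) : ∃ n < 1024, x = vec P κ n := by
  obtain ⟨m, hm, a, ha, e⟩ := S.vec_surj hx
  exact ⟨m + 64 * a, by omega, by rw [vec, (num_add hm).1, (num_add hm).2, e]⟩

theorem vec_low {m : ℕ} (hm : m < 64) (S : Setup z V P κ) : vec P κ m = P (toSet (getR Match.MK m)) := by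
  have h0 := (Match.wnum_facts (show 0 < 16 by omega)).2 0 (by omega)
  have h1 := h0.1
  rw [Nat.xor_self, left_eq_mul] at h1
  rw [vec, Nat.mod_eq_of_lt hm, Nat.div_eq_of_lt hm, h1, S.κ_one, mul_one]

theorem vec_high {a : ℕ} (S : Setup z V P κ) : vec P κ (64 * a) = κ (Match.wnum a) := by
  have h := (Match.mask_facts (show 0 < 64 by omega)).2.2.2 0 (by omega)
  rw [Nat.xor_self, symmDiff_self, Finset.bot_eq_empty] at h
  rw [vec, show 64 * a % 64 = 0 by omega, show 64 * a / 64 = a by omega, h, S.P_empty, one_mul]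

theorem Act.eq_of_one (S : Setup z V P κ) (hC : Certs) {B : Subgroup G} (hB : B ⊓ S.A = ⊥) {g : G} (hg : g ∈ B)
    (h : Act P κ g fun n => n) : g = 1 := by
  have hA : g ∈ S.A := (S.A_cent hC).le (Subgroup.mem_centralizer_iff.2 fun x hx => by
    obtain ⟨n, hn, rfl⟩ := vec_cover S hx
    exact (mul_inv_eq_iff_eq_mul.1 (h n hn)).symm)
  have : g ∈ B ⊓ S.A := ⟨hg, hA⟩
  rwa [hB, Subgroup.mem_bot] at this

theorem Act.unique (S : Setup z V P κ) (hC : Certs) {B : Subgroup G} (hB : B ⊓ S.A = ⊥) {g g' : G} (hg : g ∈ B)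
    (hg' : g' ∈ B) {T : ℕ → ℕ} (h : Act P κ g T) (h' : Act P κ g' T) : g = g' :=
  (inv_mul_eq_one.1 (Act.eq_of_one S hC hB (mul_mem (inv_mem hg') hg) fun n hn => by
    calc g'⁻¹ * g * vec P κ n * (g'⁻¹ * g)⁻¹ = g'⁻¹ * (g * vec P κ n * g⁻¹) * g' := by group
      _ = g'⁻¹ * (g' * vec P κ n * g'⁻¹) * g' := by rw [h n hn, h' n hn]
      _ = vec P κ n := by group)).symm

/-- The action of an element of the normaliser of `V` read from a certificate. -/
theorem act_of_chk (S : Setup z V P κ) {s : ℕ} {L : List ℕ} {T : ℕ → ℕ} (h : actChk s L T = true) :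
    (∀ n < 1024, T n < 1024) ∧ 2 ∣ (toSet s).card ∧ pL L ∈ M24 ∧ Act P κ (P (toSet s) * κ (pL L)) T := by
  obtain ⟨⟨h1, h2⟩, h3⟩ : (m24Test L = true ∧ Nat.beq (bc s % 2) 0 = true) ∧ allLt (fun a => allLt (fun m =>
      Nat.blt (T (m + 64 * a)) 1024 &&
      eqB (compL L (Match.WL.getD a [])) (compL (Match.WL.getD (T (m + 64 * a) / 64) []) L) &&
      inCodeT (imgF L (getR Match.MK m) ^^^ (s ^^^ imgF (Match.WL.getD (T (m + 64 * a) / 64) []) s) ^^^
        getR Match.MK (T (m + 64 * a) % 64))) 64) 16 = true := by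
    simpa only [actChk, Bool.and_eq_true] using h
  have hL := valid_of_m24Test h1
  have hs : 2 ∣ (toSet s).card := by
    rw [card_toSet_bc]
    exact Nat.dvd_of_mod_eq_zero (Nat.eq_of_beq_eq_true h2)
  have key : ∀ n < 1024, T n < 1024 ∧ P (toSet s) * κ (pL L) * vec P κ n * (P (toSet s) * κ (pL L))⁻¹ = vec P κ (T n) := by
    intro n hn
    obtain ⟨hm, ha⟩ := num_lt hn
    have e := allLt_spec (allLt_spec h3 _ ha) _ hm
    rw [show n % 64 + 64 * (n / 64) = n by omega] at e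
    simp only [Bool.and_eq_true, Nat.blt_eq] at e
    obtain ⟨⟨e1, e2⟩, e3⟩ := e
    obtain ⟨hm', ha'⟩ := num_lt e1
    refine ⟨e1, ?_⟩
    have hw : pL L * Match.wnum (n / 64) * (pL L)⁻¹ = Match.wnum (T n / 64) := by
      rw [mul_inv_eq_iff_eq_mul, Match.wnum, Match.wnum, ← pL_compL hL (valid_of_m24Test (wl_valid ha)),
        ← pL_compL (valid_of_m24Test (wl_valid ha')) hL, eqB_eq e2]
    have hm2 := (Match.mask_facts hm).2.1
    rw [vec, S.conj_el hs hm2 (mem_M24_of_test h1) (mem_W.1 (Match.wnum_facts ha).1).1, hw, vec]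
    congr 1
    refine (S.P_eq_iff (two_dvd_sd (two_dvd_smul hm2) (two_dvd_co hs)) (Match.mask_facts hm').2.1).2 ?_
    rw [co, Match.wnum, smul_toSet_imgF (valid_of_m24Test (wl_valid ha')), smul_toSet_imgF hL, ← toSet_xor,
      ← toSet_xor]
    exact toSet_eqv e3
  exact ⟨fun n hn => (key n hn).1, hs, mem_M24_of_test h1, fun n hn => (key n hn).2⟩

theorem smul_quad (S : Setup z V P κ) (hC : Certs) {q : Finset GolayPt} (hq : q ⊆ oct) (hq4 : q.card = 4) :
    P q ∈ orbN S.A (P quad0) := by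
  obtain ⟨g, hg, ho, e⟩ := oct_move quad0_sub hq (by rw [quad0_card, hq4]) (by omega)
  refine ⟨κ g, ?_, by rw [S.act g hg _ (by rw [quad0_card]; norm_num), e]⟩
  rw [← one_mul (κ g), ← S.P_empty]
  exact (S.mem_stab hC (by simp) hg).2 ⟨ho, evenly_empty⟩

/-- The orbit of 155. -/
theorem vec_dec (S : Setup z V P κ) (hC : Certs) {n : ℕ} (hn : n < 1024) :
    vec P κ n ∈ orbN S.A (P quad0) ↔ isDec (n % 64) (n / 64) = true := by
  classical
  have hp : pt 0 ∈ oct := quad0_sub (by rw [quad0, pt_mem_toSet (by omega)]; rfl)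
  have hq : pt 1 ∈ oct := quad0_sub (by rw [quad0, pt_mem_toSet (by omega)]; rfl)
  obtain ⟨-, -, h155, -, hlow⟩ := S.orbits hC hp hq
    (fun e => absurd (pt_inj (by omega) (by omega) e) (by omega)) quad0_sub quad0_card
  obtain ⟨d1, d2⟩ := Bool.and_eq_true_iff.1 dec_ok
  obtain ⟨q1, q2⟩ := Bool.and_eq_true_iff.1 quads_ok
  have hmem : ∀ k < 1024, isDec (k % 64) (k / 64) = true → vec P κ k ∈ orbN S.A (P quad0) := by
    intro k hk hd
    obtain ⟨hm, ha⟩ := num_lt hk
    have e := allLt_spec (allLt_spec d1 _ hm) _ ha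
    simp only [hd, Bool.true_bne, Bool.not_not, Bool.or_eq_true, anyB_iff, Bool.and_eq_true, Nat.beq_eq] at e
    rcases e with ⟨⟨m, q⟩, hp, e1, e2⟩ | ⟨⟨m, a, v⟩, hp, e1, e2⟩
    · have := allB_iff.1 q1 _ hp
      simp only [Bool.and_eq_true, Nat.beq_eq, Nat.blt_eq] at this
      obtain ⟨⟨⟨t1, t2⟩, t3⟩, t4⟩ := this
      simp only at e1 t1 t2 t3 t4
      have hk' : k = m := by omega
      subst hk'
      have hq : toSet q ⊆ oct := fun p hp => by
        rw [← t2, toSet_and] at hp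
        exact Finset.mem_of_mem_inter_right hp
      have hq4 : (toSet q).card = 4 := by rw [card_toSet_bc, t3]
      rw [vec_low t1 S, ← (S.P_eq_iff (by rw [hq4]; norm_num) (Match.mask_facts t1).2.1).2 (toSet_eqv t4)]
      exact smul_quad S hC hq hq4
    · have := allB_iff.1 q2 _ hp
      simp only [Bool.and_eq_true, Nat.beq_eq, Nat.blt_eq, Bool.not_eq_true'] at this
      obtain ⟨⟨⟨⟨⟨t1, t2⟩, t3⟩, t4⟩, t5⟩, t6⟩ := this
      simp only at e1 e2 t1 t2 t3 t4 t5 t6
      obtain ⟨hsub, hev, -, -⟩ := Match.mask_facts hm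
      obtain ⟨r, hr, er⟩ := reps_eqv hsub hev
      have hw := (Match.wnum_facts ha).1
      have hne : Match.wnum (k / 64) ≠ 1 := fun h => by
        have h00 := ((Match.wnum_facts (show 0 < 16 by omega)).2 0 (by omega)).1
        rw [Nat.xor_self, left_eq_mul] at h00
        have := ((Match.wnum_facts ha).2 0 (by omega)).2 (h.trans h00.symm)
        rw [e2, this, Nat.beq_refl] at t3
        exact Bool.noConfusion t3
      rw [vec, (S.P_eq_iff hev (mem_reps.1 hr).2.2).2 er, hlow r hr _ hw hne]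
      refine ⟨toSet v, ⟨?_, ?_⟩, ?_⟩
      · rw [card_toSet_bc]
        exact Nat.dvd_of_mod_eq_zero t4
      · rw [oct, show baseOctad = 5279 from rfl, ← toSet_and, card_toSet_bc]
        exact Nat.dvd_of_mod_eq_zero t5
      · refine Eqv.trans ?_ er
        rw [co, Match.wnum, smul_toSet_imgF (valid_of_m24Test (wl_valid ha)), ← toSet_xor, ← e1, ← e2]
        exact toSet_eqv t6
  refine ⟨fun h => ?_, hmem n hn⟩
  set D := (Finset.range 1024).filter fun k => isDec (k % 64) (k / 64) = true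
  have hD : D.card = 155 := by
    rw [countLt_eq] at d2
    exact Nat.eq_of_beq_eq_true d2
  have hinj : Set.InjOn (vec P κ) (D : Set ℕ) := fun a ha b hb e =>
    vec_inj S (Finset.mem_range.1 (Finset.mem_filter.1 ha).1) (Finset.mem_range.1 (Finset.mem_filter.1 hb).1) e
  have heq : vec P κ '' (D : Set ℕ) = orbN S.A (P quad0) :=
    Set.eq_of_subset_of_ncard_le (by
      rintro _ ⟨k, hk, rfl⟩
      obtain ⟨hk1, hk2⟩ := Finset.mem_filter.1 hk
      exact hmem k (Finset.mem_range.1 hk1) hk2)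
      (by rw [h155, hinj.ncard_image, Set.ncard_coe_finset, hD]) (Set.toFinite _)
  obtain ⟨k, hk, e⟩ := heq.symm ▸ h
  obtain ⟨hk1, hk2⟩ := Finset.mem_filter.1 hk
  rwa [vec_inj S (Finset.mem_range.1 hk1) hn e] at hk2

open TwoTen.Klein in
theorem det_mat {f : ℕ → ℕ} (hf : IsAut f) : (mat hf).det = 1 := by
  have hinj : Function.Injective (mat hf).mulVec := by
    intro v w h
    have e : ∀ u, (mat hf).mulVec u = lin hf u := fun u => by
      rw [mat, ← Matrix.toLin'_apply, Matrix.toLin'_toMatrix']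
      rfl
    rw [e, e] at h
    have h' := congrArg Klein.enc h
    change Klein.enc (Klein.decv (Klein.pt f (Klein.enc v))) = Klein.enc (Klein.decv (Klein.pt f (Klein.enc w))) at h'
    rw [(Klein.decv_facts _ (hf.pt_lt (Klein.enc_facts v v).1)).1,
      (Klein.decv_facts _ (hf.pt_lt (Klein.enc_facts w w).1)).1] at h'
    have := congrArg Klein.decv (hf.pt_inj (Klein.enc_facts v v).1 (Klein.enc_facts w w).1 h')
    rwa [(Klein.enc_facts v v).2.1, (Klein.enc_facts w w).2.1] at this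
  have hu := (Matrix.isUnit_iff_isUnit_det _).1 (Matrix.mulVec_injective_iff_isUnit.1 hinj)
  have key : ∀ a : ZMod 2, a ≠ 0 → a = 1 := by decide
  exact key _ hu.ne_zero

/-- A complement realises every linear map preserving the orbit of 155. -/
theorem exists_act (S : Setup z V P κ) (hC : Certs) {B : Subgroup G}
    (hle : B ≤ Subgroup.normalizer (S.A : Set G)) (hinf : B ⊓ S.A = ⊥)
    (hsup : B ⊔ S.A = Subgroup.normalizer (S.A : Set G)) {T : ℕ → ℕ} (hlt : ∀ n < 1024, T n < 1024)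
    (hxor : ∀ n < 1024, ∀ n' < 1024, T (n ^^^ n') = T n ^^^ T n') (hker : ∀ n < 1024, T n = 0 → n = 0)
    (hdecT : ∀ n < 1024, isDec (n % 64) (n / 64) = true → isDec (T n % 64) (T n / 64) = true) :
    ∃ b ∈ B, Act P κ b T := by
  classical
  have hp : pt 0 ∈ oct := quad0_sub (by rw [quad0, pt_mem_toSet (by omega)]; rfl)
  have hq : pt 1 ∈ oct := quad0_sub (by rw [quad0, pt_mem_toSet (by omega)]; rfl)
  have hpq : pt 0 ≠ pt 1 := fun e => absurd (pt_inj (by omega) (by omega) e) (by omega)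
  obtain ⟨hNcard, -, -, -, -⟩ := S.orbits hC hp hq hpq quad0_sub quad0_card
  obtain ⟨ψ, hψx, hψm, hψs, hψi, hψd⟩ := S.exists_psi hC hp hq hpq quad0_sub quad0_card
  choose! bk hbk hbk' using hψs
  choose! ix hix hix' using fun (a : G) (ha : a ∈ S.A) => vec_cover S ha
  have hx10 : ∀ x y, x < 1024 → y < 1024 → x ^^^ y < 1024 := fun x y h h' => Nat.xor_lt_two_pow (n := 10) h h'
  have hTm : ∀ a ∈ S.A, vec P κ (T (ix a)) ∈ S.A := fun a ha => vec_mem S (hlt _ (hix a ha))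
  let F₀ : ℕ → ℕ := fun x => bk (vec P κ (T (ix (ψ x))))
  have hF₀ : ∀ x, ψ (F₀ x) = vec P κ (T (ix (ψ x))) := fun x => hbk' _ (hTm _ (hψm x))
  have hF₀lt : ∀ x, F₀ x < 1024 := fun x => hbk _ (hTm _ (hψm x))
  have hiA : ∀ x, ix (ψ x) < 1024 := fun x => hix _ (hψm x)
  have hA₀ : Klein.IsAut F₀ :=
    { lt := fun x _ => hF₀lt x
      xor := fun x _ y _ => hψi _ (hF₀lt _) _ (hx10 _ _ (hF₀lt _) (hF₀lt _)) (by
        rw [hψx (F₀ x), hF₀, hF₀, hF₀, ← vec_xor S (hlt _ (hiA x)) (hlt _ (hiA y)), ← hxor _ (hiA x) _ (hiA y)]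
        refine congrArg (fun n => vec P κ (T n)) (vec_inj S (hiA _) (hx10 _ _ (hiA x) (hiA y)) ?_)
        rw [vec_xor S (hiA x) (hiA y), ← hix' _ (hψm _), ← hix' _ (hψm x), ← hix' _ (hψm y), hψx])
      inj := fun x hx y hy e => by
        have e' := congrArg ψ e
        rw [hF₀, hF₀] at e'
        have e2 : T (ix (ψ x) ^^^ ix (ψ y)) = 0 := by
          rw [hxor _ (hiA x) _ (hiA y), vec_inj S (hlt _ (hiA x)) (hlt _ (hiA y)) e', Nat.xor_self]
        have e3 : ix (ψ x) = ix (ψ y) := Nat.xor_eq_zero_iff.1 (hker _ (hx10 _ _ (hiA x) (hiA y)) e2)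
        exact hψi x hx y hy (by rw [hix' _ (hψm x), hix' _ (hψm y), e3])
      dec := fun x hx => by
        have hx' := Klein.dec_lt hx
        have h1 := (hψd x hx').2 hx
        rw [hix' _ (hψm x), vec_dec S hC (hiA x)] at h1
        rw [← hψd _ (hF₀lt x), hF₀, vec_dec S hC (hlt _ (hiA x))]
        exact hdecT _ (hiA x) h1 }
  let F : ↥B → ℕ → ℕ := fun n x => bk ((n : G) * ψ x * (n : G)⁻¹)
  have hin : ∀ (n : ↥B) x, (n : G) * ψ x * (n : G)⁻¹ ∈ S.A := fun n x => S.conj_A_mem (hle n.2) (hψm x)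
  have hF : ∀ n x, ψ (F n x) = (n : G) * ψ x * (n : G)⁻¹ := fun n x => hbk' _ (hin n x)
  have hFlt : ∀ n x, F n x < 1024 := fun n x => hbk _ (hin n x)
  have hA : ∀ n, Klein.IsAut (F n) := fun n =>
    { lt := fun x _ => hFlt n x
      xor := fun x _ y _ => hψi _ (hFlt _ _) _ (hx10 _ _ (hFlt _ _) (hFlt _ _)) (by
        rw [hF, hψx, hψx, hF, hF]; group)
      inj := fun x hx' y hy' e => hψi x hx' y hy' (by
        have e' := congrArg ψ e
        rw [hF, hF] at e'
        exact mul_left_cancel (mul_right_cancel e'))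
      dec := fun x hx' => by
        rw [← hψd _ (hFlt n x), hF]
        obtain ⟨m, hm, e⟩ := (hψd x (Klein.dec_lt hx')).2 hx'
        exact ⟨n * m, mul_mem (hle n.2) hm, by rw [← e]; group⟩ }
  have hmul : ∀ a b x, x < 1024 → F (a * b) x = F a (F b x) := fun a b x _ => hψi _ (hFlt _ _) _ (hFlt _ _) (by
    rw [hF, hF, hF, Subgroup.coe_mul]; group)
  have hone : ∀ x < 1024, F 1 x = x := fun x hx' => hψi _ (hFlt _ _) x hx' (by rw [hF]; simp)
  have hfix : ∀ b : ↥B, (∀ x < 1024, F b x = x) → b = 1 := fun b hb => by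
    have hA' : (b : G) ∈ S.A := (S.A_cent hC).le (Subgroup.mem_centralizer_iff.2 fun a ha => by
      rw [← hbk' a ha]
      have := hF b (bk a)
      rw [hb _ (hbk a ha)] at this
      exact eq_mul_inv_iff_mul_eq.1 this)
    have : (b : G) ∈ B ⊓ S.A := ⟨b.2, hA'⟩
    rw [hinf, Subgroup.mem_bot] at this
    exact Subtype.ext this
  let μ : ↥B → Matrix.SpecialLinearGroup (Fin 5) (ZMod 2) := fun b => ⟨Klein.mat (hA b), det_mat _⟩
  have hμ1 : ∀ b, Klein.mat (hA b⁻¹) * Klein.mat (hA b) = 1 := fun b => by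
    rw [← Klein.mat_mul (hA b⁻¹) (hA b) (hA (b⁻¹ * b)) (hmul b⁻¹ b),
      Klein.mat_one (hA (b⁻¹ * b)) fun x hx' => by rw [inv_mul_cancel]; exact hone x hx']
  have hμi : Function.Injective μ := fun b b' e => by
    have e' : Klein.mat (hA b) = Klein.mat (hA b') := congrArg Subtype.val e
    refine (inv_mul_eq_one.1 (hfix (b⁻¹ * b') fun x hx => Klein.mat_eq_one (hA _) ?_ hx))
    rw [Klein.mat_mul (hA b⁻¹) (hA b') (hA (b⁻¹ * b')) (hmul b⁻¹ b'), ← e', hμ1]
  have hBcard : Nat.card ↥B = 9999360 := by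
    let g : ↥B × ↥S.A → ↥(Subgroup.normalizer (S.A : Set G)) := fun x =>
      ⟨x.1.1 * x.2.1, mul_mem (hle x.1.2) (Subgroup.le_normalizer x.2.2)⟩
    have hg : Function.Bijective g := by
      constructor
      · rintro ⟨b, a⟩ ⟨b', a'⟩ e
        have e' : (b : G) * a = b' * a' := congrArg Subtype.val e
        have h0 : (b' : G)⁻¹ * b ∈ B ⊓ S.A := ⟨B.mul_mem (B.inv_mem b'.2) b.2, by
          rw [show (b' : G)⁻¹ * b = a' * (a : G)⁻¹ by
            calc (b' : G)⁻¹ * b = (b' : G)⁻¹ * ((b : G) * a) * (a : G)⁻¹ := by group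
              _ = a' * (a : G)⁻¹ := by rw [e']; group]
          exact S.A.mul_mem a'.2 (S.A.inv_mem a.2)⟩
        rw [hinf, Subgroup.mem_bot, inv_mul_eq_one] at h0
        rw [← h0] at e'
        exact Prod.ext (Subtype.ext h0.symm) (Subtype.ext (mul_left_cancel e'))
      · rintro ⟨x, hx⟩
        have hmem : x ∈ ((B ⊔ S.A : Subgroup G) : Set G) := hsup.symm ▸ hx
        rw [Subgroup.coe_mul_of_left_le_normalizer_right B S.A hle] at hmem
        obtain ⟨b, hb, a, ha, rfl⟩ := Set.mem_mul.1 hmem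
        exact ⟨(⟨b, hb⟩, ⟨a, ha⟩), rfl⟩
    have := Nat.card_congr (Equiv.ofBijective g hg)
    rw [Nat.card_prod, S.A_card, hNcard] at this
    omega
  obtain ⟨b, hb⟩ := ((Nat.bijective_iff_injective_and_card μ).2 ⟨hμi, by rw [hBcard, Klein.card_SL5]⟩).2
    ⟨Klein.mat hA₀, det_mat hA₀⟩
  have hb' : Klein.mat (hA b) = Klein.mat hA₀ := congrArg Subtype.val hb
  let K : ℕ → ℕ := fun x => F b⁻¹ (F₀ x)
  have hK : Klein.IsAut K :=
    { lt := fun x _ => hFlt _ _
      xor := fun x hx y hy => by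
        show F b⁻¹ (F₀ (x ^^^ y)) = _
        rw [hA₀.xor x hx y hy, (hA b⁻¹).xor _ (hF₀lt x) _ (hF₀lt y)]
      inj := fun x hx y hy e => hA₀.inj x hx y hy ((hA b⁻¹).inj _ (hF₀lt x) _ (hF₀lt y) e)
      dec := fun x hx => (hA b⁻¹).dec _ (hA₀.dec x hx) }
  have hK1 : Klein.mat hK = 1 := by
    rw [Klein.mat_mul (hA b⁻¹) hA₀ hK fun x _ => rfl, ← hb', hμ1]
  refine ⟨b, b.2, fun n hn => ?_⟩
  have hmem := vec_mem S hn
  have h1 := hbk _ hmem
  have h2 := hbk' _ hmem
  have e := congrArg ψ (Klein.mat_eq_one hK hK1 h1)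
  change ψ (F b⁻¹ (F₀ _)) = _ at e
  rw [hF, hF₀, h2, ← vec_inj S hn (hix _ hmem) (hix' _ hmem), Subgroup.coe_inv, inv_inv] at e
  calc (b : G) * vec P κ n * (b : G)⁻¹ = (b : G) * ((b : G)⁻¹ * vec P κ (T n) * (b : G)) * (b : G)⁻¹ := by rw [e]
    _ = vec P κ (T n) := by group

end CfsgLib.JFourRec
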