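import Cfsg.Agent.Lib.JankoFour.TwoTen.MatchData
import Cfsg.Agent.Lib.JFourRec.Data

/-!
# Data on the involution of a trio, seen from the base octad

A trio through the base octad is one of fifteen; the element wanted for it fixes the part below 16 and
adds to it a linear image of the part below 64.
-/

set_option autoImplicit false
set_option maxRecDepth 100000
set_option exponentiation.threshold 2000

namespace CfsgLib.JFourRec

open Cfsg CfsgLib.Golay CfsgLib.M24Cert CfsgLib.JankoFour.TwoTen.Match

/-- The fifteen trios containing the octad. -/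
def TRIO : List (List ℕ) :=
  [[5279, 1256224, 15515712], [5279, 12733024, 4038912], [5279, 3050016, 13721920], [5279, 8694112,
    8077824], [5279, 6842656, 9929280], [5279, 12126304, 4645632], [5279, 5621792, 11150144], [5279,
    1852256, 14919680], [5279, 15762208, 1009728], [5279, 2220640, 14551296], [5279, 13443616,
    3328320], [5279, 6750560, 10021376], [5279, 9158944, 7612992], [5279, 5939296, 10832640], [5279,
    11952160, 4819776]]

/-- The contractions by the fifteen functionals, four bits for each argument. -/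
def DT : List ℕ :=
  [62783626800922141518548991012136268787108613166461052396181527622794938704928,
    87426277916984060603595259334321302058281327421533663052962393606095761594576,
    34163334248844642961234657199694610361593082763947646913907684270562206039280,
    18194242306235180431331856319439785740945395969684847724402138883045017235872,
    73712566228131858057252502670205917082565357915719349792637231510722547537280,
    105586936295165817848905839022509075240887860600252967722286381755486679591280,
    45115228907993737946765028897812657912253036738100241852800544212931099987280,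
    24013882816343284415859331892932353604402198796782083951951275753532049146464,
    86775423900895846565305887207774449481135076287815906863418450524450575689280,
    110532001325115455718868624469554467962372594851341624065668543708905877871280,
    57246971967566405475382173431093597368153089414896320422752221951438107803280,
    13200029894886559646862632309744957125106732225350359734338045364172936377280,
    68696268329573204574461329108372374261006895779200983138077780729083963021280,
    99691631870604407967956641487320889508183414883092175888563485738379146603280,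
    39197839023182242135470468603945751986673267525323513335435031362999260991280]

/-- The action of the first generator on the fifteen trios. -/
def PX : List ℕ :=
  [4, 2, 5, 14, 9, 11, 8, 0, 3, 1, 6, 13, 10, 12, 7]

/-- The action of the second generator on the fifteen trios. -/
def PY : List ℕ :=
  [13, 1, 11, 8, 6, 10, 4, 9, 3, 7, 5, 2, 12, 0, 14]

/-- The decomposable vectors, as a number of 1024 bits. -/
def DMASK : ℕ :=
  790687967610278685946118431000356439747873313629992632448828259122877849852418507668407353520885425884872830938837699812662320721015094287867798595198479664234430032450176573713905777280410367209739339209491689672810310467698411503254866632542747762929302047237272642506385316288664755263916824576930670720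

/-- The vectors of four points of the octad. -/
def QUADS : List (ℕ × ℕ) :=
  [(7, 4103), (11, 4107), (13, 4109), (14, 1169), (15, 15), (19, 4115), (21, 4117), (22, 1161), (23,
    23), (25, 4121), (26, 1157), (27, 27), (28, 1155), (29, 29), (30, 5249), (35, 4227), (37, 4229),
    (38, 1049), (39, 135), (41, 4233), (42, 1045), (43, 139), (44, 1043), (45, 141), (46, 5137),
    (49, 4241), (50, 1037), (51, 147), (52, 1035), (53, 149), (54, 5129), (56, 1031), (57, 153),
    (58, 5125), (60, 5123)]

/-- The vectors outside the octad, with their witnesses. -/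
def LOWS : List (ℕ × ℕ × ℕ) :=
  [(0, 1, 0), (7, 1, 8224), (27, 1, 65568), (28, 1, 544), (42, 1, 2080), (45, 1, 288), (49, 1,
    1048608), (54, 1, 131104), (0, 2, 0), (11, 2, 544), (21, 2, 131104), (30, 2, 2080), (38, 2,
    16416), (45, 2, 96), (51, 2, 8388640), (56, 2, 4194336), (0, 3, 0), (14, 3, 4194336), (23, 3,
    544), (25, 3, 8388640), (35, 3, 131104), (45, 3, 96), (52, 3, 2080), (58, 3, 16416), (0, 4, 0),
    (11, 4, 288), (23, 4, 262176), (28, 4, 96), (37, 4, 8388640), (46, 4, 32800), (50, 4, 8224),
    (57, 4, 2080), (0, 5, 0), (15, 5, 8388640), (19, 5, 2080), (28, 5, 96), (38, 5, 288), (41, 5,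
    32800), (53, 5, 8224), (58, 5, 262176), (0, 6, 0), (11, 6, 288), (22, 6, 8388640), (29, 6,
    32800), (39, 6, 2080), (44, 6, 8224), (49, 6, 96), (58, 6, 262176), (0, 7, 0), (13, 7, 2080),
    (23, 7, 262176), (26, 7, 32800), (38, 7, 288), (43, 7, 8224), (49, 7, 96), (60, 7, 8388640), (0,
    8, 0), (13, 8, 524320), (19, 8, 16416), (30, 8, 288), (39, 8, 1048608), (42, 8, 96), (52, 8,
    262176), (57, 8, 544), (0, 9, 0), (15, 9, 16416), (22, 9, 1048608), (25, 9, 262176), (37, 9,
    544), (42, 9, 96), (51, 9, 288), (60, 9, 524320), (0, 10, 0), (7, 10, 96), (25, 10, 262176),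
    (30, 10, 288), (43, 10, 524320), (44, 10, 1048608), (50, 10, 544), (53, 10, 16416), (0, 11, 0),
    (7, 11, 96), (26, 11, 524320), (29, 11, 1048608), (41, 11, 16416), (46, 11, 544), (51, 11, 288),
    (52, 11, 262176), (0, 12, 0), (15, 12, 16416), (21, 12, 288), (26, 12, 524320), (35, 12,
    262176), (44, 12, 1048608), (54, 12, 96), (57, 12, 544), (0, 13, 0), (14, 13, 262176), (19, 13,
    16416), (29, 13, 1048608), (37, 13, 544), (43, 13, 524320), (54, 13, 96), (56, 13, 288), (0, 14,
    0), (14, 14, 262176), (21, 14, 288), (27, 14, 96), (39, 14, 1048608), (41, 14, 16416), (50, 14,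
    544), (60, 14, 524320), (0, 15, 0), (13, 15, 524320), (22, 15, 1048608), (27, 15, 96), (35, 15,
    262176), (46, 15, 544), (53, 15, 16416), (56, 15, 288)]

/-- The inverse of the permutation `k0L`. -/
def K0IL : List ℕ :=
  [5, 16, 12, 6, 11, 2, 17, 18, 19, 14, 9, 1, 0, 4, 7, 8, 3, 21, 23, 13, 22, 15, 20, 10]

/-- The moved element `k1`, seen from the base. -/
def K1B : List ℕ :=
  [3, 10, 4, 0, 12, 6, 5, 1, 16, 19, 2, 14, 7, 13, 20, 15, 17, 18, 21, 23, 11, 22, 8, 9]

/-- The moved element `k1p`, seen from the base. -/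
def K1PB : List ℕ :=
  [1, 7, 2, 3, 4, 15, 11, 12, 14, 19, 0, 17, 10, 8, 9, 6, 16, 5, 20, 13, 23, 22, 18, 21]

/-- The moved element `kE`, seen from the base. -/
def KEB : List ℕ :=
  [12, 4, 3, 2, 1, 21, 20, 10, 22, 18, 7, 19, 0, 14, 13, 17, 23, 15, 9, 11, 6, 5, 8, 16]

/-- A transvection of the complement. -/
def TAUB : List ℕ :=
  [12, 4, 3, 2, 1, 5, 23, 10, 8, 17, 7, 11, 0, 13, 14, 18, 20, 9, 15, 19, 16, 21, 22, 6]

/-- An element of order seven. -/
def SEV : List ℕ :=
  [0, 4, 1, 7, 10, 5, 18, 12, 21, 13, 3, 11, 2, 19, 23, 9, 22, 8, 17, 20, 14, 16, 6, 15]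

/-- A mover of the vector. -/
def MV2 : List ℕ :=
  [2, 0, 1, 7, 10, 5, 19, 12, 14, 21, 3, 6, 4, 9, 11, 18, 15, 16, 8, 22, 13, 17, 23, 20]

/-- A second mover of the vector. -/
def MV3 : List ℕ :=
  [0, 2, 7, 1, 10, 5, 21, 12, 18, 19, 3, 23, 4, 13, 11, 14, 22, 16, 17, 15, 9, 8, 6, 20]

/-- The new second coordinate. -/
noncomputable def flip (i m : ℕ) : ℕ := (getR DT i >>> (4 * m)) % 16

/-- Membership in the set of decomposable vectors. -/
def isDec (m a : ℕ) : Bool := Nat.testBit DMASK (m + 64 * a)

theorem dt_ok : allLt (fun i => allLt (fun m => Nat.blt (flip i m) 16 &&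
    allLt (fun n => Nat.beq (flip i (m ^^^ n)) (flip i m ^^^ flip i n)) 64 &&
    allLt (fun a => !(isDec m a) || isDec m (a ^^^ flip i m)) 16) 64) 15 = true := by
  decide +kernel

theorem dt_comm : allLt (fun i => Nat.blt (getR PX i) 15 && Nat.blt (getR PY i) 15 &&
    allLt (fun m => Nat.beq (getR TX4 (flip i m)) (flip (getR PX i) (getR TX6 m)) &&
      Nat.beq (getR TY4 (flip i m)) (flip (getR PY i) (getR TY6 m))) 64) 15 = true := by
  decide +kernel

theorem act_surj : (allLt (fun n => !allLt (fun m => !Nat.beq (getR TX6 m) n) 64 &&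
      !allLt (fun m => !Nat.beq (getR TY6 m) n) 64) 64 &&
    allLt (fun a => !allLt (fun b => !Nat.beq (getR TX4 b) a) 16 &&
      !allLt (fun b => !Nat.beq (getR TY4 b) a) 16) 16) = true := by
  decide +kernel

/-- The masks of a list are those of another one. -/
noncomputable def sameB (l m : List ℕ) : Bool := allB (fun a => memB a m) l && allB (fun a => memB a l) m

theorem trio_ok : allLt (fun i => sameB ((TRIO.getD i []).map (imgF XL)) (TRIO.getD (getR PX i) []) &&
    sameB ((TRIO.getD i []).map (imgF YL)) (TRIO.getD (getR PY i) []) &&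
    allB (fun t => Nat.blt t 16777216) (TRIO.getD i []) &&
    allLt (fun a => sameB ((TRIO.getD i []).map (imgF (WL.getD a []))) (TRIO.getD i [])) 16 &&
    allLt (fun j => Nat.beq i j || !allB (fun t => memB t (TRIO.getD j [])) (TRIO.getD i [])) 15) 15 = true := by
  decide +kernel

theorem cover_ok : allLt (fun i => Nat.testBit 5279 i || !allLt (fun a => !Nat.beq ((WL.getD a []).getD 5 0) i) 16) 24
    = true := by
  decide +kernel

theorem quads_ok : (allB (fun p => Nat.blt p.1 64 && Nat.beq (p.2 &&& 5279) p.2 && Nat.beq (bc p.2) 4 &&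
      inCodeT (p.2 ^^^ getR MK p.1)) QUADS &&
    allB (fun p => Nat.blt p.1 64 && Nat.blt p.2.1 16 && !(Nat.beq p.2.1 0) && Nat.beq (bc p.2.2 % 2) 0 &&
      Nat.beq (bc (p.2.2 &&& 5279) % 2) 0 &&
      inCodeT (p.2.2 ^^^ imgF (WL.getD p.2.1 []) p.2.2 ^^^ getR MK p.1)) LOWS) = true := by
  decide +kernel

theorem dec_ok : (allLt (fun m => allLt (fun a => Bool.xor (isDec m a)
      (!(anyB (fun p => Nat.beq p.1 m && Nat.beq a 0) QUADS ||
        anyB (fun p => Nat.beq p.1 m && Nat.beq p.2.1 a) LOWS))) 16) 64 &&
    Nat.beq (countLt (fun n => isDec (n % 64) (n / 64)) 1024) 155) = true := by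
  decide +kernel

theorem base_ok : ((([K0IL, K1B, K1PB, KEB, TAUB, SEV, MV2, MV3]).all m24Test) &&
    eqB (compL k0L K0IL) (List.range 24) && eqB (compL K0IL k0L) (List.range 24) &&
    eqB K1B (compL (compL K0IL k1L) k0L) && eqB K1PB (compL (compL K0IL k1pL) k0L) &&
    eqB KEB (compL (compL K0IL kEL) k0L) &&
    sameB (trioMasks.map (imgF K0IL)) (TRIO.getD 4 []) &&
    Nat.beq (imgF k0L 5279) 8484900 && Nat.beq (imgF K0IL 8484900) 5279 &&
    Nat.beq (imgF K1B 5279) 5279 && Nat.beq (imgF K1PB 5279) 5279 &&
    sameB ((TRIO.getD 4 []).map (imgF K1B)) (TRIO.getD 2 []) &&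
    sameB ((TRIO.getD 4 []).map (imgF K1PB)) (TRIO.getD 5 []) &&
    allLt (fun m => Nat.beq (flip 4 m ^^^ flip 2 m) (flip 5 m)) 64 &&
    inCodeT (imgF K0IL 69668 ^^^ getR MK 13) && Nat.beq (bc 69668 % 2) 0 && Nat.beq (flip 4 13) 0 &&
    Nat.beq (bc 4489728 % 2) 0 && Nat.beq (bc 131345 % 2) 0) = true := by
  decide +kernel

theorem fix_ok : ([TAUB, SEV, MV2, MV3].all fun L => Nat.beq (imgF L 5279) 5279 && Nat.beq (L.getD 5 0) 5) &&
    Nat.beq (SEV.getD 11 0) 11 && Nat.beq (MV2.getD 11 0) 6 && Nat.beq (MV3.getD 11 0) 23 &&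
    Nat.beq ((WL.getD 8 []).getD 5 0) 11 && Nat.beq ((WL.getD 8 []).getD 11 0) 5 &&
    allLt (fun m => (!(Nat.beq (bc (imgF SEV (getR MK m) ^^^ getR MK m)) 0) &&
      Nat.ble (bc (imgF SEV (getR MK m) ^^^ getR MK m)) 7) || Nat.beq m 0) 64 &&
    allLt (fun a => !eqB (compL SEV (WL.getD a [])) (compL (WL.getD a []) SEV) || Nat.beq a 0 || Nat.beq a 8) 16 &&
    !allLt (fun m => !inCodeT (((32 ^^^ 2048) ^^^ (32 ^^^ 64) ^^^ (32 ^^^ 8388608)) ^^^ getR MK m)) 64
    = true := by
  decide +kernel

end CfsgLib.JFourRec
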