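import Cfsg.Agent.Lib.JFourRec.PreData

/-!
# Maps of the coordinates below 1024

A number `n` stands for the vector `n % 64` of the octad and the translation `n / 64`.
-/

set_option autoImplicit false
set_option maxRecDepth 100000
set_option exponentiation.threshold 2000

namespace CfsgLib.JFourRec

open Cfsg CfsgLib.Golay CfsgLib.M24Cert CfsgLib.JankoFour.TwoTen.Match

/-- A linear map carrying the transvection to the second one, on the low part. -/
def S6 : List ℕ :=
  [0, 314, 156, 422, 230, 476, 122, 320, 459, 241, 343, 109, 301, 23, 433, 139, 429, 151, 305, 11,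
    331, 113, 471, 237, 102, 348, 250, 448, 128, 442, 28, 294, 87, 365, 203, 497, 177, 395, 45, 279,
    412, 166, 256, 58, 378, 64, 486, 220, 506, 192, 358, 92, 284, 38, 384, 186, 49, 267, 173, 407,
    215, 493, 75, 369]

/-- That map on the high part. -/
def S4 : List ℕ :=
  [0, 896, 27, 923, 917, 21, 910, 14, 50, 946, 41, 937, 935, 39, 956, 60]

/-- The second transvection on the high part. -/
def W14 : List ℕ :=
  [0, 27, 21, 14, 50, 41, 39, 60, 39, 60, 50, 41, 21, 14, 0, 27]

/-- The translation transvection on the high part. -/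
def W8 : List ℕ :=
  [0, 42, 30, 52, 57, 19, 39, 13, 0, 42, 30, 52, 57, 19, 39, 13]

/-- The action of the transvection of the complement on the masks. -/
def TT6 : List ℕ :=
  [0, 1, 17, 16, 9, 8, 24, 25, 5, 4, 20, 21, 12, 13, 29, 28, 3, 2, 18, 19, 10, 11, 27, 26, 6, 7, 23,
    22, 15, 14, 30, 31, 62, 63, 47, 46, 55, 54, 38, 39, 59, 58, 42, 43, 50, 51, 35, 34, 61, 60, 44,
    45, 52, 53, 37, 36, 56, 57, 41, 40, 49, 48, 32, 33]

/-- The action of the transvection of the complement on the high part. -/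
def TT4 : List ℕ :=
  [0, 9, 2, 11, 12, 5, 14, 7, 8, 1, 10, 3, 4, 13, 6, 15]


/-- Carries the translation transvection to the second one. -/
def MV14 : List ℕ :=
  [2, 0, 1, 3, 4, 5, 15, 7, 21, 19, 10, 16, 12, 6, 17, 13, 20, 23, 9, 18, 11, 22, 8, 14]

/-- The contraction attached to the trio `i`. -/
noncomputable def tauMap (i n : ℕ) : ℕ := n ^^^ 64 * flip i (n % 64)

/-- The map carrying one transvection to the other. -/
noncomputable def sigMap (n : ℕ) : ℕ := getR S6 (n % 64) ^^^ getR S4 (n / 64)

/-- The action of the translation transvection. -/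
noncomputable def u8Map (n : ℕ) : ℕ := n ^^^ getR W8 (n / 64)

/-- The action of the second translation transvection. -/
noncomputable def u14Map (n : ℕ) : ℕ := n ^^^ getR W14 (n / 64)

/-- The action of the transvection of the complement. -/
noncomputable def ttMap (n : ℕ) : ℕ := getR TT6 (n % 64) + 64 * getR TT4 (n / 64)

/-- The check that `P (toSet s) * κ (pL L)` acts as `T`. -/
noncomputable def actChk (s : ℕ) (L : List ℕ) (T : ℕ → ℕ) : Bool :=
  m24Test L && Nat.beq (bc s % 2) 0 && allLt (fun a => allLt (fun m =>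
    Nat.blt (T (m + 64 * a)) 1024 &&
      eqB (compL L (WL.getD a [])) (compL (WL.getD (T (m + 64 * a) / 64) []) L) &&
      inCodeT (imgF L (getR MK m) ^^^ (s ^^^ imgF (WL.getD (T (m + 64 * a) / 64) []) s) ^^^
        getR MK (T (m + 64 * a) % 64))) 64) 16

theorem tt_chk : actChk 0 TAUB ttMap = true := by
  decide +kernel

theorem u8_chk : (actChk 2080 (WL.getD 8 []) u8Map && Nat.beq (imgF (WL.getD 8 []) 2080) 2080) = true := by
  decide +kernel

theorem u14_chk : (actChk 65568 (WL.getD 14 []) u14Map && Nat.beq (imgF K0IL 3) 65568 &&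
    eqB (compL (compL K0IL tauL) k0L) (WL.getD 14 []) && Nat.beq ((WL.getD 14 []).getD 5 0) 16) = true := by
  decide +kernel

theorem mv_chk : (m24Test MV14 && Nat.beq (imgF MV14 5279) 5279 && Nat.beq (MV14.getD 5 0) 5 &&
    Nat.beq (imgF MV14 2080) 65568 && eqB (compL MV14 (WL.getD 8 [])) (compL (WL.getD 14 []) MV14)) = true := by
  decide +kernel

theorem s_lin : (allLt (fun m => Nat.blt (getR S6 m) 1024 &&
      allLt (fun n => Nat.beq (getR S6 (m ^^^ n)) (getR S6 m ^^^ getR S6 n)) 64) 64 &&
    allLt (fun m => Nat.blt (getR S4 m) 1024 &&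
      allLt (fun n => Nat.beq (getR S4 (m ^^^ n)) (getR S4 m ^^^ getR S4 n)) 16) 16) = true := by
  decide +kernel

theorem sig_chk : allLt (fun n => (Nat.beq n 0 || !(Nat.beq (sigMap n) 0)) &&
    (!(isDec (n % 64) (n / 64)) || isDec (sigMap n % 64) (sigMap n / 64)) &&
    Nat.beq (sigMap (tauMap 4 n)) (u14Map (sigMap n)) &&
    Nat.beq (tauMap 4 (u8Map (tauMap 4 n))) (ttMap (u8Map n))) 1024 = true := by
  decide +kernel

theorem delta_chk : (inCodeT (imgF K0IL 131345 ^^^ getR MK ((tauMap 4 573 ^^^ ttMap (u8Map 573)) % 64)) &&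
    eqB KEB (compL (WL.getD ((tauMap 4 573 ^^^ ttMap (u8Map 573)) / 64) []) TAUB) &&
    inCodeT (imgF K0IL 4489728 ^^^ (getR MK 61 ^^^ 2080))) = true := by
  decide +kernel

end CfsgLib.JFourRec
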