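import Cfsg.Agent.Lib.JFourRec.Sys
import Cfsg.Agent.Lib.JFourRec.Calc

/-!
# The last relation: conjugates of the involution of the trio, first properties

Stated here so that the last relation does not wait for the files identifying the centraliser.
-/

set_option autoImplicit false
set_option maxRecDepth 100000
set_option linter.unusedSectionVars false

namespace CfsgLib.JFourRec.Rel

open Cfsg CfsgLib.Golay CfsgLib.JankoFour
open scoped Pointwise

variable {G : Type*} [Group G] [Finite G] {z : G} {V : Subgroup G} {P : Finset GolayPt → G}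
  {κ : Equiv.Perm GolayPt → G} {a : G}

theorem κ_inj (S : TwoTen.Setup z V P κ) {k l : Equiv.Perm GolayPt} (hk : k ∈ M24) (hl : l ∈ M24)
    (h : κ k = κ l) : k = l := by
  refine mul_inv_eq_one.1 (S.kinj _ (mul_mem hk (inv_mem hl)) ?_)
  rw [S.kmul _ hk _ (inv_mem hl), h, ← S.kmul _ hl _ (inv_mem hl), mul_inv_cancel, S.κ_one]
  exact one_mem V

theorem tr_congr (S : Sys z V P κ a) {k l : Equiv.Perm GolayPt} (hk : k ∈ M24) (hl : l ∈ M24)
    (h : l⁻¹ * k ∈ trioStab) : tc κ a k = tc κ a l := by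
  have h2 : κ k = κ l * κ (l⁻¹ * k) := by
    rw [← S.setup.kmul _ hl _ (mul_mem (inv_mem hl) hk), mul_inv_cancel_left]
  rw [tc, tc, h2, mul_inv_rev]
  calc κ l * κ (l⁻¹ * k) * a * ((κ (l⁻¹ * k))⁻¹ * (κ l)⁻¹)
      = κ l * (κ (l⁻¹ * k) * a * (κ (l⁻¹ * k))⁻¹) * (κ l)⁻¹ := by group
    _ = _ := by rw [(S.comm _ h).eq, mul_inv_cancel_right]

theorem tr_one (S : Sys z V P κ a) : tc κ a 1 = a := by simp [tc, S.setup.κ_one]

theorem tr_conj (S : Sys z V P κ a) {g k : Equiv.Perm GolayPt} (hg : g ∈ M24) (hk : k ∈ M24) :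
    κ g * tc κ a k * (κ g)⁻¹ = tc κ a (g * k) := by
  rw [tc, tc, S.setup.kmul _ hg _ hk]
  group

theorem conj_pair (g x y : G) : g * x * g⁻¹ * (g * y * g⁻¹) = g * (x * y) * g⁻¹ := by group

theorem tr_sq (S : Sys z V P κ a) (k : Equiv.Perm GolayPt) : tc κ a k * tc κ a k = 1 := by
  rw [tc, conj_pair, S.sq]
  group

/-- A translated line. -/
theorem tr_line (S : Sys z V P κ a) {g : Equiv.Perm GolayPt} (hg : g ∈ M24) :
    tc κ a g * tc κ a (g * k1) = tc κ a (g * k1p) := by
  have h1 : κ g * a * (κ g)⁻¹ = tc κ a g := rfl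
  rw [← tr_conj S hg k1_mem, ← tr_conj S hg k1p_mem, ← h1, conj_pair, S.line]

theorem invol_comm {x y w : G} (hx : x * x = 1) (hy : y * y = 1) (hw : w * w = 1) (h : x * y = w) :
    x * y = y * x := by
  have e : x * y * (x * y) = 1 := by rw [h, hw]
  calc x * y = x * (x * y * (x * y)) * y := by rw [e, mul_one]
    _ = (x * x) * (y * x) * (y * y) := by group
    _ = y * x := by rw [hx, hy, one_mul, mul_one]

theorem small_checks : inTrio sAL = true ∧ inTrio rAL = true ∧ eqCheck (List.replicate 7 sAL) [] = true ∧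
    (sAL == List.range 24) = false := by
  decide +kernel

theorem sA_trio : sA ∈ trioStab := mem_trioStab small_checks.1

theorem rA_trio : rA ∈ trioStab := mem_trioStab small_checks.2.1

theorem sA_seven : sA ^ 7 = 1 := by
  have h := prod_eq small_checks.2.2.1
  rwa [List.map_replicate, List.prod_replicate] at h

theorem sA_ne : sA ≠ 1 :=
  permOf_ne_one (valid_of_test (L := sAL) (List.all_eq_true.1 list_checks _ (by simp))) small_checks.2.2.2

end CfsgLib.JFourRec.Rel
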