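import Cfsg.Agent.Lib.JankoFour.Basic
import Cfsg.Agent.Lib.LargeExtra.Singular

/-!
# The centraliser of a conjugate of the central involution: the factor of order three above the core

`NQFrame b` collects what is used from the Janko-four type at a conjugate `b` of `z`.  An element of `C(b)` is
`Even` if it centralises `N/Q`; these elements form a subgroup of index at most two.
-/

set_option autoImplicit false
set_option linter.style.haveILetI false
set_option linter.unusedSectionVars false

namespace CfsgLib.JFourRec.Rel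

open Subgroup Cfsg CfsgLib.LargeExtra CfsgLib.JankoFour

variable {G : Type*} [Group G] [Finite G]

/-- The data above the core at the involution `b`, with an element of order three. -/
structure NQFrame (b : G) (N : Subgroup G) (p : G) : Prop where
  good : GoodAt b
  card_core : Nat.card ↥(coreC b) = 2 ^ 13
  core_le : coreC b ≤ N
  le_cent : N ≤ centralizer ({b} : Set G)
  conjN : ∀ h ∈ centralizer ({b} : Set G), ∀ n ∈ N, h * n * h⁻¹ ∈ N
  card_N : Nat.card ↥N = 3 * 2 ^ 13
  card_C : Nat.card ↥(centralizer ({b} : Set G)) = 887040 * (3 * 2 ^ 13)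
  p_mem : p ∈ N
  p_ord : orderOf p = 3
  fix : ∀ q ∈ coreC b, q * p = p * q → q ∈ zpowers b

theorem exists_nqFrame {z b : G} (hz : IsOfJankoFourTypeAt z) (h : IsConj z b) :
    ∃ N p, NQFrame b N p := by
  obtain ⟨P, hP⟩ := hz
  obtain ⟨S⟩ := exists_setting hP
  obtain ⟨g, rfl⟩ := isConj_iff.1 h
  haveI : Fact (Nat.Prime 3) := ⟨Nat.prime_three⟩
  obtain ⟨⟨p, hpP⟩, hp⟩ := exists_prime_orderOf_dvd_card' (G := ↥P) 3 (by rw [S.card_P])
  rw [Subgroup.orderOf_mk] at hp
  have hgood : GoodAt z := by
    refine ⟨S.ord_z, S.extra, fun c hc => ?_⟩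
    refine S.self (mem_inf.2 ⟨?_, hc⟩)
    have hz : z ∈ twoCoreOfCentralizer z := by
      have h : z ∈ twoCoreOfCentralizer z ⊓ centralizer (P : Set G) := by
        rw [S.fix]; exact mem_zpowers z
      exact (mem_inf.1 h).1
    exact mem_centralizer_singleton_iff.2 (mem_centralizer_iff.1 hc z hz).symm
  have hcent : centralizer ({g * z * g⁻¹} : Set G) =
      (centralizer ({z} : Set G)).map (MulAut.conj g).toMonoidHom := by
    ext x
    rw [mem_map_equiv, MulAut.conj_symm_apply, mem_centralizer_singleton_iff, mem_centralizer_singleton_iff]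
    constructor
    · intro hx
      calc g⁻¹ * x * g * z = g⁻¹ * (x * (g * z * g⁻¹)) * g := by group
        _ = g⁻¹ * (g * z * g⁻¹ * x) * g := by rw [hx]
        _ = z * (g⁻¹ * x * g) := by group
    · intro hx
      calc x * (g * z * g⁻¹) = g * (g⁻¹ * x * g * z) * g⁻¹ := by group
        _ = g * (z * (g⁻¹ * x * g)) * g⁻¹ := by rw [hx]
        _ = g * z * g⁻¹ * x := by group
  have hcore : coreC (g * z * g⁻¹) = (coreC z).map (MulAut.conj g).toMonoidHom := coreC_conj g z
  refine ⟨S.N.map (MulAut.conj g).toMonoidHom, g * p * g⁻¹, hgood.conj g, ?_, ?_, ?_, ?_, ?_, ?_, ?_, ?_, ?_⟩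
  · rw [hcore, card_map_of_injective (MulAut.conj g).injective]
    exact S.card_E
  · rw [hcore]; exact map_mono S.E_le
  · rw [hcent]; exact map_mono S.N_le
  · intro h hh n hn
    rw [hcent, mem_map_equiv] at hh
    rw [mem_map_equiv] at hn ⊢
    rw [map_mul, map_mul, map_inv]
    exact (mem_normalizer_iff.1 (S.H_norm hh) _).1 hn
  · rw [card_map_of_injective (MulAut.conj g).injective, S.card_N]
  · rw [hcent, card_map_of_injective (MulAut.conj g).injective]
    exact card_cz S
  · exact mem_map_of_mem _ (S.P_le hpP)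
  · rw [← MulAut.conj_apply, MulEquiv.orderOf_eq, hp]
  · intro q hq hqp
    rw [hcore] at hq
    obtain ⟨r, hr, rfl⟩ := hq
    simp only [MulEquiv.coe_toMonoidHom, MulAut.conj_apply] at hqp ⊢
    have hrp : r * p = p * r := by
      calc r * p = g⁻¹ * (g * r * g⁻¹ * (g * p * g⁻¹)) * g := by group
        _ = g⁻¹ * (g * p * g⁻¹ * (g * r * g⁻¹)) * g := by rw [hqp]
        _ = p * r := by group
    have hP2 : zpowers p = P := eq_of_le_of_card_ge (zpowers_le.2 hpP) (by rw [Nat.card_zpowers, hp, S.card_P])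
    have hrc : r ∈ centralizer (P : Set G) := by
      rw [mem_centralizer_iff]
      intro y hy
      rw [← hP2] at hy
      obtain ⟨i, rfl⟩ := mem_zpowers_iff.1 hy
      exact ((show Commute r p from hrp).zpow_right i).eq.symm
    have hrz : r ∈ zpowers z := S.fix ▸ mem_inf.2 ⟨hr, hrc⟩
    obtain ⟨i, rfl⟩ := mem_zpowers_iff.1 hrz
    exact mem_zpowers_iff.2 ⟨i, conj_zpow⟩

/-- The element centralises `N/Q`. -/
def Even (b : G) (p x : G) : Prop := x ∈ centralizer ({b} : Set G) ∧ x * p * x⁻¹ * p⁻¹ ∈ coreC b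

namespace NQFrame

variable {b : G} {N : Subgroup G} {p : G} (F : NQFrame b N p)
include F

theorem core_conj {x q : G} (hx : x ∈ centralizer ({b} : Set G)) (hq : q ∈ coreC b) :
    x * q * x⁻¹ ∈ coreC b :=
  (mem_normalizer_iff.1 (centralizer_le_normalizer_coreC b hx) q).1 hq

theorem p_cent : p ∈ centralizer ({b} : Set G) := F.le_cent F.p_mem

theorem p_three : p * p * p = 1 := by rw [← pow_orderOf_eq_one p, F.p_ord, pow_succ, pow_two]

theorem p_not_core : p ∉ coreC b := fun h => by
  have h1 := orderOf_dvd_natCard (coreC b) h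
  rw [F.p_ord, F.card_core] at h1
  norm_num at h1

/-- The three cosets of the core in `N`. -/
theorem cases_N {n : G} (hn : n ∈ N) :
    n ∈ coreC b ∨ n * p⁻¹ ∈ coreC b ∨ n * (p * p)⁻¹ ∈ coreC b := by
  classical
  haveI : ((coreC b).subgroupOf N).Normal := ⟨fun q hq x => by
    rw [mem_subgroupOf] at hq ⊢
    simpa using F.core_conj (F.le_cent x.2) hq⟩
  haveI : Fact (Nat.Prime 3) := ⟨Nat.prime_three⟩
  have hc : Nat.card (↥N ⧸ (coreC b).subgroupOf N) = 3 := by
    have h := ((coreC b).subgroupOf N).card_mul_index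
    rw [Nat.card_congr (subgroupOfEquivOfLe F.core_le).toEquiv, F.card_core, F.card_N, index_eq_card] at h
    omega
  have hne : (QuotientGroup.mk (⟨p, F.p_mem⟩ : ↥N) : ↥N ⧸ (coreC b).subgroupOf N) ≠ 1 := fun e =>
    F.p_not_core (mem_subgroupOf.1 ((QuotientGroup.eq_one_iff _).1 e))
  obtain ⟨i, hi⟩ := (Submonoid.mem_powers_iff _ _).1
    (mem_powers_of_prime_card (g' := (QuotientGroup.mk (⟨n, hn⟩ : ↥N) : ↥N ⧸ (coreC b).subgroupOf N)) hc hne)
  have h3 : (QuotientGroup.mk (⟨p, F.p_mem⟩ : ↥N) : ↥N ⧸ (coreC b).subgroupOf N) ^ 3 = 1 := by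
    rw [← hc]; exact pow_card_eq_one'
  have hi' : QuotientGroup.mk ((⟨p, F.p_mem⟩ : ↥N) ^ (i % 3)) =
      (QuotientGroup.mk (⟨n, hn⟩ : ↥N) : ↥N ⧸ (coreC b).subgroupOf N) := by
    rw [← hi]
    show (QuotientGroup.mk' _) _ = _
    rw [map_pow]
    conv_rhs => rw [← Nat.div_add_mod i 3, pow_add, pow_mul, h3, one_pow, one_mul]
    rfl
  have h1 := mem_subgroupOf.1 (QuotientGroup.eq.1 hi')
  simp only [Subgroup.coe_mul, InvMemClass.coe_inv, SubmonoidClass.coe_pow] at h1
  have h2 : n * (p ^ (i % 3))⁻¹ ∈ coreC b := by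
    have := F.core_conj (pow_mem F.p_cent (i % 3)) h1
    convert this using 1
    group
  have := Nat.mod_lt i (show 3 > 0 by norm_num)
  interval_cases i % 3
  · left; simpa using h2
  · right; left; simpa using h2
  · right; right; simpa [pow_two] using h2

theorem even_mul {x y : G} (hx : Even b p x) (hy : Even b p y) : Even b p (x * y) := by
  refine ⟨mul_mem hx.1 hy.1, ?_⟩
  have h1 := mul_mem (F.core_conj hx.1 hy.2) hx.2
  convert h1 using 1
  group

theorem even_inv {x : G} (hx : Even b p x) : Even b p x⁻¹ := by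
  refine ⟨inv_mem hx.1, ?_⟩
  have h1 := F.core_conj (inv_mem hx.1) (inv_mem hx.2)
  convert h1 using 1
  group

theorem even_of_core {q : G} (hq : q ∈ coreC b) : Even b p q := by
  refine ⟨coreC_le_centralizer b hq, ?_⟩
  have h1 := mul_mem hq (F.core_conj F.p_cent (inv_mem hq))
  convert h1 using 1
  group

/-- An element of `C(b)` not centralising `N/Q` inverts `p` modulo the core. -/
theorem odd_image {x : G} (hx : x ∈ centralizer ({b} : Set G)) (h : ¬ Even b p x) :
    x * p * x⁻¹ * (p * p)⁻¹ ∈ coreC b := by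
  rcases F.cases_N (F.conjN x hx p F.p_mem) with e | e | e
  · exfalso
    have := F.core_conj (inv_mem hx) e
    refine F.p_not_core ?_
    convert this using 1
    group
  · exact absurd ⟨hx, e⟩ h
  · exact e

/-- Two elements not centralising `N/Q` have a product that does. -/
theorem even_of_odd {x y : G} (hx : x ∈ centralizer ({b} : Set G)) (hy : y ∈ centralizer ({b} : Set G))
    (h : ¬ Even b p x) (h' : ¬ Even b p y) : Even b p (x * y) := by
  refine ⟨mul_mem hx hy, ?_⟩
  have hxp := F.odd_image hx h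
  have hyp := F.odd_image hy h'
  set q := y * p * y⁻¹ * (p * p)⁻¹ with hq
  set r := x * p * x⁻¹ * (p * p)⁻¹ with hr
  have e : x * y * p * (x * y)⁻¹ * p⁻¹ = x * q * x⁻¹ * (r * ((p * p) * r * (p * p)⁻¹)) * (p * (p * p * p)) * p⁻¹ := by
    rw [hq, hr]; group
  rw [e, F.p_three, mul_one, mul_inv_cancel_right]
  exact mul_mem (F.core_conj hx hyp) (mul_mem hxp (F.core_conj (mul_mem F.p_cent F.p_cent) hxp))

theorem even_sq {x : G} (hx : x ∈ centralizer ({b} : Set G)) : Even b p (x * x) := by
  by_cases h : Even b p x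
  · exact F.even_mul h h
  · exact F.even_of_odd hx hx h h

/-- An element of order seven centralises `N/Q`. -/
theorem even_of_pow_seven {x : G} (hx : x ∈ centralizer ({b} : Set G)) (h7 : x ^ 7 = 1) : Even b p x := by
  have h := F.even_mul (F.even_mul (F.even_sq hx) (F.even_sq hx)) (F.even_mul (F.even_sq hx) (F.even_sq hx))
  have e : x * x * (x * x) * (x * x * (x * x)) = x := by
    rw [show x * x * (x * x) * (x * x * (x * x)) = x * x ^ 7 by
      simp only [pow_succ, pow_zero, one_mul, mul_assoc], h7, mul_one]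
  rwa [e] at h

theorem even_conj {x h : G} (hh : h ∈ centralizer ({b} : Set G)) (hx : Even b p x) :
    Even b p (h * x * h⁻¹) := by
  by_cases he : Even b p h
  · exact F.even_mul (F.even_mul he hx) (F.even_inv he)
  · have hi : ¬ Even b p h⁻¹ := fun e => he (by simpa using F.even_inv e)
    have hxh : ¬ Even b p (h * x) := fun e => he (by simpa using F.even_mul e (F.even_inv hx))
    exact F.even_of_odd (mul_mem hh hx.1) (inv_mem hh) hxh hi

/-- Of three conjugate involutions with product one, each centralises `N/Q`. -/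
theorem even_of_line {x y w h k : G} (hx : x ∈ centralizer ({b} : Set G)) (hh : h ∈ centralizer ({b} : Set G))
    (hk : k ∈ centralizer ({b} : Set G)) (hy : y = h * x * h⁻¹) (hw : w = k * x * k⁻¹) (hp : x * y = w) :
    Even b p x := by
  by_contra hne
  have hyne : ¬ Even b p y := fun e => hne (by
    have := F.even_conj (inv_mem hh) e
    rw [hy] at this
    convert this using 1
    group)
  have hyc : y ∈ centralizer ({b} : Set G) := hy ▸ mul_mem (mul_mem hh hx) (inv_mem hh)
  have hwe : Even b p w := hp ▸ F.even_of_odd hx hyc hne hyne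
  refine hne ?_
  have := F.even_conj (inv_mem hk) hwe
  rw [hw] at this
  convert this using 1
  group

/-- An element centralising `N/Q` commutes modulo the core with every element of `N`. -/
theorem even_comm {x n : G} (hx : Even b p x) (hn : n ∈ N) : x * n * x⁻¹ * n⁻¹ ∈ coreC b := by
  have key : ∀ m : G, x * m * x⁻¹ * m⁻¹ ∈ coreC b → m ∈ centralizer ({b} : Set G) →
      ∀ q ∈ coreC b, x * (q * m) * x⁻¹ * (q * m)⁻¹ ∈ coreC b := fun m hm _ q hq => by
    have h1 := mul_mem (mul_mem (F.core_conj hx.1 hq) hm) (inv_mem hq)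
    convert h1 using 1
    group
  rcases F.cases_N hn with e | e | e
  · have := key 1 (by simp) (one_mem _) n e
    simpa using this
  · have := key p hx.2 F.p_cent _ e
    simpa using this
  · have h2 : x * (p * p) * x⁻¹ * (p * p)⁻¹ ∈ coreC b := by
      have h1 := mul_mem hx.2 (F.core_conj F.p_cent hx.2)
      convert h1 using 1
      group
    have := key (p * p) h2 (mul_mem F.p_cent F.p_cent) _ e
    convert this using 1
    group

/-- An element of order seven of `C(b)` commutes with an element of order three of `N`. -/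
theorem exists_three_comm {s : G} (hs : s ∈ centralizer ({b} : Set G)) (h7 : orderOf s = 7) :
    ∃ x ∈ N, orderOf x = 3 ∧ s * x = x * s := by
  classical
  haveI : Fact (Nat.Prime 7) := ⟨by norm_num⟩
  haveI : Fact (Nat.Prime 3) := ⟨Nat.prime_three⟩
  have hev := F.even_of_pow_seven hs (h7 ▸ pow_orderOf_eq_one s)
  set X : Set G := {x | ∃ q ∈ coreC b, q * p * q⁻¹ = x} with hX
  have hXN : ∀ x ∈ X, x ∈ N := by
    rintro _ ⟨q, hq, rfl⟩
    exact mul_mem (mul_mem (F.core_le hq) F.p_mem) (inv_mem (F.core_le hq))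
  -- the conjugates of p under the core: 4096 of them
  have hcard : X.ncard = 4096 := by
    let f : ↥(coreC b) → G := fun q => (q : G) * p * (q : G)⁻¹
    have hker : ∀ q r : ↥(coreC b), f q = f r ↔ (r⁻¹ * q : ↥(coreC b)) ∈ (zpowers b).subgroupOf (coreC b) := by
      intro q r
      rw [mem_subgroupOf]
      constructor
      · intro e
        refine F.fix _ (mul_mem (inv_mem r.2) q.2) ?_
        calc (r : G)⁻¹ * q * p = (r : G)⁻¹ * ((q : G) * p * (q : G)⁻¹) * q := by group
          _ = (r : G)⁻¹ * f q * q := rfl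
          _ = (r : G)⁻¹ * f r * q := by rw [e]
          _ = p * ((r : G)⁻¹ * q) := by simp only [f]; group
      · intro e
        obtain ⟨i, hi⟩ := mem_zpowers_iff.1 e
        have hc : Commute (b ^ i) p :=
          (show Commute b p from (mem_centralizer_singleton_iff.1 F.p_cent).symm).zpow_left i
        have hq : (q : G) = r * b ^ i := by rw [hi]; simp [mul_assoc]
        show (q : G) * p * (q : G)⁻¹ = r * p * (r : G)⁻¹
        rw [hq, mul_inv_rev]
        calc (r : G) * b ^ i * p * ((b ^ i)⁻¹ * (r : G)⁻¹)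
            = r * (b ^ i * p * (b ^ i)⁻¹) * (r : G)⁻¹ := by group
          _ = _ := by rw [hc.eq, mul_inv_cancel_right]
    have hrange : X = Set.range f := by
      ext x
      simp [hX, f]
    let Z := (zpowers b).subgroupOf (coreC b)
    have hbij : Nat.card (Set.range f) = Z.index := by
      rw [index]
      refine (Nat.card_congr (Equiv.ofBijective
        (Quotient.lift (fun q => (⟨f q, q, rfl⟩ : Set.range f)) ?_) ⟨?_, ?_⟩)).symm
      · intro q r h
        refine Subtype.ext ((hker q r).2 ?_)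
        have := QuotientGroup.leftRel_apply.1 h
        simpa using inv_mem this
      · rintro ⟨q⟩ ⟨r⟩ h
        refine (QuotientGroup.eq (s := Z)).2 ?_
        have := inv_mem ((hker q r).1 (congrArg Subtype.val h))
        simpa using this
      · rintro ⟨_, q, rfl⟩
        exact ⟨Quotient.mk'' q, rfl⟩
    have hZ : Nat.card ↥Z = 2 := by
      rw [Nat.card_congr (subgroupOfEquivOfLe (zpowers_le.2 F.good.mem_self)).toEquiv, Nat.card_zpowers, F.good.1]
    have := Z.card_mul_index
    rw [hZ, F.card_core] at this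
    rw [hrange, ← Nat.card_coe_set_eq, hbij]
    omega
  -- s permutes them
  have hinv : ∀ x ∈ X, s * x * s⁻¹ ∈ X := by
    rintro _ ⟨q, hq, rfl⟩
    have hN' : s * p * s⁻¹ ∈ N := F.conjN s hs p F.p_mem
    have hfac : (Nat.card ↥N).factorization 3 = 1 := by
      rw [F.card_N, Nat.factorization_mul (by norm_num) (by norm_num), Finsupp.add_apply,
        Nat.Prime.factorization_self (by norm_num), Nat.factorization_eq_zero_of_not_dvd (by norm_num)]
    have hz : ∀ y : G, orderOf y = 3 → y ∈ N → Nat.card ↥((zpowers y).subgroupOf N) = 3 ^ 1 := fun y hy hyN => by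
      rw [Nat.card_congr (subgroupOfEquivOfLe (zpowers_le.2 hyN)).toEquiv, Nat.card_zpowers, hy, pow_one]
    have ho : orderOf (s * p * s⁻¹) = 3 := by rw [← MulAut.conj_apply, MulEquiv.orderOf_eq, F.p_ord]
    let P₁ : Sylow 3 ↥N := Sylow.ofCard ((zpowers p).subgroupOf N) (by rw [hfac]; exact hz p F.p_ord F.p_mem)
    let P₂ : Sylow 3 ↥N := Sylow.ofCard ((zpowers (s * p * s⁻¹)).subgroupOf N) (by rw [hfac]; exact hz _ ho hN')
    obtain ⟨n, hn⟩ := MulAction.exists_smul_eq ↥N P₁ P₂
    have hm : ((n : G) * p * (n : G)⁻¹) ∈ zpowers (s * p * s⁻¹) := by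
      have h1 : n * ⟨p, F.p_mem⟩ * n⁻¹ ∈ (P₂ : Subgroup ↥N) := by
        rw [← hn, Sylow.smul_def, Sylow.pointwise_smul_def]
        exact ⟨⟨p, F.p_mem⟩, mem_subgroupOf.2 (mem_zpowers p), rfl⟩
      exact mem_subgroupOf.1 h1
    -- n may be taken in the core
    obtain ⟨r, hr, hrn⟩ : ∃ r ∈ coreC b, r * p * r⁻¹ = (n : G) * p * (n : G)⁻¹ := by
      rcases F.cases_N n.2 with e | e | e
      · exact ⟨n, e, rfl⟩
      · exact ⟨_, e, by group⟩
      · exact ⟨_, e, by group⟩
    rw [← hrn] at hm
    have hsp : s * p * s⁻¹ * p⁻¹ ∈ coreC b := hev.2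
    have hrp : r * p * r⁻¹ * p⁻¹ ∈ coreC b := (F.even_of_core hr).2
    have hmem : r * p * r⁻¹ = s * p * s⁻¹ := by
      rw [← (isOfFinOrder_of_finite _).mem_powers_iff_mem_zpowers] at hm
      obtain ⟨i, hi⟩ := hm
      have hi' : (s * p * s⁻¹) ^ i = r * p * r⁻¹ := hi
      rw [← pow_mod_orderOf, ho] at hi'
      have := Nat.mod_lt i (show 3 > 0 by norm_num)
      interval_cases i % 3
      · exfalso
        rw [pow_zero] at hi'
        have : p = 1 := by
          calc p = r⁻¹ * (r * p * r⁻¹) * r := by group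
            _ = 1 := by rw [← hi']; group
        have h3 := F.p_ord
        rw [this, orderOf_one] at h3
        omega
      · rw [← hi', pow_one]
      · exfalso
        refine F.p_not_core ?_
        -- modulo the core `p ^ 2 = p`
        set u := s * p * s⁻¹ * p⁻¹ with hu
        have e2 : r * p * r⁻¹ * p⁻¹ = u * (p * u * p⁻¹) * p := by
          rw [← hi', hu, pow_two]; group
        have h := mul_mem (inv_mem (mul_mem hsp (F.core_conj F.p_cent hsp))) hrp
        rw [e2, inv_mul_cancel_left] at h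
        exact h
    refine ⟨s * q * s⁻¹ * r, mul_mem (F.core_conj hs hq) hr, ?_⟩
    calc s * q * s⁻¹ * r * p * (s * q * s⁻¹ * r)⁻¹
        = s * q * s⁻¹ * (r * p * r⁻¹) * (s * q * s⁻¹)⁻¹ := by group
      _ = _ := by rw [hmem]; group
  -- a fixed point
  letI act : MulAction ↥(zpowers s) ↥X :=
    { smul := fun g x => ⟨(g : G) * x * (g : G)⁻¹, by
        obtain ⟨g, hg⟩ := g
        rw [← (isOfFinOrder_of_finite s).mem_powers_iff_mem_zpowers] at hg
        obtain ⟨i, rfl⟩ := hg
        suffices h : ∀ i : ℕ, ∀ y ∈ X, s ^ i * y * (s ^ i)⁻¹ ∈ X from h i x x.2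
        intro i
        induction i with
        | zero => intro y hy; simpa using hy
        | succ i ih =>
          intro y hy
          have := hinv _ (ih y hy)
          convert this using 1
          rw [pow_succ']; group⟩
      one_smul := fun x => Subtype.ext (by show (1 : G) * x * (1 : G)⁻¹ = x; simp)
      mul_smul := fun g h x => Subtype.ext (by
        show (g : G) * h * x * ((g : G) * h)⁻¹ = (g : G) * ((h : G) * x * (h : G)⁻¹) * (g : G)⁻¹
        group) }
  have hp7 : IsPGroup 7 ↥(zpowers s) := IsPGroup.of_card (n := 1) (by rw [Nat.card_zpowers, h7, pow_one])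
  haveI : Finite ↥X := Subtype.finite
  obtain ⟨⟨x, hx⟩, hfix⟩ := hp7.nonempty_fixed_point_of_prime_not_dvd_card ↥X
    (by rw [Nat.card_coe_set_eq, hcard]; norm_num)
  refine ⟨x, hXN x hx, ?_, ?_⟩
  · obtain ⟨q, -, rfl⟩ := hx
    rw [← MulAut.conj_apply, MulEquiv.orderOf_eq, F.p_ord]
  · have h := congrArg Subtype.val (hfix ⟨s, mem_zpowers s⟩)
    exact mul_inv_eq_iff_eq_mul.1 h

end NQFrame

end CfsgLib.JFourRec.Rel
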