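import Cfsg.Agent.Lib.JFourRec.RelCommTables
import Cfsg.Agent.Lib.JFourRec.Calc

/-!
# The last relation: the positions of the trios and of the vectors used
-/

set_option autoImplicit false
set_option maxRecDepth 100000
set_option Elab.async false

namespace CfsgLib.JFourRec.Rel

open Cfsg CfsgLib.Golay CfsgLib.M24Cert CfsgLib.JankoFour CfsgLib.JFourRec.RelData
open scoped Pointwise symmDiff

theorem congP {As Bs : List (List ℕ)} (h : (As.all (validL 24) && Bs.all (validL 24) &&
    congB (pprod As) (pprod Bs)) = true) :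
    (Bs.map pL).prod⁻¹ * (As.map pL).prod ∈ trioStab := by
  simp only [Bool.and_eq_true, List.all_eq_true] at h
  rw [← (pprod_spec h.1.1).2, ← (pprod_spec h.1.2).2]
  exact congB_spec h.2

/-- The products agree up to the trio group. -/
noncomputable def sameTrio (As Bs : List (List ℕ)) : Bool :=
  As.all (validL 24) && Bs.all (validL 24) && congB (pprod As) (pprod Bs)

theorem place_checks :
    inTB sigmaL = true ∧ inTB w2L = true ∧ inTB w3L = true ∧
    sameTrio [sigmaL, k1L] [k2L] = true ∧ sameTrio [sigmaL, k2L] [k1L] = true ∧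
    sameTrio [w2L, k1L] [k1L] = true ∧ sameTrio [w3L, k1L] [k1L] = true ∧
    sameTrio [kl2L] [k2L] = true ∧ sameTrio [kl2L, k1L] [w2L, k2L] = true ∧
    sameTrio [kl2L, k1pL] [w3L, k2L] = true ∧
    sameTrio [kl1L] [k1L] = true ∧ sameTrio [rAL, kl1L, k1L] [k2L] = true ∧
    eqCheck [invL w2L, w2L] [] = true ∧
    sameTrio [w2L, eAL, invL w2L, k2L] [sigmaL, k1pL] = true ∧
    eqCheck [invL k1L, k1L] [] = true ∧ eqCheck [invL k2L, k2L] [] = true ∧
    sameTrio [k2L, kEL, invL k2L, k1L] [k1L] = true ∧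
    m24Test kl1L = true := by
  refine ⟨?_, ?_, ?_, ?_, ?_, ?_, ?_, ?_, ?_, ?_, ?_, ?_, ?_, ?_, ?_, ?_, ?_, ?_⟩ <;> decide +kernel

/-- The list carrying the base line to a line through the first neighbour, as a permutation. -/
noncomputable def kl1 : Equiv.Perm GolayPt := pL kl1L

theorem kl1_mem : kl1 ∈ M24 := by
  obtain ⟨-, -, -, -, -, -, -, -, -, -, -, -, -, -, -, -, -, h⟩ := place_checks
  exact mem_M24_of_test h

theorem sigma_trio : sigma ∈ trioStab := (inTB_spec place_checks.1).2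
theorem w2_trio : w2 ∈ trioStab := (inTB_spec place_checks.2.1).2
theorem w3_trio : w3 ∈ trioStab := (inTB_spec place_checks.2.2.1).2

theorem inv_w2 : w2⁻¹ = pL (invL w2L) := by
  obtain ⟨-, -, -, -, -, -, -, -, -, -, -, -, h, -⟩ := place_checks
  have := prod_eq h
  simp only [List.map_cons, List.map_nil, List.prod_cons, List.prod_nil, mul_one] at this
  exact inv_eq_of_mul_eq_one_left this

theorem inv_k2 : k2⁻¹ = pL (invL k2L) := by
  obtain ⟨-, -, -, -, -, -, -, -, -, -, -, -, -, -, -, h, -⟩ := place_checks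
  have := prod_eq h
  simp only [List.map_cons, List.map_nil, List.prod_cons, List.prod_nil, mul_one] at this
  exact inv_eq_of_mul_eq_one_left this

/-- The congruences of trios. -/
theorem places :
    k2⁻¹ * (sigma * k1) ∈ trioStab ∧ k1⁻¹ * (sigma * k2) ∈ trioStab ∧
    k1⁻¹ * (w2 * k1) ∈ trioStab ∧ k1⁻¹ * (w3 * k1) ∈ trioStab ∧
    k2⁻¹ * kl2 ∈ trioStab ∧ (w2 * k2)⁻¹ * (kl2 * k1) ∈ trioStab ∧
    (w3 * k2)⁻¹ * (kl2 * k1p) ∈ trioStab ∧
    k1⁻¹ * kl1 ∈ trioStab ∧ k2⁻¹ * (rA * (kl1 * k1)) ∈ trioStab ∧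
    (sigma * k1p)⁻¹ * (w2 * eA * w2⁻¹ * k2) ∈ trioStab ∧
    k1⁻¹ * (k2 * kE * k2⁻¹ * k1) ∈ trioStab := by
  obtain ⟨-, -, -, h1, h2, h3, h4, h5, h6, h7, h8, h9, -, h10, -, -, h11, -⟩ := place_checks
  have e := fun {As Bs} (h : sameTrio As Bs = true) => congP (As := As) (Bs := Bs) h
  replace h1 := e h1; replace h2 := e h2; replace h3 := e h3; replace h4 := e h4; replace h5 := e h5
  replace h6 := e h6; replace h7 := e h7; replace h8 := e h8; replace h9 := e h9; replace h10 := e h10
  replace h11 := e h11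
  simp only [List.map_cons, List.map_nil, List.prod_cons, List.prod_nil, mul_one, mul_assoc] at *
  rw [← inv_w2] at h10
  rw [← inv_k2] at h11
  exact ⟨h1, h2, h3, h4, h5, h6, h7, h8, h9, h10, h11⟩

theorem move_lists :
    ((kerEls.all fun A => sameTrio [A, k1L] [k1L] || sameTrio [A, k1L] [k1pL]) = true) ∧
    ((kerEls.all fun A => sameTrio [A, k2L] [k2L] || sameTrio [A, k2L] [sigmaL, k1pL]) = true) ∧
    (pairL.all fun h => inTB h && sameTrio [h, k1L] [k1L] && sameTrio [h, k2L] [k2L]) = true ∧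
    (kerEls.all fun A => (A == List.range 24) || (A == eAL) || !(commL A sigmaL) ||
      pairL.any fun h => !(commL A h)) = true := by
  refine ⟨?_, ?_, ?_, ?_⟩ <;> decide +kernel

/-- The kernel moves the first neighbour only along its line. -/
theorem move_one {e : Equiv.Perm GolayPt} (he : e ∈ kerGrp) :
    k1⁻¹ * (e * k1) ∈ trioStab ∨ k1p⁻¹ * (e * k1) ∈ trioStab := by
  obtain ⟨A, hA, rfl⟩ := mem_kerGrp.1 he
  have h := List.all_eq_true.1 move_lists.1 A hA
  rw [Bool.or_eq_true] at h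
  refine h.imp (fun h => ?_) (fun h => ?_) <;>
  · have := congP h
    simp only [List.map_cons, List.map_nil, List.prod_cons, List.prod_nil, mul_one] at this
    exact this

/-- The kernel moves the second neighbour only along its line. -/
theorem move_two {e : Equiv.Perm GolayPt} (he : e ∈ kerGrp) :
    k2⁻¹ * (e * k2) ∈ trioStab ∨ (sigma * k1p)⁻¹ * (e * k2) ∈ trioStab := by
  obtain ⟨A, hA, rfl⟩ := mem_kerGrp.1 he
  have h := List.all_eq_true.1 move_lists.2.1 A hA
  rw [Bool.or_eq_true] at h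
  refine h.imp (fun h => ?_) (fun h => ?_) <;>
  · have := congP h
    simp only [List.map_cons, List.map_nil, List.prod_cons, List.prod_nil, mul_one] at this
    exact this

/-- The elements fixing the two neighbours. -/
theorem pair_places {h : List ℕ} (hh : h ∈ pairL) :
    pL h ∈ trioStab ∧ k1⁻¹ * (pL h * k1) ∈ trioStab ∧ k2⁻¹ * (pL h * k2) ∈ trioStab := by
  have h0 := List.all_eq_true.1 move_lists.2.2.1 h hh
  simp only [Bool.and_eq_true] at h0
  have h1 := congP h0.1.2
  have h2 := congP h0.2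
  simp only [List.map_cons, List.map_nil, List.prod_cons, List.prod_nil, mul_one] at h1 h2
  exact ⟨(inTB_spec h0.1.1).2, h1, h2⟩

/-- The kernel elements commuting with the group of the two neighbours. -/
theorem ker_fixed {e : Equiv.Perm GolayPt} (he : e ∈ kerGrp) (hs : e * sigma = sigma * e)
    (hp : ∀ h ∈ pairL, e * pL h = pL h * e) : e = 1 ∨ e = eA := by
  obtain ⟨A, hA, rfl⟩ := mem_kerGrp.1 he
  have h := List.all_eq_true.1 move_lists.2.2.2 A hA
  simp only [Bool.or_eq_true, beq_iff_eq, Bool.not_eq_true', List.any_eq_true] at h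
  rcases h with ((h | h) | h) | ⟨x, hx, h⟩
  · left; rw [h, pL_range]
  · right; rw [h]; rfl
  · rw [(commL_iff (ker_valid hA) (inTB_spec place_checks.1).1).2 hs] at h
    exact Bool.noConfusion h
  · have hxv : validL 24 x = true := by
      have h0 := List.all_eq_true.1 move_lists.2.2.1 x hx
      simp only [Bool.and_eq_true] at h0
      exact (inTB_spec h0.1.1).1
    rw [(commL_iff (ker_valid hA) hxv).2 (hp x hx)] at h
    exact Bool.noConfusion h

/-- The list of `k1⁻¹ * k2`. -/
def gL : List ℕ := pprod [invL k1L, k2L]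

/-- The mask of the vector moved to the trio. -/
def movedMask : ℕ := imgF gL 131345

theorem vector_checks :
    inCodeT (imgF k1L 69668 ^^^ imgF k2L 4489728) = true ∧
    inCodeT (imgF q1L movedMask ^^^ imgF q2L movedMask ^^^ 6144) = true ∧
    inTB q1L = true ∧ inTB q2L = true ∧ ([k1L, k2L, gL].all (validL 24)) = true ∧
    Nat.beq (bc 69668 % 2) 0 = true ∧ Nat.beq (bc 4489728 % 2) 0 = true ∧ Nat.beq (bc 131345 % 2) 0 = true ∧
    Nat.beq (bc 6144) 2 = true := by
  refine ⟨?_, ?_, ?_, ?_, ?_, ?_, ?_, ?_, ?_⟩ <;> decide +kernel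

theorem card_even {n : ℕ} (h : Nat.beq (bc n % 2) 0 = true) : 2 ∣ (toSet n).card := by
  rw [card_toSet_bc]
  exact Nat.dvd_of_mod_eq_zero (Nat.eq_of_beq_eq_true h)

theorem setC_even : 2 ∣ setC.card := card_even vector_checks.2.2.2.2.2.1
theorem setD_even : 2 ∣ setD.card := card_even vector_checks.2.2.2.2.2.2.1
theorem setE_even : 2 ∣ setE.card := card_even vector_checks.2.2.2.2.2.2.2.1

theorem q1_trio : q1 ∈ trioStab := (inTB_spec vector_checks.2.2.1).2
theorem q2_trio : q2 ∈ trioStab := (inTB_spec vector_checks.2.2.2.1).2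

theorem eqv_of_code {m n : ℕ} (h : inCodeT (m ^^^ n) = true) : TwoTen.Eqv (toSet m) (toSet n) := by
  rw [TwoTen.Eqv, ← toSet_xor]
  exact mem_supports.2 ⟨_, mem_golayList_of_inCodeT h, rfl⟩

theorem eqv_setC_setD : TwoTen.Eqv (k1 • setC) (k2 • setD) := by
  have hv := vector_checks.2.2.2.2.1
  simp only [List.all_cons, List.all_nil, Bool.and_true, Bool.and_eq_true] at hv
  rw [show k1 = pL k1L from rfl, show k2 = pL k2L from rfl, setC, setD, smul_toSet_imgF hv.1,
    smul_toSet_imgF hv.2.1]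
  exact eqv_of_code vector_checks.1

theorem eqv_duad : TwoTen.Eqv ((q1 • (k1⁻¹ * k2) • setE) ∆ (q2 • (k1⁻¹ * k2) • setE)) duad := by
  have hv := vector_checks.2.2.2.2.1
  simp only [List.all_cons, List.all_nil, Bool.and_true, Bool.and_eq_true] at hv
  obtain ⟨-, -, -, -, -, -, -, -, -, -, -, -, -, -, h, -⟩ := place_checks
  have hi := prod_eq h
  simp only [List.map_cons, List.map_nil, List.prod_cons, List.prod_nil, mul_one] at hi
  have hI : validL 24 (invL k1L) = true := by
    simp only [eqCheck, Bool.and_eq_true, List.all_eq_true] at h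
    exact h.1.1 _ (by simp)
  have hg : k1⁻¹ * k2 = pL gL := by
    refine Eq.trans ?_ (pprod_spec (Ls := [invL k1L, k2L]) (by simp [hI, hv.2.1])).2.symm
    simp only [List.map_cons, List.map_nil, List.prod_cons, List.prod_nil, mul_one]
    rw [show k1⁻¹ = pL (invL k1L) from inv_eq_of_mul_eq_one_left hi]
    rfl
  rw [hg, setE, smul_toSet_imgF hv.2.2, show q1 = pL q1L from rfl, show q2 = pL q2L from rfl,
    smul_toSet_imgF (inTB_spec vector_checks.2.2.1).1, smul_toSet_imgF (inTB_spec vector_checks.2.2.2.1).1,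
    ← toSet_xor]
  exact eqv_of_code vector_checks.2.1

theorem duad_pair : ∃ a b : GolayPt, a ≠ b ∧ duad = {a, b} := by
  obtain ⟨a, b, hab, h⟩ := Finset.card_eq_two.1 (show duad.card = 2 by
    rw [duad, card_toSet_bc]; exact Nat.eq_of_beq_eq_true vector_checks.2.2.2.2.2.2.2.2)
  exact ⟨a, b, hab, h⟩

end CfsgLib.JFourRec.Rel
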