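import Cfsg.Agent.Lib.JFourRec.RelCommBasic
import Cfsg.Agent.Lib.JFourRec.RelCommFrame
import Cfsg.Agent.Lib.JFourRec.RelCommPlaces

/-!
# The kernel of the trio group lies in the core of the centraliser, and is self-centralising there
-/

set_option autoImplicit false
set_option linter.style.haveILetI false
set_option linter.unusedSectionVars false

namespace CfsgLib.JFourRec.Rel

open Subgroup Cfsg CfsgLib.Golay CfsgLib.LargeExtra CfsgLib.JankoFour
open scoped Pointwise

variable {G : Type*} [Group G] [Finite G] {z : G} {V : Subgroup G} {P : Finset GolayPt → G}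
  {κ : Equiv.Perm GolayPt → G} {a : G}

theorem kerM {e : Equiv.Perm GolayPt} (he : e ∈ kerGrp) : e ∈ M24 := trioStab_le (kerGrp_le he)

/-- The image of an element of the trio group centralises `a`. -/
theorem kappa_cent (S : Sys z V P κ a) {k : Equiv.Perm GolayPt} (hk : k ∈ trioStab) :
    κ k ∈ centralizer ({a} : Set G) :=
  mem_centralizer_singleton_iff.2 (S.comm k hk).eq

/-- The involution is not an image of a permutation. -/
theorem ne_kappa (S : Sys z V P κ a) {k : Equiv.Perm GolayPt} (hk : k ∈ M24) : a ≠ κ k :=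
  fun e => S.notN (e ▸ S.setup.kmem k hk)

/-- The images of the trio group lying in the core. -/
def coreTrio (S : Sys z V P κ a) : Subgroup (Equiv.Perm GolayPt) where
  carrier := {k | k ∈ trioStab ∧ κ k ∈ coreC a}
  one_mem' := ⟨one_mem _, by rw [S.setup.κ_one]; exact one_mem _⟩
  mul_mem' := fun {k l} hk hl => ⟨mul_mem hk.1 hl.1, by
    rw [S.setup.kmul _ (trioStab_le hk.1) _ (trioStab_le hl.1)]; exact mul_mem hk.2 hl.2⟩
  inv_mem' := fun {k} hk => ⟨inv_mem hk.1, by
    rw [S.setup.κ_inv (trioStab_le hk.1)]; exact inv_mem hk.2⟩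

theorem coreTrio_conj (S : Sys z V P κ a) {t n : Equiv.Perm GolayPt} (ht : t ∈ trioStab)
    (hn : n ∈ coreTrio S) : t * n * t⁻¹ ∈ coreTrio S := by
  refine ⟨mul_mem (mul_mem ht hn.1) (inv_mem ht), ?_⟩
  rw [S.setup.kmul _ (trioStab_le (mul_mem ht hn.1)) _ (trioStab_le (inv_mem ht)),
    S.setup.kmul _ (trioStab_le ht) _ (trioStab_le hn.1), S.setup.κ_inv (trioStab_le ht)]
  exact (mem_normalizer_iff.1 (centralizer_le_normalizer_coreC a (kappa_cent S ht)) _).1 hn.2

/-- The core meets the trio group in a 2-group of order divisible by four. -/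
theorem coreTrio_card {N : Subgroup G} {p : G} (S : Sys z V P κ a) (F : NQFrame a N p) :
    4 ∣ Nat.card ↥(coreTrio S) ∧ IsPGroup 2 ↥(coreTrio S) := by
  haveI : ((coreC a).subgroupOf (centralizer ({a} : Set G))).Normal := ⟨fun q hq x => by
    rw [mem_subgroupOf] at hq ⊢
    simpa using F.core_conj x.2 hq⟩
  let ρ : ↥trioStab →* ↥(centralizer ({a} : Set G)) :=
    MonoidHom.mk' (fun k => ⟨κ k, kappa_cent S k.2⟩) fun k l => Subtype.ext
      (S.setup.kmul _ (trioStab_le k.2) _ (trioStab_le l.2))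
  let f := (QuotientGroup.mk' ((coreC a).subgroupOf (centralizer ({a} : Set G)))).comp ρ
  have hker : f.ker = (coreTrio S).subgroupOf trioStab := by
    ext k
    rw [MonoidHom.mem_ker, mem_subgroupOf]
    show (QuotientGroup.mk (ρ k) : _ ⧸ _) = 1 ↔ _
    rw [QuotientGroup.eq_one_iff, mem_subgroupOf]
    exact ⟨fun h => ⟨k.2, h⟩, fun h => h.2⟩
  have hle : coreTrio S ≤ trioStab := fun k hk => hk.1
  have hquot : Nat.card (↥(centralizer ({a} : Set G)) ⧸ (coreC a).subgroupOf (centralizer ({a} : Set G))) =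
      2661120 := by
    have h := ((coreC a).subgroupOf (centralizer ({a} : Set G))).card_mul_index
    rw [Nat.card_congr (subgroupOfEquivOfLe (coreC_le_centralizer a)).toEquiv, F.card_core, F.card_C,
      index_eq_card] at h
    omega
  constructor
  · have h := f.ker.card_mul_index
    rw [index_ker, card_trioStab, hker, Nat.card_congr (subgroupOfEquivOfLe hle).toEquiv] at h
    have h1 : Nat.card ↥f.range ∣ 2661120 := hquot ▸ card_subgroup_dvd_card f.range
    have h2 : Nat.card ↥f.range ∣ 64512 := ⟨_, h.symm.trans (mul_comm _ _)⟩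
    obtain ⟨j, hj⟩ : Nat.card ↥f.range ∣ 16128 := by
      have := Nat.dvd_gcd h2 h1
      rwa [show Nat.gcd 64512 2661120 = 16128 by decide +kernel] at this
    refine ⟨j, Nat.eq_of_mul_eq_mul_right (Nat.card_pos (α := ↥f.range)) ?_⟩
    rw [h, mul_assoc, mul_comm j, ← hj]; norm_num
  · intro k
    obtain ⟨i, hi⟩ := isPGroup_coreC a ⟨κ k, k.2.2⟩
    refine ⟨i, Subtype.ext ?_⟩
    have hi' : κ (k : Equiv.Perm GolayPt) ^ (2 ^ i) = 1 := congrArg Subtype.val hi
    have key : ∀ m : ℕ, κ ((k : Equiv.Perm GolayPt) ^ m) = κ (k : Equiv.Perm GolayPt) ^ m := by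
      intro m
      induction m with
      | zero => rw [pow_zero, pow_zero, S.setup.κ_one]
      | succ m ih => rw [pow_succ, pow_succ, S.setup.kmul _ (pow_mem (trioStab_le k.2.1) m) _ (trioStab_le k.2.1), ih]
    show (k : Equiv.Perm GolayPt) ^ (2 ^ i) = 1
    refine κ_inj S.setup (pow_mem (trioStab_le k.2.1) _) (one_mem _) ?_
    rw [key, hi', S.setup.κ_one]

/-- The kernel of the trio group lies in the core. -/
theorem kerGrp_core {N : Subgroup G} {p : G} (S : Sys z V P κ a) (F : NQFrame a N p)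
    {e : Equiv.Perm GolayPt} (he : e ∈ kerGrp) : κ e ∈ coreC a := by
  haveI : Fact (Nat.Prime 2) := ⟨Nat.prime_two⟩
  obtain ⟨h4, hp0⟩ := coreTrio_card S F
  suffices h : ∃ e ∈ kerGrp, e ≠ 1 ∧ e ∈ coreTrio S by
    obtain ⟨e', he', h1, h2⟩ := h
    exact (kerGrp_le_of_normal (fun t ht n hn => coreTrio_conj S ht hn) he' h1 h2 he).2
  -- the product of the kernel and the group of order eight
  let P1 : Subgroup (Equiv.Perm GolayPt) := kerGrp ⊔ eightGrp
  have hn8 : eightGrp ≤ normalizer (kerGrp : Set (Equiv.Perm GolayPt)) := fun u hu => by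
    rw [mem_normalizer_iff]
    refine fun x => ⟨fun hx => eightGrp_norm hu hx, fun hx => ?_⟩
    have := eightGrp_norm (inv_mem hu) hx
    simpa [mul_assoc] using this
  have hdec : ∀ x ∈ P1, ∃ e ∈ kerGrp, ∃ u ∈ eightGrp, e * u = x := fun x hx => by
    have hx' : x ∈ ((kerGrp ⊔ eightGrp : Subgroup (Equiv.Perm GolayPt)) : Set (Equiv.Perm GolayPt)) := hx
    rw [coe_mul_of_right_le_normalizer_left _ _ hn8] at hx'
    exact hx'
  have hP1le : P1 ≤ trioStab := sup_le kerGrp_le eightGrp_le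
  have hdisj : kerGrp ⊓ eightGrp = ⊥ := by
    rw [eq_bot_iff]
    intro u hu
    exact eightGrp_faithful hu.2 fun e he => kerGrp_comm hu.1 he
  by_cases hmeet : ∃ x ∈ P1, x ≠ 1 ∧ x ∈ coreTrio S
  · obtain ⟨x, hx, hx1, hxc⟩ := hmeet
    obtain ⟨e, he, u, hu, rfl⟩ := hdec x hx
    by_cases hu1 : u = 1
    · subst hu1
      exact ⟨e, he, by simpa using hx1, by simpa using hxc⟩
    obtain ⟨f, hf, hfu⟩ : ∃ f ∈ kerGrp, u * f ≠ f * u := by
      by_contra h
      push Not at h
      exact hu1 (eightGrp_faithful hu h)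
    have hfu' : u * f * u⁻¹ ∈ kerGrp := eightGrp_norm hu hf
    have e1 : e * u * f * (e * u)⁻¹ = u * f * u⁻¹ := by
      calc e * u * f * (e * u)⁻¹ = e * (u * f * u⁻¹) * e⁻¹ := by group
        _ = u * f * u⁻¹ := by rw [kerGrp_comm he hfu', mul_inv_cancel_right]
    refine ⟨u * f * u⁻¹ * f⁻¹, mul_mem hfu' (inv_mem hf), fun h => hfu ?_, ?_⟩
    · exact mul_inv_eq_iff_eq_mul.1 (mul_inv_eq_one.1 h)
    · rw [← e1]
      have := mul_mem hxc (coreTrio_conj S (kerGrp_le hf) (inv_mem hxc))
      convert this using 1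
      group
  · exfalso
    push Not at hmeet
    have hk : IsPGroup 2 ↥kerGrp := IsPGroup.of_card (n := 6) (by rw [card_kerGrp]; norm_num)
    have he8 : IsPGroup 2 ↥eightGrp := IsPGroup.of_card (n := 3) (by rw [card_eightGrp]; norm_num)
    have hP1 : IsPGroup 2 ↥P1 := hk.to_sup_of_normal_left' he8 hn8
    have hn0 : P1 ≤ normalizer (coreTrio S : Set (Equiv.Perm GolayPt)) := fun t ht => by
      rw [mem_normalizer_iff]
      refine fun x => ⟨fun hx => coreTrio_conj S (hP1le ht) hx, fun hx => ?_⟩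
      have := coreTrio_conj S (inv_mem (hP1le ht)) hx
      simpa [mul_assoc] using this
    have hbig : IsPGroup 2 ↥(coreTrio S ⊔ P1 : Subgroup (Equiv.Perm GolayPt)) :=
      hp0.to_sup_of_normal_left' hP1 hn0
    obtain ⟨j, hj⟩ := hbig.exists_card_eq
    have hdvd : 2 ^ j ∣ 64512 := by
      rw [← hj, ← card_trioStab]
      exact card_dvd_of_le (sup_le (fun k hk => hk.1) hP1le)
    let g1 : ↥kerGrp × ↥eightGrp → ↥P1 := fun x => ⟨x.1 * x.2, mul_mem_sup x.1.2 x.2.2⟩
    have hg1 : Function.Injective g1 := by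
      rintro ⟨⟨e, he⟩, ⟨u, hu⟩⟩ ⟨⟨e', he'⟩, ⟨u', hu'⟩⟩ h
      have h' : e * u = e' * u' := congrArg Subtype.val h
      have h1 : e'⁻¹ * e ∈ kerGrp ⊓ eightGrp := by
        refine mem_inf.2 ⟨mul_mem (inv_mem he') he, ?_⟩
        rw [show e'⁻¹ * e = u' * u⁻¹ by
          calc e'⁻¹ * e = e'⁻¹ * (e * u) * u⁻¹ := by group
            _ = u' * u⁻¹ := by rw [h']; group]
        exact mul_mem hu' (inv_mem hu)
      rw [hdisj, mem_bot, inv_mul_eq_one] at h1
      subst h1
      exact Prod.ext rfl (Subtype.ext (mul_left_cancel h'))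
    let g2 : ↥(coreTrio S) × ↥P1 → ↥(coreTrio S ⊔ P1 : Subgroup (Equiv.Perm GolayPt)) :=
      fun x => ⟨x.1 * x.2, mul_mem_sup x.1.2 x.2.2⟩
    have hg2 : Function.Injective g2 := by
      rintro ⟨⟨n, hn⟩, ⟨x, hx⟩⟩ ⟨⟨n', hn'⟩, ⟨x', hx'⟩⟩ h
      have h' : n * x = n' * x' := congrArg Subtype.val h
      have h1 : n'⁻¹ * n = 1 := by
        by_contra h2
        refine hmeet _ ?_ h2 (mul_mem (inv_mem hn') hn)
        rw [show n'⁻¹ * n = x' * x⁻¹ by
          calc n'⁻¹ * n = n'⁻¹ * (n * x) * x⁻¹ := by group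
            _ = x' * x⁻¹ := by rw [h']; group]
        exact mul_mem hx' (inv_mem hx)
      rw [inv_mul_eq_one] at h1
      subst h1
      exact Prod.ext rfl (Subtype.ext (mul_left_cancel h'))
    have c1 := Nat.card_le_card_of_injective g1 hg1
    have c2 := Nat.card_le_card_of_injective g2 hg2
    rw [Nat.card_prod, card_kerGrp, card_eightGrp] at c1
    rw [Nat.card_prod, hj] at c2
    have h4' : 4 ≤ Nat.card ↥(coreTrio S) := Nat.le_of_dvd Nat.card_pos h4
    have hbig' : 2 ^ 11 ≤ 2 ^ j := le_trans (le_of_eq (by norm_num)) ((Nat.mul_le_mul h4' c1).trans c2)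
    have hj11 : 2 ^ 11 ∣ 64512 :=
      (Nat.pow_dvd_pow 2 ((Nat.pow_le_pow_iff_right (by norm_num)).1 hbig')).trans hdvd
    norm_num at hj11

/-- The kernel and `a` together. -/
def bigE (S : Sys z V P κ a) : Subgroup G where
  carrier := {x | ∃ e ∈ kerGrp, x = κ e ∨ x = a * κ e}
  one_mem' := ⟨1, one_mem _, .inl S.setup.κ_one.symm⟩
  mul_mem' := by
    rintro x y ⟨e, he, hx⟩ ⟨f, hf, hy⟩
    have hef := (S.setup.kmul e (kerM he) f (kerM hf)).symm
    have hea : κ e * a = a * κ e := (S.comm e (kerGrp_le he)).eq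
    refine ⟨e * f, mul_mem he hf, ?_⟩
    rcases hx with rfl | rfl <;> rcases hy with rfl | rfl
    · exact .inl hef
    · right; rw [← mul_assoc, hea, mul_assoc, hef]
    · right; rw [mul_assoc, hef]
    · left; rw [mul_assoc, ← mul_assoc (κ e), hea, mul_assoc a (κ e), hef, ← mul_assoc, S.sq, one_mul]
  inv_mem' := by
    rintro x ⟨e, he, hx⟩
    have hee : κ e * κ e = 1 := by rw [← S.setup.kmul e (kerM he) e (kerM he), kerGrp_sq he, S.setup.κ_one]
    refine ⟨e, he, ?_⟩
    rcases hx with rfl | rfl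
    · exact .inl (inv_eq_of_mul_eq_one_left hee)
    · right
      refine inv_eq_of_mul_eq_one_left ?_
      rw [mul_assoc, ← mul_assoc (κ e), (S.comm e (kerGrp_le he)).eq, mul_assoc a (κ e), hee, mul_one, S.sq]

theorem bigE_le {N : Subgroup G} {p : G} (S : Sys z V P κ a) (F : NQFrame a N p) : bigE S ≤ coreC a := by
  rintro x ⟨e, he, rfl | rfl⟩
  · exact kerGrp_core S F he
  · exact mul_mem F.good.mem_self (kerGrp_core S F he)

/-- An element of the core commuting with the kernel is in `bigE`. -/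
theorem mem_bigE {N : Subgroup G} {p : G} (S : Sys z V P κ a) (F : NQFrame a N p) {c : G}
    (hc : c ∈ coreC a) (hcomm : ∀ e ∈ kerGrp, c * κ e = κ e * c) : c ∈ bigE S := by
  set M := (bigE S).subgroupOf (coreC a) with hM
  have haE : a ∈ bigE S := ⟨1, one_mem _, .inr (by rw [S.setup.κ_one, mul_one])⟩
  have hZ : center ↥(coreC a) ≤ M := fun q hq => by
    have hq' : (q : G) ∈ zpowers a := F.good.centre_eq ▸ ⟨q, hq, rfl⟩
    exact mem_subgroupOf.2 (zpowers_le.2 haE hq')
  have h128 : 128 ≤ Nat.card ↥M := by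
    let g : Bool × ↥kerGrp → ↥(bigE S) := fun x =>
      ⟨(if x.1 then a else 1) * κ x.2, ⟨x.2, x.2.2, by cases x.1 <;> simp⟩⟩
    have hg : Function.Injective g := by
      rintro ⟨s, ⟨e, he⟩⟩ ⟨t, ⟨f, hf⟩⟩ h
      have h' : (if s then a else 1) * κ e = (if t then a else 1) * κ f := congrArg Subtype.val h
      have key : ∀ {e f : Equiv.Perm GolayPt}, e ∈ kerGrp → f ∈ kerGrp → a * κ e ≠ κ f := by
        intro e f he hf h
        refine ne_kappa S (mul_mem (kerM hf) (inv_mem (kerM he))) ?_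
        rw [S.setup.kmul _ (kerM hf) _ (inv_mem (kerM he)), S.setup.κ_inv (kerM he), ← h, mul_inv_cancel_right]
      cases s <;> cases t <;> simp only [Bool.false_eq_true, if_false, if_true, one_mul] at h'
      · obtain rfl := κ_inj S.setup (kerM he) (kerM hf) h'; rfl
      · exact absurd h'.symm (key hf he)
      · exact absurd h' (key he hf)
      · obtain rfl := κ_inj S.setup (kerM he) (kerM hf) (mul_left_cancel h'); rfl
    have h := Nat.card_le_card_of_injective g hg
    rw [Nat.card_prod, card_kerGrp, Nat.card_eq_fintype_card (α := Bool), Fintype.card_bool] at h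
    rw [hM, Nat.card_congr (subgroupOfEquivOfLe (bigE_le S F)).toEquiv]
    exact h
  have hmul := card_centralizer_mul_card F.good.2.1 M hZ
  rw [F.good.2.1.2, F.card_core] at hmul
  have hMC : M ≤ centralizer (M : Set ↥(coreC a)) := fun x hx => mem_centralizer_iff.2 fun y hy => by
    obtain ⟨e, he, hxe⟩ := mem_subgroupOf.1 hx
    obtain ⟨f, hf, hye⟩ := mem_subgroupOf.1 (show y ∈ M from hy)
    have hef : κ f * κ e = κ e * κ f := by
      rw [← S.setup.kmul _ (kerM hf) _ (kerM he), kerGrp_comm hf he, S.setup.kmul _ (kerM he) _ (kerM hf)]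
    have cf : Commute (κ f) a := S.comm f (kerGrp_le hf)
    have ce : Commute (κ e) a := S.comm e (kerGrp_le he)
    refine Subtype.ext ?_
    show (y : G) * x = x * y
    have c : Commute (κ f) (κ e) := hef
    rcases hxe with h | h <;> rcases hye with h' | h' <;> rw [h, h']
    · exact c.eq
    · exact (ce.symm.mul_left c).eq
    · exact (cf.mul_right c).eq
    · exact (((Commute.refl a).mul_right ce.symm).mul_left (cf.mul_right c)).eq
  have hle : Nat.card ↥(centralizer (M : Set ↥(coreC a))) ≤ Nat.card ↥M := by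
    by_contra h
    push Not at h
    have h2 := Nat.mul_le_mul (le_trans (show 129 ≤ Nat.card ↥M + 1 by omega) h) h128
    rw [hmul] at h2
    norm_num at h2
  have heq := eq_of_le_of_card_ge hMC hle
  have hcM : (⟨c, hc⟩ : ↥(coreC a)) ∈ M := by
    rw [heq, mem_centralizer_iff]
    intro y hy
    obtain ⟨f, hf, hye⟩ := mem_subgroupOf.1 (show y ∈ M from hy)
    refine Subtype.ext ?_
    show (y : G) * c = c * y
    have hca : c * a = a * c := mem_centralizer_singleton_iff.1 (coreC_le_centralizer a hc)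
    rcases hye with h' | h' <;> rw [h']
    · exact (hcomm f hf).symm
    · exact ((show Commute a c from hca.symm).mul_left (show Commute (κ f) c from (hcomm f hf).symm)).eq
  exact mem_subgroupOf.1 hcM

end CfsgLib.JFourRec.Rel
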