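import Mathlib.Data.List.Basic

/-!
# Lists for the last relation: the kernel of the trio group and auxiliary elements
-/

set_option autoImplicit false

namespace CfsgLib.JFourRec.RelData

/-- The 64 elements of the kernel, the identity first and the element of the relation second. -/
def kerEls : List (List ℕ) := [
  [0, 1, 2, 3, 4, 5, 6, 7, 8, 9, 10, 11, 12, 13, 14, 15, 16, 17, 18, 19, 20, 21, 22, 23],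
  [0, 22, 12, 18, 4, 16, 10, 21, 8, 9, 6, 13, 2, 11, 23, 15, 5, 17, 3, 19, 20, 7, 1, 14],
  [0, 10, 23, 21, 4, 13, 22, 18, 8, 9, 1, 16, 14, 5, 12, 15, 11, 17, 7, 19, 20, 3, 6, 2],
  [0, 18, 5, 22, 4, 2, 21, 10, 8, 9, 7, 14, 16, 23, 11, 15, 12, 17, 1, 19, 20, 6, 3, 13],
  [0, 21, 11, 10, 4, 14, 18, 22, 8, 9, 3, 2, 13, 12, 5, 15, 23, 17, 6, 19, 20, 1, 7, 16],
  [4, 1, 12, 3, 0, 16, 6, 7, 17, 20, 10, 13, 2, 11, 23, 19, 5, 8, 18, 15, 9, 21, 22, 14],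
  [4, 3, 5, 1, 0, 2, 7, 6, 17, 20, 21, 14, 16, 23, 11, 19, 12, 8, 22, 15, 9, 10, 18, 13],
  [4, 10, 14, 21, 0, 11, 22, 18, 17, 20, 1, 5, 23, 16, 2, 19, 13, 8, 7, 15, 9, 3, 6, 12],
  [4, 22, 2, 18, 0, 5, 10, 21, 17, 20, 6, 11, 12, 13, 14, 19, 16, 8, 3, 15, 9, 7, 1, 23],
  [8, 1, 5, 3, 17, 2, 6, 7, 0, 15, 10, 14, 16, 23, 11, 9, 12, 4, 18, 20, 19, 21, 22, 13],
  [8, 3, 12, 1, 17, 16, 7, 6, 0, 15, 21, 13, 2, 11, 23, 9, 5, 4, 22, 20, 19, 10, 18, 14],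
  [8, 7, 23, 6, 17, 13, 3, 1, 0, 15, 18, 16, 14, 5, 12, 9, 11, 4, 10, 20, 19, 22, 21, 2],
  [8, 10, 13, 21, 17, 23, 22, 18, 0, 15, 1, 12, 11, 2, 16, 9, 14, 4, 7, 20, 19, 3, 6, 5],
  [8, 18, 2, 22, 17, 5, 21, 10, 0, 15, 7, 11, 12, 13, 14, 9, 16, 4, 1, 20, 19, 6, 3, 23],
  [8, 21, 14, 10, 17, 11, 18, 22, 0, 15, 3, 5, 23, 16, 2, 9, 13, 4, 6, 20, 19, 1, 7, 12],
  [9, 1, 11, 3, 20, 14, 6, 7, 15, 0, 10, 2, 13, 12, 5, 8, 23, 19, 18, 17, 4, 21, 22, 16],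
  [9, 3, 23, 1, 20, 13, 7, 6, 15, 0, 21, 16, 14, 5, 12, 8, 11, 19, 22, 17, 4, 10, 18, 2],
  [9, 6, 5, 7, 20, 2, 1, 3, 15, 0, 22, 14, 16, 23, 11, 8, 12, 19, 21, 17, 4, 18, 10, 13],
  [9, 7, 12, 6, 20, 16, 3, 1, 15, 0, 18, 13, 2, 11, 23, 8, 5, 19, 10, 17, 4, 22, 21, 14],
  [9, 10, 16, 21, 20, 12, 22, 18, 15, 0, 1, 23, 5, 14, 13, 8, 2, 19, 7, 17, 4, 3, 6, 11],
  [9, 18, 14, 22, 20, 11, 21, 10, 15, 0, 7, 5, 23, 16, 2, 8, 13, 19, 1, 17, 4, 6, 3, 12],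
  [9, 21, 2, 10, 20, 5, 18, 22, 15, 0, 3, 11, 12, 13, 14, 8, 16, 19, 6, 17, 4, 1, 7, 23],
  [9, 22, 13, 18, 20, 23, 10, 21, 15, 0, 6, 12, 11, 2, 16, 8, 14, 19, 3, 17, 4, 7, 1, 5],
  [15, 1, 14, 3, 19, 11, 6, 7, 9, 8, 10, 5, 23, 16, 2, 0, 13, 20, 18, 4, 17, 21, 22, 12],
  [15, 3, 13, 1, 19, 23, 7, 6, 9, 8, 21, 12, 11, 2, 16, 0, 14, 20, 22, 4, 17, 10, 18, 5],
  [15, 6, 2, 7, 19, 5, 1, 3, 9, 8, 22, 11, 12, 13, 14, 0, 16, 20, 21, 4, 17, 18, 10, 23],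
  [15, 7, 16, 6, 19, 12, 3, 1, 9, 8, 18, 23, 5, 14, 13, 0, 2, 20, 10, 4, 17, 22, 21, 11],
  [15, 10, 12, 21, 19, 16, 22, 18, 9, 8, 1, 13, 2, 11, 23, 0, 5, 20, 7, 4, 17, 3, 6, 14],
  [15, 18, 11, 22, 19, 14, 21, 10, 9, 8, 7, 2, 13, 12, 5, 0, 23, 20, 1, 4, 17, 6, 3, 16],
  [15, 21, 5, 10, 19, 2, 18, 22, 9, 8, 3, 14, 16, 23, 11, 0, 12, 20, 6, 4, 17, 1, 7, 13],
  [15, 22, 23, 18, 19, 13, 10, 21, 9, 8, 6, 16, 14, 5, 12, 0, 11, 20, 3, 4, 17, 7, 1, 2],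
  [17, 1, 16, 3, 8, 12, 6, 7, 4, 19, 10, 23, 5, 14, 13, 20, 2, 0, 18, 9, 15, 21, 22, 11],
  [17, 3, 2, 1, 8, 5, 7, 6, 4, 19, 21, 11, 12, 13, 14, 20, 16, 0, 22, 9, 15, 10, 18, 23],
  [17, 6, 13, 7, 8, 23, 1, 3, 4, 19, 22, 12, 11, 2, 16, 20, 14, 0, 21, 9, 15, 18, 10, 5],
  [17, 7, 14, 6, 8, 11, 3, 1, 4, 19, 18, 5, 23, 16, 2, 20, 13, 0, 10, 9, 15, 22, 21, 12],
  [17, 10, 11, 21, 8, 14, 22, 18, 4, 19, 1, 2, 13, 12, 5, 20, 23, 0, 7, 9, 15, 3, 6, 16],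
  [17, 18, 12, 22, 8, 16, 21, 10, 4, 19, 7, 13, 2, 11, 23, 20, 5, 0, 1, 9, 15, 6, 3, 14],
  [17, 21, 23, 10, 8, 13, 18, 22, 4, 19, 3, 16, 14, 5, 12, 20, 11, 0, 6, 9, 15, 1, 7, 2],
  [17, 22, 5, 18, 8, 2, 10, 21, 4, 19, 6, 14, 16, 23, 11, 20, 12, 0, 3, 9, 15, 7, 1, 13],
  [19, 1, 23, 3, 15, 13, 6, 7, 20, 17, 10, 16, 14, 5, 12, 4, 11, 9, 18, 0, 8, 21, 22, 2],
  [19, 3, 11, 1, 15, 14, 7, 6, 20, 17, 21, 2, 13, 12, 5, 4, 23, 9, 22, 0, 8, 10, 18, 16],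
  [19, 6, 12, 7, 15, 16, 1, 3, 20, 17, 22, 13, 2, 11, 23, 4, 5, 9, 21, 0, 8, 18, 10, 14],
  [19, 7, 5, 6, 15, 2, 3, 1, 20, 17, 18, 14, 16, 23, 11, 4, 12, 9, 10, 0, 8, 22, 21, 13],
  [19, 10, 2, 21, 15, 5, 22, 18, 20, 17, 1, 11, 12, 13, 14, 4, 16, 9, 7, 0, 8, 3, 6, 23],
  [19, 18, 13, 22, 15, 23, 21, 10, 20, 17, 7, 12, 11, 2, 16, 4, 14, 9, 1, 0, 8, 6, 3, 5],
  [19, 21, 16, 10, 15, 12, 18, 22, 20, 17, 3, 23, 5, 14, 13, 4, 2, 9, 6, 0, 8, 1, 7, 11],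
  [19, 22, 14, 18, 15, 11, 10, 21, 20, 17, 6, 5, 23, 16, 2, 4, 13, 9, 3, 0, 8, 7, 1, 12],
  [20, 1, 13, 3, 9, 23, 6, 7, 19, 4, 10, 12, 11, 2, 16, 17, 14, 15, 18, 8, 0, 21, 22, 5],
  [20, 3, 14, 1, 9, 11, 7, 6, 19, 4, 21, 5, 23, 16, 2, 17, 13, 15, 22, 8, 0, 10, 18, 12],
  [20, 6, 16, 7, 9, 12, 1, 3, 19, 4, 22, 23, 5, 14, 13, 17, 2, 15, 21, 8, 0, 18, 10, 11],
  [20, 7, 2, 6, 9, 5, 3, 1, 19, 4, 18, 11, 12, 13, 14, 17, 16, 15, 10, 8, 0, 22, 21, 23],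
  [20, 10, 5, 21, 9, 2, 22, 18, 19, 4, 1, 14, 16, 23, 11, 17, 12, 15, 7, 8, 0, 3, 6, 13],
  [20, 18, 23, 22, 9, 13, 21, 10, 19, 4, 7, 16, 14, 5, 12, 17, 11, 15, 1, 8, 0, 6, 3, 2],
  [20, 21, 12, 10, 9, 16, 18, 22, 19, 4, 3, 13, 2, 11, 23, 17, 5, 15, 6, 8, 0, 1, 7, 14],
  [20, 22, 11, 18, 9, 14, 10, 21, 19, 4, 6, 2, 13, 12, 5, 17, 23, 15, 3, 8, 0, 7, 1, 16],
  [0, 3, 16, 1, 4, 12, 7, 6, 8, 9, 21, 23, 5, 14, 13, 15, 2, 17, 22, 19, 20, 10, 18, 11],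
  [0, 6, 14, 7, 4, 11, 1, 3, 8, 9, 22, 5, 23, 16, 2, 15, 13, 17, 21, 19, 20, 18, 10, 12],
  [0, 7, 13, 6, 4, 23, 3, 1, 8, 9, 18, 12, 11, 2, 16, 15, 14, 17, 10, 19, 20, 22, 21, 5],
  [4, 6, 23, 7, 0, 13, 1, 3, 17, 20, 22, 16, 14, 5, 12, 19, 11, 8, 21, 15, 9, 18, 10, 2],
  [4, 7, 11, 6, 0, 14, 3, 1, 17, 20, 18, 2, 13, 12, 5, 19, 23, 8, 10, 15, 9, 22, 21, 16],
  [4, 18, 16, 22, 0, 12, 21, 10, 17, 20, 7, 23, 5, 14, 13, 19, 2, 8, 1, 15, 9, 6, 3, 11],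
  [4, 21, 13, 10, 0, 23, 18, 22, 17, 20, 3, 12, 11, 2, 16, 19, 14, 8, 6, 15, 9, 1, 7, 5],
  [8, 6, 11, 7, 17, 14, 1, 3, 0, 15, 22, 2, 13, 12, 5, 9, 23, 4, 21, 20, 19, 18, 10, 16],
  [8, 22, 16, 18, 17, 12, 10, 21, 0, 15, 6, 23, 5, 14, 13, 9, 2, 4, 3, 20, 19, 7, 1, 11]]

/-- A group of order eight in the trio group, the identity first. -/
def eightEls : List (List ℕ) := [
  [0, 1, 2, 3, 4, 5, 6, 7, 8, 9, 10, 11, 12, 13, 14, 15, 16, 17, 18, 19, 20, 21, 22, 23],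
  [0, 5, 18, 12, 4, 1, 11, 23, 8, 9, 13, 6, 3, 10, 21, 15, 22, 17, 2, 19, 20, 14, 16, 7],
  [15, 7, 2, 6, 8, 23, 3, 1, 4, 19, 10, 12, 11, 13, 14, 0, 16, 20, 18, 9, 17, 21, 22, 5],
  [15, 23, 18, 11, 8, 7, 12, 5, 4, 19, 13, 3, 6, 10, 21, 0, 22, 20, 2, 9, 17, 14, 16, 1],
  [17, 7, 16, 6, 9, 23, 3, 1, 19, 4, 21, 12, 11, 14, 13, 20, 2, 0, 22, 8, 15, 10, 18, 5],
  [17, 23, 22, 11, 9, 7, 12, 5, 19, 4, 14, 3, 6, 21, 10, 20, 18, 0, 16, 8, 15, 13, 2, 1],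
  [20, 1, 16, 3, 19, 5, 6, 7, 9, 8, 21, 11, 12, 14, 13, 17, 2, 15, 22, 4, 0, 10, 18, 23],
  [20, 5, 22, 12, 19, 1, 11, 23, 9, 8, 14, 6, 3, 21, 10, 17, 18, 15, 16, 4, 0, 13, 2, 7]]

/-- Elements of the trio group used to move the kernel. -/
def movers : List (List ℕ) := [
  [7, 19, 16, 9, 21, 12, 17, 0, 10, 3, 8, 13, 5, 11, 23, 22, 2, 6, 20, 1, 18, 4, 15, 14],
  [23, 7, 19, 18, 13, 8, 21, 3, 5, 16, 6, 17, 20, 4, 15, 14, 0, 2, 1, 11, 12, 22, 10, 9],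
  [16, 18, 17, 7, 13, 8, 10, 1, 5, 23, 22, 19, 20, 4, 15, 14, 9, 11, 3, 2, 12, 6, 21, 0],
  [15, 23, 18, 11, 8, 7, 12, 5, 4, 19, 13, 3, 6, 10, 21, 0, 22, 20, 2, 9, 17, 14, 16, 1],
  [17, 7, 16, 6, 9, 23, 3, 1, 19, 4, 21, 12, 11, 14, 13, 20, 2, 0, 22, 8, 15, 10, 18, 5],
  [20, 1, 16, 3, 19, 5, 6, 7, 9, 8, 21, 11, 12, 14, 13, 17, 2, 15, 22, 4, 0, 10, 18, 23]]

/-- For each element of `eightEls` an element of the kernel moved by it. -/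
def movedIdx : List ℕ := [0, 5, 1, 1, 1, 1, 1, 1]

/-- For each kernel element: the mover, the index of the conjugate, whether it is multiplied in, and the index reached. -/
def stepTable : List (ℕ × ℕ × Bool × ℕ) := [
  (0, 0, false, 0),
  (0, 0, false, 0),
  (4, 1, false, 1),
  (3, 2, false, 2),
  (3, 1, false, 1),
  (0, 1, false, 1),
  (2, 7, true, 4),
  (1, 6, false, 6),
  (1, 3, false, 3),
  (0, 3, false, 3),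
  (0, 36, true, 8),
  (1, 33, true, 6),
  (2, 10, false, 10),
  (1, 57, true, 12),
  (5, 7, false, 7),
  (3, 8, false, 8),
  (4, 10, false, 10),
  (1, 54, true, 7),
  (2, 28, true, 12),
  (0, 49, true, 8),
  (2, 54, true, 6),
  (0, 25, true, 13),
  (1, 28, true, 10),
  (0, 4, false, 4),
  (1, 27, true, 4),
  (0, 21, false, 21),
  (0, 45, true, 8),
  (1, 10, false, 10),
  (0, 14, false, 14),
  (3, 27, false, 27),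
  (3, 28, false, 28),
  (1, 39, true, 15),
  (1, 2, false, 2),
  (0, 16, false, 16),
  (0, 40, true, 17),
  (0, 48, true, 29),
  (0, 10, false, 10),
  (0, 24, false, 24),
  (0, 6, false, 6),
  (1, 31, false, 31),
  (0, 34, false, 34),
  (0, 18, false, 18),
  (1, 49, true, 10),
  (0, 50, true, 13),
  (0, 11, false, 11),
  (0, 26, false, 26),
  (0, 59, true, 29),
  (0, 2, false, 2),
  (0, 35, false, 35),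
  (0, 19, false, 19),
  (0, 43, false, 43),
  (1, 48, false, 48),
  (0, 12, false, 12),
  (0, 27, false, 27),
  (0, 7, false, 7),
  (0, 31, false, 31),
  (0, 15, false, 15),
  (0, 39, false, 39),
  (0, 22, false, 22),
  (0, 46, false, 46),
  (0, 63, true, 32),
  (0, 30, false, 30),
  (0, 20, false, 20),
  (0, 60, false, 60)]

/-- Elements carrying the element of the relation to the generators of the kernel. -/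
def genMovers : List (List ℕ) := [
  [17, 18, 14, 10, 0, 2, 1, 7, 20, 19, 3, 5, 13, 12, 11, 4, 16, 15, 21, 8, 9, 6, 22, 23],
  [0, 1, 13, 21, 15, 23, 22, 7, 8, 17, 10, 14, 16, 2, 11, 4, 12, 9, 18, 19, 20, 3, 6, 5],
  [17, 7, 16, 6, 9, 23, 3, 1, 19, 4, 21, 12, 11, 14, 13, 20, 2, 0, 22, 8, 15, 10, 18, 5],
  [7, 19, 16, 9, 21, 12, 17, 0, 10, 3, 8, 13, 5, 11, 23, 22, 2, 6, 20, 1, 18, 4, 15, 14],
  [3, 11, 0, 16, 22, 20, 2, 23, 6, 18, 5, 4, 8, 17, 9, 10, 19, 21, 12, 7, 1, 13, 14, 15],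
  [6, 12, 17, 2, 18, 15, 16, 5, 3, 22, 23, 9, 19, 0, 4, 21, 8, 10, 11, 1, 7, 14, 13, 20]]

/-- The indices of the generators. -/
def genIdx : List ℕ := [55, 56, 2, 5, 9, 15]

/-- Carries the base line to a line through the first neighbour. -/
def kl1L : List ℕ := [15, 7, 23, 21, 22, 5, 6, 10, 1, 3, 4, 16, 2, 14, 13, 20, 11, 19, 17, 18, 9, 0, 8, 12]

end CfsgLib.JFourRec.RelData
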