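import Cfsg.Agent.Lib.JFourRec.Sys
import Cfsg.Agent.Lib.JFourRec.RelCommData
import Cfsg.Agent.Lib.M24Cert.TrioStab
import Cfsg.Agent.Lib.M24Cert.Cent

/-!
# The last relation: facts about the trio group on 24 points

The kernel `kerGrp` of order 64, a group of order eight acting faithfully on it, irreducibility, and the
positions of the trios used.
-/

set_option autoImplicit false
set_option maxRecDepth 100000
set_option Elab.async false

namespace CfsgLib.JFourRec.Rel

open Cfsg CfsgLib.Golay CfsgLib.M24Cert CfsgLib.JankoFour CfsgLib.JFourRec.RelData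
open scoped Pointwise symmDiff

/-- The list lies in the trio group. -/
noncomputable def inTB (L : List ℕ) : Bool := m24B L && fixesL L trioMasks

theorem inTB_spec {L : List ℕ} (h : inTB L = true) : validL 24 L = true ∧ pL L ∈ trioStab := by
  simp only [inTB, Bool.and_eq_true] at h
  obtain ⟨hv, hm⟩ := mem_M24_of_m24B h.1
  exact ⟨hv, hm, MulAction.mem_stabilizer_iff.2 (fixesL_spec hv h.2)⟩

/-- The two lists move the trio to the same trio. -/
noncomputable def congB (A B : List ℕ) : Bool :=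
  validL 24 A && validL 24 B && inTB (compL (invL B) A) && decide (compL B (compL (invL B) A) = A)

theorem congB_spec {A B : List ℕ} (h : congB A B = true) : (pL B)⁻¹ * pL A ∈ trioStab := by
  simp only [congB, Bool.and_eq_true, decide_eq_true_eq] at h
  obtain ⟨⟨⟨hA, hB⟩, hq⟩, he⟩ := h
  obtain ⟨hqv, hqm⟩ := inTB_spec hq
  rw [← he, pL_compL hB hqv, inv_mul_cancel_left]
  exact hqm

/-- Two lists commute. -/
def commL (A B : List ℕ) : Bool := compL A B == compL B A

theorem commL_iff {A B : List ℕ} (hA : validL 24 A = true) (hB : validL 24 B = true) :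
    commL A B = true ↔ pL A * pL B = pL B * pL A := by
  rw [commL, beq_iff_eq, ← pL_compL hA hB, ← pL_compL hB hA]
  exact ⟨fun e => by rw [e], pL_inj (validL_compL hA hB) (validL_compL hB hA)⟩

/-- A nonempty list of valid lists closed under composition. -/
noncomputable def closedB (l : List (List ℕ)) : Bool :=
  l.all fun A => validL 24 A && l.all fun B => l.contains (compL A B)

theorem closedB_spec {l : List (List ℕ)} (h : closedB l = true) :
    (∀ A ∈ l, validL 24 A = true) ∧ ∀ A ∈ l, ∀ B ∈ l, compL A B ∈ l := by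
  simp only [closedB, List.all_eq_true, Bool.and_eq_true, List.contains_iff_mem] at h
  exact ⟨fun A hA => (h A hA).1, fun A hA => (h A hA).2⟩

/-- The group of a closed list. -/
noncomputable def listGrp (l : List (List ℕ)) : Subgroup (Equiv.Perm GolayPt) :=
  Subgroup.closure {g | ∃ A ∈ l, pL A = g}

theorem mem_listGrp {l : List (List ℕ)} (h : closedB l = true) (hid : List.range 24 ∈ l) {g : Equiv.Perm GolayPt} :
    g ∈ listGrp l ↔ ∃ A ∈ l, pL A = g := by
  obtain ⟨hv, hmul⟩ := closedB_spec h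
  refine ⟨fun hg => ?_, fun hg => Subgroup.subset_closure hg⟩
  rw [listGrp, ← Subgroup.mem_toSubmonoid, Subgroup.closure_toSubmonoid_of_finite] at hg
  induction hg using Submonoid.closure_induction with
  | mem x hx => exact hx
  | one => exact ⟨_, hid, pL_range⟩
  | mul x y _ _ hx hy =>
    obtain ⟨A, hA, rfl⟩ := hx
    obtain ⟨B, hB, rfl⟩ := hy
    exact ⟨_, hmul A hA B hB, pL_compL (hv A hA) (hv B hB)⟩

theorem card_listGrp {l : List (List ℕ)} (h : closedB l = true) (hid : List.range 24 ∈ l) (hnd : l.Nodup) :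
    Nat.card ↥(listGrp l) = l.length := by
  refine card_eq_length (closedB_spec h).1 hnd fun g => ?_
  rw [mem_listGrp h hid]
  exact ⟨fun ⟨A, hA, e⟩ => ⟨A, hA, e.symm⟩, fun ⟨A, hA, e⟩ => ⟨A, hA, e.symm⟩⟩

/-- The products of sublists. -/
def spanL : List (List ℕ) → List (List ℕ)
  | [] => [List.range 24]
  | g :: gs => spanL gs ++ (spanL gs).map (compL g)

theorem spanL_mem : ∀ {gs : List (List ℕ)}, (∀ g ∈ gs, validL 24 g = true) → ∀ {K : Subgroup (Equiv.Perm GolayPt)},
    (∀ g ∈ gs, pL g ∈ K) → ∀ A ∈ spanL gs, validL 24 A = true ∧ pL A ∈ K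
  | [], _, K, _, A, hA => by
    rw [spanL, List.mem_singleton] at hA
    subst hA
    exact ⟨by decide, by rw [pL_range]; exact one_mem K⟩
  | g :: gs, hv, K, hK, A, hA => by
    have ih := spanL_mem (gs := gs) (fun x hx => hv x (List.mem_cons_of_mem _ hx)) (K := K)
      fun x hx => hK x (List.mem_cons_of_mem _ hx)
    rcases List.mem_append.1 hA with hA | hA
    · exact ih A hA
    · obtain ⟨B, hB, rfl⟩ := List.mem_map.1 hA
      obtain ⟨h1, h2⟩ := ih B hB
      exact ⟨validL_compL (hv g List.mem_cons_self) h1,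
        by rw [pL_compL (hv g List.mem_cons_self) h1]; exact mul_mem (hK g List.mem_cons_self) h2⟩

theorem ker_closed : closedB kerEls = true := by decide +kernel

theorem ker_checks : kerEls.all inTB = true ∧ List.range 24 ∈ kerEls ∧ kerEls.Nodup ∧ kerEls.length = 64 ∧
    kerEls.getD 1 [] = eAL ∧ kerEls.getD 0 [] = List.range 24 ∧ (kerEls.all fun A => kerEls.all (commL A)) = true ∧
    (kerEls.all fun A => compL A A == List.range 24) = true := by
  refine ⟨?_, ?_, ?_, ?_, ?_, ?_, ?_, ?_⟩ <;> decide +kernel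

theorem eight_closed : closedB eightEls = true := by decide +kernel

theorem eight_checks : eightEls.all inTB = true ∧ List.range 24 ∈ eightEls ∧ eightEls.Nodup ∧
    eightEls.length = 8 ∧ (eightEls.all fun u => kerEls.all fun e => kerEls.any fun f => compL u e == compL f u) = true ∧
    ((List.range 8).all fun i => Nat.beq i 0 ||
      !commL (eightEls.getD i []) (kerEls.getD (movedIdx.getD i 0) [])) = true ∧
    eightEls.getD 0 [] = List.range 24 ∧ movedIdx.all (fun i => decide (i < 64)) = true := by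
  refine ⟨?_, ?_, ?_, ?_, ?_, ?_, ?_, ?_⟩ <;> decide +kernel

theorem move_checks : movers.all inTB = true ∧ genMovers.all inTB = true ∧
    ((List.range 64).all fun i =>
      let s := stepTable.getD i (0, 0, false, 0)
      let k := kerEls.getD s.2.1 []
      let h := movers.getD s.1 []
      decide (i < 2) || (decide (s.1 < movers.length) && decide (s.2.1 < 64) && decide (s.2.2.2 < i) &&
        decide (0 < s.2.2.2) && compL h (kerEls.getD i []) == compL k h &&
        kerEls.getD s.2.2.2 [] == if s.2.2.1 then compL (kerEls.getD i []) k else k)) = true ∧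
    ((List.range 6).all fun i =>
      decide (compL (genMovers.getD i []) eAL = compL (kerEls.getD (genIdx.getD i 0) []) (genMovers.getD i []))) = true ∧
    genMovers.length = 6 ∧ (genIdx.all fun i => decide (i < 64)) = true ∧
    (kerEls.all fun A => (spanL (genIdx.map fun i => kerEls.getD i [])).contains A) = true ∧ genIdx.length = 6 := by
  refine ⟨?_, ?_, ?_, ?_, ?_, ?_, ?_, ?_⟩ <;> decide +kernel

/-- The kernel of the trio group on its octads and sextets. -/
noncomputable def kerGrp : Subgroup (Equiv.Perm GolayPt) := listGrp kerEls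

/-- The group of order eight. -/
noncomputable def eightGrp : Subgroup (Equiv.Perm GolayPt) := listGrp eightEls

theorem mem_kerGrp {g : Equiv.Perm GolayPt} : g ∈ kerGrp ↔ ∃ A ∈ kerEls, pL A = g :=
  mem_listGrp ker_closed ker_checks.2.1

theorem ker_valid {A : List ℕ} (hA : A ∈ kerEls) : validL 24 A = true := (closedB_spec ker_closed).1 A hA

theorem ker_get {i : ℕ} (hi : i < 64) : kerEls.getD i [] ∈ kerEls := by
  rw [List.getD_eq_getElem _ _ (ker_checks.2.2.2.1.symm ▸ hi)]
  exact List.getElem_mem _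

theorem ker_index {A : List ℕ} (hA : A ∈ kerEls) : ∃ i < 64, kerEls.getD i [] = A := by
  obtain ⟨i, hi, rfl⟩ := List.mem_iff_getElem.1 hA
  exact ⟨i, ker_checks.2.2.2.1 ▸ hi, List.getD_eq_getElem _ _ hi⟩

theorem card_kerGrp : Nat.card ↥kerGrp = 64 := by
  rw [kerGrp, card_listGrp ker_closed ker_checks.2.1 ker_checks.2.2.1, ker_checks.2.2.2.1]

theorem card_eightGrp : Nat.card ↥eightGrp = 8 := by
  rw [eightGrp, card_listGrp eight_closed eight_checks.2.1 eight_checks.2.2.1, eight_checks.2.2.2.1]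

theorem kerGrp_le : kerGrp ≤ trioStab := by
  intro g hg
  obtain ⟨A, hA, rfl⟩ := mem_kerGrp.1 hg
  exact (inTB_spec (List.all_eq_true.1 ker_checks.1 A hA)).2

theorem eightGrp_le : eightGrp ≤ trioStab := by
  intro g hg
  obtain ⟨A, hA, rfl⟩ := (mem_listGrp eight_closed eight_checks.2.1).1 hg
  exact (inTB_spec (List.all_eq_true.1 eight_checks.1 A hA)).2

theorem kerGrp_comm {e f : Equiv.Perm GolayPt} (he : e ∈ kerGrp) (hf : f ∈ kerGrp) : e * f = f * e := by
  obtain ⟨A, hA, rfl⟩ := mem_kerGrp.1 he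
  obtain ⟨B, hB, rfl⟩ := mem_kerGrp.1 hf
  exact (commL_iff (ker_valid hA) (ker_valid hB)).1
    (List.all_eq_true.1 (List.all_eq_true.1 ker_checks.2.2.2.2.2.2.1 A hA) B hB)

theorem kerGrp_sq {e : Equiv.Perm GolayPt} (he : e ∈ kerGrp) : e * e = 1 := by
  obtain ⟨A, hA, rfl⟩ := mem_kerGrp.1 he
  rw [← pL_compL (ker_valid hA) (ker_valid hA),
    beq_iff_eq.1 (List.all_eq_true.1 ker_checks.2.2.2.2.2.2.2 A hA), pL_range]

theorem eA_mem_ker : eA ∈ kerGrp :=
  mem_kerGrp.2 ⟨_, ker_get (i := 1) (by norm_num), by rw [ker_checks.2.2.2.2.1]; rfl⟩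

theorem eightGrp_norm {u e : Equiv.Perm GolayPt} (hu : u ∈ eightGrp) (he : e ∈ kerGrp) :
    u * e * u⁻¹ ∈ kerGrp := by
  obtain ⟨A, hA, rfl⟩ := (mem_listGrp eight_closed eight_checks.2.1).1 hu
  obtain ⟨B, hB, rfl⟩ := mem_kerGrp.1 he
  obtain ⟨C, hC, hc⟩ := List.any_eq_true.1 (List.all_eq_true.1 (List.all_eq_true.1 eight_checks.2.2.2.2.1 A hA) B hB)
  refine mem_kerGrp.2 ⟨C, hC, ?_⟩
  have hAv := (closedB_spec eight_closed).1 A hA
  rw [← pL_compL hAv (ker_valid hB), beq_iff_eq.1 hc, pL_compL (ker_valid hC) hAv, mul_inv_cancel_right]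

theorem eightGrp_faithful {u : Equiv.Perm GolayPt} (hu : u ∈ eightGrp)
    (hc : ∀ e ∈ kerGrp, u * e = e * u) : u = 1 := by
  obtain ⟨A, hA, rfl⟩ := (mem_listGrp eight_closed eight_checks.2.1).1 hu
  obtain ⟨i, hi, rfl⟩ := List.mem_iff_getElem.1 hA
  obtain ⟨-, -, -, hlen, -, hmv, h0, hidx⟩ := eight_checks
  rcases Nat.eq_zero_or_pos i with rfl | hpos
  · rw [← List.getD_eq_getElem (d := []) _ hi, h0, pL_range]
  have h := List.all_eq_true.1 hmv i (List.mem_range.2 (hlen ▸ hi))
  simp only [Bool.or_eq_true, Nat.beq_eq, Bool.not_eq_true'] at h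
  have hj : movedIdx.getD i 0 < 64 := by
    rw [List.getD_eq_getElem?_getD]
    cases e : movedIdx[i]? with
    | none => simp
    | some v => simpa using of_decide_eq_true (List.all_eq_true.1 hidx v (List.mem_of_getElem? e))
  have hne := h.resolve_left (by omega)
  rw [List.getD_eq_getElem _ _ hi] at hne
  exfalso
  have := (commL_iff ((closedB_spec eight_closed).1 _ hA) (ker_valid (ker_get hj))).2
    (hc _ (mem_kerGrp.2 ⟨_, ker_get hj, rfl⟩))
  rw [hne] at this
  exact Bool.noConfusion this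

/-- A normal subgroup of the trio group meeting the kernel contains it. -/
theorem kerGrp_le_of_normal {N0 : Subgroup (Equiv.Perm GolayPt)}
    (hN : ∀ t ∈ trioStab, ∀ n ∈ N0, t * n * t⁻¹ ∈ N0) {e : Equiv.Perm GolayPt} (he : e ∈ kerGrp) (he1 : e ≠ 1)
    (hen : e ∈ N0) : kerGrp ≤ N0 := by
  obtain ⟨-, -, -, -, -, h0, -, -⟩ := ker_checks
  obtain ⟨hmov, hgm, hstep, hgen, hgl, hgi, hspan, hgl'⟩ := move_checks
  obtain ⟨A, hA, rfl⟩ := mem_kerGrp.1 he
  obtain ⟨i, hi, rfl⟩ := ker_index hA
  have key : ∀ i < 64, 0 < i → pL (kerEls.getD i []) ∈ N0 → eA ∈ N0 := by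
    intro i
    induction i using Nat.strong_induction_on with
    | _ i ih =>
      intro hi hpos hin
      by_cases h1 : i = 1
      · subst h1; rwa [ker_checks.2.2.2.2.1] at hin
      have h := List.all_eq_true.1 hstep i (List.mem_range.2 hi)
      simp only [Bool.or_eq_true, decide_eq_true_eq, Bool.and_eq_true, beq_iff_eq] at h
      obtain ⟨⟨⟨⟨⟨hh, hk⟩, hj⟩, hj0⟩, hc⟩, ht⟩ := h.resolve_left (by omega)
      set s := stepTable.getD i (0, 0, false, 0)
      have hhm : movers.getD s.1 [] ∈ movers := by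
        rw [List.getD_eq_getElem _ _ hh]; exact List.getElem_mem _
      obtain ⟨hhv, hhT⟩ := inTB_spec (List.all_eq_true.1 hmov _ hhm)
      have hiv := ker_valid (ker_get hi)
      have hkv := ker_valid (ker_get hk)
      have hkn : pL (kerEls.getD s.2.1 []) ∈ N0 := by
        have := hN _ hhT _ hin
        rwa [← pL_compL hhv hiv, hc, pL_compL hkv hhv, mul_inv_cancel_right] at this
      refine ih _ hj (hj.trans hi) hj0 ?_
      rw [ht]
      split_ifs with hp
      · rw [pL_compL hiv hkv]; exact mul_mem hin hkn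
      · exact hkn
  have hpos : 0 < i := Nat.pos_of_ne_zero fun e0 => he1 (by subst e0; rw [h0, pL_range])
  have heA := key i hi hpos hen
  intro g hg
  obtain ⟨B, hB, rfl⟩ := mem_kerGrp.1 hg
  have hgv : ∀ g ∈ genIdx.map (fun i => kerEls.getD i []), validL 24 g = true := by
    intro g hg'
    obtain ⟨j, hj, rfl⟩ := List.mem_map.1 hg'
    exact ker_valid (ker_get (of_decide_eq_true (List.all_eq_true.1 hgi j hj)))
  refine (spanL_mem hgv (fun g hg' => ?_) B
    (List.contains_iff_mem.1 (List.all_eq_true.1 hspan B hB))).2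
  obtain ⟨j, hj, rfl⟩ := List.mem_map.1 hg'
  obtain ⟨k, hk, rfl⟩ := List.mem_iff_getElem.1 hj
  have hk6 : k < 6 := hgl' ▸ hk
  have hc := of_decide_eq_true (List.all_eq_true.1 hgen k (List.mem_range.2 hk6))
  rw [List.getD_eq_getElem (l := genIdx) _ hk] at hc
  have hmm : genMovers.getD k [] ∈ genMovers := by
    rw [List.getD_eq_getElem _ _ (hgl.symm ▸ hk6)]; exact List.getElem_mem _
  obtain ⟨hmv, hmT⟩ := inTB_spec (List.all_eq_true.1 hgm _ hmm)
  have := hN _ hmT _ heA
  rwa [show eA = pL eAL from rfl, ← pL_compL hmv (by decide +kernel), hc,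
    pL_compL (ker_valid (ker_get (of_decide_eq_true (List.all_eq_true.1 hgi _ (List.getElem_mem hk))))) hmv,
    mul_inv_cancel_right] at this

/-- The order of the trio group. -/
theorem card_trioStab : Nat.card ↥trioStab = 64512 := by
  have hobj : triTbl.obj 249 = CfsgLib.JFourRec.trioMasks ∧ 249 < triTbl.N := by decide +kernel
  have hT : trio ∈ trios := by
    have := triTbl_mem 249 hobj.2
    rw [Tbl.el, hobj.1] at this
    exact this
  rw [← card_stab_trio hT]
  exact Nat.card_congr ⟨fun g => ⟨⟨g.1, g.2.1⟩, g.2.2⟩,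
    fun g => ⟨g.1.1, g.1.2, g.2⟩, fun g => rfl, fun g => rfl⟩

end CfsgLib.JFourRec.Rel
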